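import Cfsg.Agent.Helper23.NormalRank
set_option autoImplicit false

namespace Cfsg.Agent.Helper23

theorem isElementaryAbelian_of_le {P : Type*} [Group P] {p : ℕ} {A B : Subgroup P}
    (hB : Cfsg.IsElementaryAbelian p B) (h : A ≤ B) : Cfsg.IsElementaryAbelian p A := by
  obtain ⟨h1, h2⟩ := hB
  rw [isMulCommutative_subgroup_iff] at h1
  refine ⟨?_, fun a ha => h2 a (h ha)⟩
  rw [isMulCommutative_subgroup_iff]
  exact fun a ha b hb => h1 a (h ha) b (h hb)

theorem isElementaryAbelian_sup_of_commute {P : Type*} [Group P] {p : ℕ} {A B : Subgroup P}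
    (hA : Cfsg.IsElementaryAbelian p A) (hB : Cfsg.IsElementaryAbelian p B)
    (hcomm : ∀ a ∈ A, ∀ b ∈ B, a * b = b * a) : Cfsg.IsElementaryAbelian p (A ⊔ B) := by
  obtain ⟨hA1, hA2⟩ := hA
  obtain ⟨hB1, hB2⟩ := hB
  rw [isMulCommutative_subgroup_iff] at hA1 hB1
  refine ⟨?_, ?_⟩
  · rw [isMulCommutative_subgroup_iff]
    intro x hx y hy
    obtain ⟨a1, ha1, b1, hb1, rfl⟩ := (mem_sup_iff_of_commute hcomm).mp hx
    obtain ⟨a2, ha2, b2, hb2, rfl⟩ := (mem_sup_iff_of_commute hcomm).mp hy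
    have c1 : Commute a1 a2 := hA1 a1 ha1 a2 ha2
    have c2 : Commute a1 b2 := hcomm a1 ha1 b2 hb2
    have c3 : Commute b1 a2 := (hcomm a2 ha2 b1 hb1).symm
    have c4 : Commute b1 b2 := hB1 b1 hb1 b2 hb2
    exact ((c1.mul_right c2).mul_left (c3.mul_right c4)).eq
  · intro x hx
    obtain ⟨a1, ha1, b1, hb1, rfl⟩ := (mem_sup_iff_of_commute hcomm).mp hx
    have hc : Commute a1 b1 := hcomm a1 ha1 b1 hb1
    rw [hc.mul_pow, hA2 a1 ha1, hB2 b1 hb1, one_mul]

theorem not_pRankLE_subgroup_iff {P : Type*} [Group P] (p k : ℕ) (C : Subgroup P) :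
    ¬ Cfsg.PRankLE p k ↥C ↔
      ∃ A : Subgroup P, A ≤ C ∧ Cfsg.IsElementaryAbelian p A ∧ p ^ k < Nat.card ↥A := by
  unfold Cfsg.PRankLE
  push Not
  constructor
  · rintro ⟨A', h1, h2, h3⟩
    refine ⟨A'.map C.subtype, ?_, ?_, ?_⟩
    · rintro _ ⟨x, -, rfl⟩; exact x.2
    · exact isElementaryAbelian_map C.subtype ⟨h1, h2⟩
    · rw [Subgroup.card_map_of_injective C.subtype_injective]; exact h3
  · rintro ⟨A, hAC, ⟨h1, h2⟩, h3⟩
    rw [isMulCommutative_subgroup_iff] at h1
    refine ⟨A.subgroupOf C, ?_, ?_, ?_⟩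
    · rw [isMulCommutative_subgroup_iff]
      intro a ha b hb
      rw [Subgroup.mem_subgroupOf] at ha hb
      exact Subtype.ext (h1 _ ha _ hb)
    · intro a ha
      rw [Subgroup.mem_subgroupOf] at ha
      exact Subtype.ext (by simpa using h2 _ ha)
    · rw [Nat.card_congr (Subgroup.subgroupOfEquivOfLe hAC).toEquiv]; exact h3


/-- In a finite `p`-group, a normal elementary abelian subgroup of order `p ^ 2` has a centralizer
of index dividing `p`. -/
theorem index_centralizer_dvd_of_normal_sq {P : Type*} [Group P] [Finite P] {p : ℕ} [Fact p.Prime]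
    (hP : IsPGroup p P) (U : Subgroup P) [hUn : U.Normal] (hUe : Cfsg.IsElementaryAbelian p U)
    (hUc : Nat.card ↥U = p ^ 2) : (Subgroup.centralizer (U : Set P)).index ∣ p := by
  classical
  have hp : p.Prime := Fact.out
  have := Fintype.ofFinite P
  let _ := conjAction (⊤ : Subgroup P)
  have hsmul : ∀ (g : ↥(⊤ : Subgroup P)) (x : P), g • x = (g : P) * x * (g : P)⁻¹ := fun _ _ => rfl
  have hTP : IsPGroup p ↥(⊤ : Subgroup P) := hP.to_subgroup _
  -- index of a stabilizer is a power of p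
  have hpow : ∀ x : P, ∃ m, (MulAction.stabilizer ↥(⊤ : Subgroup P) x).index = p ^ m := by
    intro x
    obtain ⟨n, hn⟩ := hTP.exists_card_eq
    have h1 := Subgroup.index_dvd_card (MulAction.stabilizer ↥(⊤ : Subgroup P) x)
    rw [hn] at h1
    obtain ⟨m, -, hm⟩ := (Nat.dvd_prime_pow hp).mp h1
    exact ⟨m, hm⟩
  -- step 1: a central element in U
  set T : Finset P := Finset.univ.filter (fun x : P => x ∈ U ∧ x ≠ 1) with hT
  have hTcard : T.card = p ^ 2 - 1 := by
    have e : T = (Finset.univ.filter (fun x : P => x ∈ U)) \ {1} := by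
      ext x; simp [hT]
    rw [e, Finset.card_sdiff_of_subset (by simp [U.one_mem]), card_filter_mem_subgroup, hUc]
    simp
  have hTinv : ∀ (g : ↥(⊤ : Subgroup P)), ∀ t ∈ T, g • t ∈ T := by
    intro g t ht
    simp only [hT, Finset.mem_filter, Finset.mem_univ, true_and, hsmul] at ht ⊢
    refine ⟨hUn.conj_mem t ht.1 g, ?_⟩
    intro h
    apply ht.2
    have := congrArg (fun w => (g : P)⁻¹ * w * (g : P)) h
    simpa [mul_assoc] using this
  obtain ⟨z, hzT, hzstab⟩ : ∃ z ∈ T, ¬ p ∣ (MulAction.stabilizer ↥(⊤ : Subgroup P) z).index := by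
    by_contra hcon
    push Not at hcon
    have := dvd_card_of_forall_dvd_index_stabilizer' (α := ↥(⊤ : Subgroup P)) p T.card T rfl hTinv hcon
    rw [hTcard] at this
    have h2 : p ∣ p ^ 2 := dvd_pow_self p two_ne_zero
    have h3 : 1 ≤ p ^ 2 := Nat.one_le_pow _ _ hp.pos
    have h4 : p ∣ 1 := by
      have : p ∣ (p ^ 2 - 1) + 1 := by rw [Nat.sub_add_cancel h3]; exact h2
      exact (Nat.dvd_add_right ‹p ∣ p ^ 2 - 1›).mp this
    exact hp.one_lt.ne' (Nat.dvd_one.mp h4)
  simp only [hT, Finset.mem_filter, Finset.mem_univ, true_and] at hzT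
  obtain ⟨hzU, hz1⟩ := hzT
  have hzc : z ∈ Subgroup.center P := by
    obtain ⟨m, hm⟩ := hpow z
    have hm0 : m = 0 := by
      by_contra h0
      apply hzstab
      rw [hm]; exact dvd_pow_self p h0
    rw [hm0, pow_zero, Subgroup.index_eq_one] at hm
    rw [Subgroup.mem_center_iff]
    intro g
    have hg : (⟨g, trivial⟩ : ↥(⊤ : Subgroup P)) ∈ MulAction.stabilizer ↥(⊤ : Subgroup P) z := by
      rw [hm]; trivial
    rw [MulAction.mem_stabilizer_iff, hsmul] at hg
    have := congrArg (fun w => w * g) hg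
    simpa [mul_assoc] using this
  have hzo : orderOf z = p := by
    have h1 : orderOf z ∣ p := orderOf_dvd_of_pow_eq_one (hUe.2 z hzU)
    rcases (Nat.dvd_prime hp).mp h1 with h | h
    · exact absurd (orderOf_eq_one_iff.mp h) hz1
    · exact h
  set Z := Subgroup.zpowers z with hZ
  have hZU : Z ≤ U := by rw [hZ, Subgroup.zpowers_le]; exact hzU
  have hZcard : Nat.card ↥Z = p := by rw [hZ, Nat.card_zpowers, hzo]
  -- step 2: y in U outside Z
  obtain ⟨y, hyU, hyZ⟩ : ∃ y ∈ U, y ∉ Z := by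
    by_contra hcon
    push Not at hcon
    have hUZ : U ≤ Z := hcon
    have := Subgroup.card_le_of_le hUZ
    rw [hUc, hZcard] at this
    have h5 : p < p ^ 2 := by
      rw [sq]; exact lt_mul_of_one_lt_left hp.pos hp.one_lt
    omega
  obtain ⟨hv1, hv2⟩ := vtx_two_of_central hp hzc hzo (hUe.2 y hyU) hyZ
  have hUeq : Z ⊔ Subgroup.zpowers y = U := by
    apply Subgroup.eq_of_le_of_card_ge (sup_le hZU (by rw [Subgroup.zpowers_le]; exact hyU))
    rw [hUc, hv2]
  -- step 3: orbit of y
  set T' : Finset P := Finset.univ.filter (fun x : P => x ∈ U ∧ x ∉ Z) with hT'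
  have hT'card : T'.card = p ^ 2 - p := by
    have e : T' = (Finset.univ.filter (fun x : P => x ∈ U)) \ (Finset.univ.filter (fun x : P => x ∈ Z)) := by
      ext x; simp [hT']
    rw [e, Finset.card_sdiff_of_subset ?_, card_filter_mem_subgroup, card_filter_mem_subgroup, hUc, hZcard]
    intro x hx
    simp only [Finset.mem_filter, Finset.mem_univ, true_and] at hx ⊢
    exact hZU hx
  have horb : MulAction.orbit ↥(⊤ : Subgroup P) y ⊆ (T' : Set P) := by
    rintro _ ⟨g, rfl⟩
    simp only [hT', Finset.coe_filter, Finset.mem_univ, true_and, Set.mem_ofPred_eq]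
    show (g : P) * y * (g : P)⁻¹ ∈ U ∧ (g : P) * y * (g : P)⁻¹ ∉ Z
    refine ⟨hUn.conj_mem y hyU g, ?_⟩
    intro h
    apply hyZ
    obtain ⟨m, hm⟩ := h
    refine ⟨m, ?_⟩
    have hzm : z ^ m ∈ Subgroup.center P := Subgroup.zpow_mem _ hzc m
    have h1 : (g : P) * y * (g : P)⁻¹ = z ^ m := hm.symm
    have h2 := Subgroup.mem_center_iff.mp hzm (g : P)
    have : y = (g : P)⁻¹ * (z ^ m) * (g : P) := by rw [← h1]; simp [mul_assoc]
    rw [this, mul_assoc, ← h2, inv_mul_cancel_left]
  have hidx : (MulAction.stabilizer ↥(⊤ : Subgroup P) y).index ∣ p := by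
    obtain ⟨m, hm⟩ := hpow y
    have h1 : (MulAction.stabilizer ↥(⊤ : Subgroup P) y).index ≤ p ^ 2 - p := by
      rw [MulAction.index_stabilizer, ← hT'card, ← Set.ncard_coe_finset]
      exact Set.ncard_le_ncard horb (Finset.finite_toSet _)
    rw [hm] at h1 ⊢
    have hm2 : m < 2 := by
      by_contra h
      have h2 : 2 ≤ m := by omega
      have h6 := Nat.pow_le_pow_right hp.pos h2
      have h3 : 0 < p := hp.pos
      have h5 : 0 < p ^ 2 := pow_pos hp.pos 2
      have h7 : p ^ 2 ≤ p ^ 2 - p := le_trans h6 h1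
      omega
    interval_cases m
    · simp
    · simp
  -- step 4: stabilizer of y corresponds to the centralizer of U
  have hstab : (MulAction.stabilizer ↥(⊤ : Subgroup P) y) =
      (Subgroup.centralizer (U : Set P)).subgroupOf ⊤ := by
    ext g
    rw [MulAction.mem_stabilizer_iff, hsmul, Subgroup.mem_subgroupOf, Subgroup.mem_centralizer_iff]
    constructor
    · intro h u hu
      have hgy : (g : P) * y = y * (g : P) := by
        have := congrArg (fun w => w * (g : P)) h
        simpa [mul_assoc] using this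
      rw [← hUeq] at hu
      have hcomm : ∀ a ∈ Z, ∀ b ∈ Subgroup.zpowers y, a * b = b * a := by
        rintro _ ⟨m, rfl⟩ _ ⟨n, rfl⟩
        have h1 : Commute z y := (Subgroup.mem_center_iff.mp hzc y).symm
        exact (h1.zpow_zpow m n).eq
      obtain ⟨a, ha, b, hb, rfl⟩ := (mem_sup_iff_of_commute hcomm).mp hu
      obtain ⟨m, rfl⟩ := ha
      obtain ⟨n, rfl⟩ := hb
      have c1 : Commute (g : P) (z ^ m) :=
        (Subgroup.mem_center_iff.mp (Subgroup.zpow_mem _ hzc m) (g : P))
      have c2 : Commute (g : P) (y ^ n) := (show Commute (g : P) y from hgy).zpow_right n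
      exact ((c1.mul_right c2).eq).symm
    · intro h
      have := h y hyU
      rw [← this]; simp [mul_assoc]
  rw [hstab] at hidx
  have : ((Subgroup.centralizer (U : Set P)).subgroupOf ⊤).index =
      (Subgroup.centralizer (U : Set P)).index := by
    show (Subgroup.centralizer (U : Set P)).relIndex ⊤ = _
    exact Subgroup.relIndex_top_right _
  rwa [this] at hidx

end Cfsg.Agent.Helper23
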