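import Cfsg.Agent.Helper23.Basic

set_option autoImplicit false

namespace Cfsg.Agent.Helper23

open Relation

/-- vertex of the rank-`k` commuting graph -/
def Vtx {G : Type*} [Group G] (p k : ℕ) (A : Subgroup G) : Prop :=
  Cfsg.IsElementaryAbelian p A ∧ p ^ k ≤ Nat.card ↥A

/-- adjacency in the rank-`k` commuting graph (literally the relation in `IsKConnected`) -/
def Adj {G : Type*} [Group G] (p k : ℕ) (A B : Subgroup G) : Prop :=
  Cfsg.IsElementaryAbelian p A ∧ p ^ k ≤ Nat.card ↥A ∧ Cfsg.IsElementaryAbelian p B ∧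
    p ^ k ≤ Nat.card ↥B ∧ ∀ a ∈ A, ∀ b ∈ B, a * b = b * a

theorem isKConnected_iff {G : Type*} [Group G] (p k : ℕ) :
    Cfsg.IsKConnected p k G ↔
      ∀ E E' : Subgroup G, Vtx p k E → Vtx p k E' → ReflTransGen (Adj p k) E E' := by
  constructor
  · intro h E E' hE hE'
    exact h E E' hE.1 hE.2 hE'.1 hE'.2
  · intro h E E' h1 h2 h3 h4
    exact h E E' ⟨h1, h2⟩ ⟨h3, h4⟩

theorem adj_iff {G : Type*} [Group G] (p k : ℕ) (A B : Subgroup G) :
    Adj p k A B ↔ Vtx p k A ∧ Vtx p k B ∧ ∀ a ∈ A, ∀ b ∈ B, a * b = b * a := by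
  unfold Adj Vtx
  tauto

theorem adj_symm {G : Type*} [Group G] {p k : ℕ} {A B : Subgroup G} (h : Adj p k A B) :
    Adj p k B A := by
  obtain ⟨h1, h2, h3, h4, h5⟩ := h
  exact ⟨h3, h4, h1, h2, fun b hb a ha => (h5 a ha b hb).symm⟩

theorem conn_symm {G : Type*} [Group G] {p k : ℕ} {A B : Subgroup G}
    (h : ReflTransGen (Adj p k) A B) : ReflTransGen (Adj p k) B A := by
  induction h with
  | refl => exact ReflTransGen.refl
  | tail _ hbc ih => exact ReflTransGen.head (adj_symm hbc) ih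

theorem isElementaryAbelian_map {G G' : Type*} [Group G] [Group G'] {p : ℕ} (f : G →* G')
    {A : Subgroup G} (h : Cfsg.IsElementaryAbelian p A) : Cfsg.IsElementaryAbelian p (A.map f) := by
  obtain ⟨h1, h2⟩ := h
  rw [isMulCommutative_subgroup_iff] at h1
  refine ⟨?_, ?_⟩
  · rw [isMulCommutative_subgroup_iff]
    rintro _ ⟨a, ha, rfl⟩ _ ⟨b, hb, rfl⟩
    rw [← map_mul, ← map_mul, h1 a ha b hb]
  · rintro _ ⟨a, ha, rfl⟩
    rw [← map_pow, h2 a ha, map_one]

theorem vtx_map {G G' : Type*} [Group G] [Group G'] {p k : ℕ} (f : G →* G')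
    (hf : Function.Injective f) {A : Subgroup G} (h : Vtx p k A) : Vtx p k (A.map f) :=
  ⟨isElementaryAbelian_map f h.1, by rw [Subgroup.card_map_of_injective hf]; exact h.2⟩

theorem adj_map {G G' : Type*} [Group G] [Group G'] {p k : ℕ} (f : G →* G')
    (hf : Function.Injective f) {A B : Subgroup G} (h : Adj p k A B) :
    Adj p k (A.map f) (B.map f) := by
  rw [adj_iff] at h ⊢
  refine ⟨vtx_map f hf h.1, vtx_map f hf h.2.1, ?_⟩
  rintro _ ⟨a, ha, rfl⟩ _ ⟨b, hb, rfl⟩
  rw [← map_mul, ← map_mul, h.2.2 a ha b hb]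

theorem conn_map {G G' : Type*} [Group G] [Group G'] {p k : ℕ} (f : G →* G')
    (hf : Function.Injective f) {A B : Subgroup G} (h : ReflTransGen (Adj p k) A B) :
    ReflTransGen (Adj p k) (A.map f) (B.map f) := by
  induction h with
  | refl => exact ReflTransGen.refl
  | tail _ hbc ih => exact ReflTransGen.tail ih (adj_map f hf hbc)

/-- conjugate of a subgroup, in the form used by the statements -/
abbrev cj {G : Type*} [Group G] (g : G) (A : Subgroup G) : Subgroup G :=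
  A.map (MulAut.conj g).toMonoidHom

theorem cj_one {G : Type*} [Group G] (A : Subgroup G) : cj 1 A = A := by
  ext x; simp [cj]

theorem cj_mul {G : Type*} [Group G] (g h : G) (A : Subgroup G) : cj (g * h) A = cj g (cj h A) := by
  ext x
  simp only [cj, Subgroup.mem_map, MulEquiv.coe_toMonoidHom, MulAut.conj_apply, exists_exists_and_eq_and]
  constructor
  · rintro ⟨a, ha, rfl⟩; exact ⟨a, ha, by simp [mul_assoc]⟩
  · rintro ⟨a, ha, rfl⟩; exact ⟨a, ha, by simp [mul_assoc]⟩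

theorem cj_inv_cj {G : Type*} [Group G] (g : G) (A : Subgroup G) : cj g⁻¹ (cj g A) = A := by
  rw [← cj_mul, inv_mul_cancel, cj_one]

theorem cj_cj_inv {G : Type*} [Group G] (g : G) (A : Subgroup G) : cj g (cj g⁻¹ A) = A := by
  rw [← cj_mul, mul_inv_cancel, cj_one]

theorem mem_cj {G : Type*} [Group G] {g x : G} {A : Subgroup G} :
    x ∈ cj g A ↔ g⁻¹ * x * g ∈ A := by
  simp only [cj, Subgroup.mem_map, MulEquiv.coe_toMonoidHom, MulAut.conj_apply]
  constructor
  · rintro ⟨a, ha, rfl⟩; simpa [mul_assoc] using ha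
  · intro h; exact ⟨_, h, by simp [mul_assoc]⟩

theorem conj_mem_cj {G : Type*} [Group G] {g a : G} {A : Subgroup G} (ha : a ∈ A) :
    g * a * g⁻¹ ∈ cj g A := by
  rw [mem_cj]; simpa [mul_assoc] using ha

theorem cj_mono {G : Type*} [Group G] (g : G) {A B : Subgroup G} (h : A ≤ B) : cj g A ≤ cj g B :=
  Subgroup.map_mono h

theorem cj_of_mem {G : Type*} [Group G] {g : G} {A : Subgroup G} (hg : g ∈ A) : cj g A = A := by
  ext x
  rw [mem_cj]
  constructor
  · intro h
    have := A.mul_mem (A.mul_mem hg h) (A.inv_mem hg)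
    simpa [mul_assoc] using this
  · intro h
    exact A.mul_mem (A.mul_mem (A.inv_mem hg) h) hg

theorem conn_cj {G : Type*} [Group G] {p k : ℕ} (g : G) {A B : Subgroup G}
    (h : ReflTransGen (Adj p k) A B) : ReflTransGen (Adj p k) (cj g A) (cj g B) :=
  conn_map _ (MulAut.conj g).injective h

theorem vtx_cj {G : Type*} [Group G] {p k : ℕ} (g : G) {A : Subgroup G}
    (h : Vtx p k A) : Vtx p k (cj g A) :=
  vtx_map _ (MulAut.conj g).injective h


theorem vtx_zpowers {G : Type*} [Group G] {p : ℕ} {x : G} (hx : orderOf x = p) :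
    Vtx p 1 (Subgroup.zpowers x) := by
  refine ⟨⟨?_, ?_⟩, ?_⟩
  · rw [isMulCommutative_subgroup_iff]
    rintro _ ⟨m, rfl⟩ _ ⟨n, rfl⟩
    exact (Commute.zpow_zpow_self x m n).eq
  · rintro _ ⟨m, rfl⟩
    show (x ^ m) ^ p = 1
    rw [← zpow_natCast, ← zpow_mul, mul_comm, zpow_mul, zpow_natCast, ← hx, pow_orderOf_eq_one, one_zpow]
  · rw [Nat.card_zpowers, hx, pow_one]

theorem exists_orderOf_eq_of_vtx {G : Type*} [Group G] {p : ℕ} (hp : p.Prime) {A : Subgroup G}
    (h : Vtx p 1 A) : ∃ a ∈ A, orderOf a = p := by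
  obtain ⟨⟨-, hexp⟩, hcard⟩ := h
  rw [pow_one] at hcard
  have h2 : 1 < Nat.card ↥A := lt_of_lt_of_le hp.one_lt hcard
  have : Finite ↥A := Nat.finite_of_card_ne_zero (by omega)
  have : Nontrivial ↥A := Finite.one_lt_card_iff_nontrivial.mp h2
  obtain ⟨⟨a, ha⟩, hane⟩ := exists_ne (1 : ↥A)
  refine ⟨a, ha, ?_⟩
  have h1 : orderOf a ∣ p := orderOf_dvd_of_pow_eq_one (hexp a ha)
  rcases (Nat.dvd_prime hp).mp h1 with h | h
  · exfalso; apply hane; apply Subtype.ext; exact orderOf_eq_one_iff.mp h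
  · exact h

theorem conn_of_le_pGroup {G : Type*} [Group G] [Finite G] {p : ℕ} [Fact p.Prime]
    {P A B : Subgroup G} (hP : IsPGroup p ↥P) (hA : A ≤ P) (hB : B ≤ P)
    (hvA : Vtx p 1 A) (hvB : Vtx p 1 B) : ReflTransGen (Adj p 1) A B := by
  have hp : p.Prime := Fact.out
  obtain ⟨a, ha, hao⟩ := exists_orderOf_eq_of_vtx hp hvA
  have : Nontrivial ↥P := ⟨⟨⟨a, hA ha⟩, 1, fun h => by
    have : a = 1 := congrArg Subtype.val h
    rw [this, orderOf_one] at hao
    exact hp.ne_one hao.symm⟩⟩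
  have := hP.center_nontrivial
  have hZ : IsPGroup p ↥(Subgroup.center ↥P) := hP.to_subgroup _
  have hdvd : p ∣ Nat.card ↥(Subgroup.center ↥P) := by
    rcases hZ.card_eq_or_dvd with h | h
    · exfalso
      have := Finite.one_lt_card (α := ↥(Subgroup.center ↥P))
      omega
    · exact h
  obtain ⟨⟨z, hz⟩, hzo⟩ := exists_prime_orderOf_dvd_card' p hdvd
  have hzo' : orderOf (z : G) = p := by
    rw [← hzo]
    rw [← Subgroup.orderOf_coe, ← Subgroup.orderOf_coe]
  have hvZ : Vtx p 1 (Subgroup.zpowers (z : G)) := vtx_zpowers hzo'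
  have hcomm : ∀ x ∈ P, ∀ y ∈ Subgroup.zpowers (z : G), x * y = y * x := by
    rintro x hx _ ⟨m, rfl⟩
    rw [Subgroup.mem_center_iff] at hz
    have h1 := hz ⟨x, hx⟩
    have h2 : x * (z : G) = (z : G) * x := congrArg Subtype.val h1
    exact ((Commute.zpow_right (show Commute x (z : G) from h2) m)).eq
  refine ReflTransGen.tail (ReflTransGen.single (b := Subgroup.zpowers (z : G)) ?_) ?_
  · rw [adj_iff]; exact ⟨hvA, hvZ, fun x hx y hy => hcomm x (hA hx) y hy⟩
  · rw [adj_iff]; exact ⟨hvZ, hvB, fun y hy x hx => (hcomm x (hB hx) y hy).symm⟩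

end Cfsg.Agent.Helper23
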