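import Cfsg.Agent.Helper23.Basic

set_option autoImplicit false

namespace Cfsg.Agent.Helper23

theorem mem_sup_iff_of_le_normalizer {G : Type*} [Group G] {N H : Subgroup G}
    (h : H ≤ Subgroup.normalizer (N : Set G)) {x : G} :
    x ∈ N ⊔ H ↔ ∃ a ∈ N, ∃ b ∈ H, x = a * b := by
  rw [← SetLike.mem_coe, Subgroup.coe_mul_of_right_le_normalizer_left N H h, Set.mem_mul]
  constructor
  · rintro ⟨a, ha, b, hb, rfl⟩; exact ⟨a, ha, b, hb, rfl⟩
  · rintro ⟨a, ha, b, hb, rfl⟩; exact ⟨a, ha, b, hb, rfl⟩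

theorem le_normalizer_of_commute {G : Type*} [Group G] {H K : Subgroup G}
    (h : ∀ a ∈ H, ∀ b ∈ K, a * b = b * a) : K ≤ Subgroup.normalizer (H : Set G) := by
  intro b hb
  rw [Subgroup.mem_normalizer_iff]
  intro a
  constructor
  · intro ha
    have : b * a * b⁻¹ = a := by rw [← h a ha b hb, mul_inv_cancel_right]
    rwa [this]
  · intro ha
    have h1 := h _ ha b hb
    have : b * a * b⁻¹ = a := by
      have : b * a * b⁻¹ * b = b * (b * a * b⁻¹) := h1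
      simp only [inv_mul_cancel_right] at this
      have h2 : a = b * a * b⁻¹ := mul_left_cancel this
      exact h2.symm
    rwa [this] at ha

theorem mem_sup_iff_of_commute {G : Type*} [Group G] {H K : Subgroup G}
    (h : ∀ a ∈ H, ∀ b ∈ K, a * b = b * a) {x : G} :
    x ∈ H ⊔ K ↔ ∃ a ∈ H, ∃ b ∈ K, x = a * b :=
  mem_sup_iff_of_le_normalizer (le_normalizer_of_commute h)

theorem card_sup_of_disjoint_of_le_normalizer {G : Type*} [Group G] {N H : Subgroup G}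
    (hd : N ⊓ H = ⊥) (h : H ≤ Subgroup.normalizer (N : Set G)) :
    Nat.card ↥(N ⊔ H) = Nat.card N * Nat.card H := by
  rw [← Nat.card_prod]
  symm
  refine Nat.card_congr (Equiv.ofBijective
    (fun ab : N × H => (⟨(ab.1 : G) * (ab.2 : G),
      (mem_sup_iff_of_le_normalizer h).mpr ⟨ab.1, ab.1.2, ab.2, ab.2.2, rfl⟩⟩ : ↥(N ⊔ H))) ⟨?_, ?_⟩)
  · rintro ⟨⟨a, ha⟩, ⟨b, hb⟩⟩ ⟨⟨a', ha'⟩, ⟨b', hb'⟩⟩ heq
    have heq' : a * b = a' * b' := congrArg Subtype.val heq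
    have h1 : a'⁻¹ * a = b' * b⁻¹ := by
      rw [eq_mul_inv_iff_mul_eq, mul_assoc, heq', inv_mul_cancel_left]
    have h2 : a'⁻¹ * a ∈ N ⊓ H := ⟨N.mul_mem (N.inv_mem ha') ha, by rw [h1]; exact H.mul_mem hb' (H.inv_mem hb)⟩
    rw [hd, Subgroup.mem_bot] at h2
    have h3 : a = a' := by
      have := inv_mul_eq_one.mp h2
      exact this.symm
    subst h3
    have h4 : b = b' := mul_left_cancel heq'
    subst h4
    rfl
  · rintro ⟨x, hx⟩
    obtain ⟨a, ha, b, hb, rfl⟩ := (mem_sup_iff_of_le_normalizer h).mp hx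
    exact ⟨⟨⟨a, ha⟩, ⟨b, hb⟩⟩, rfl⟩

end Cfsg.Agent.Helper23
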