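import Cfsg.Agent.Helper23.OrbitDvd
import Cfsg.Agent.Helper23.Conn
import Cfsg.Agent.Helper23.Sup

set_option autoImplicit false

namespace Cfsg.Agent.Helper23

/-- right multiplication action of a subgroup -/
def rmulAction {P : Type*} [Group P] (B : Subgroup P) : MulAction ↥B P where
  smul b x := x * (b : P)⁻¹
  one_smul x := by show x * ((1 : ↥B) : P)⁻¹ = x; simp
  mul_smul b b' x := by
    show x * ((b * b' : ↥B) : P)⁻¹ = x * (b' : P)⁻¹ * (b : P)⁻¹
    simp [mul_assoc]

/-- conjugation action of a subgroup -/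
def conjAction {P : Type*} [Group P] (A : Subgroup P) : MulAction ↥A P where
  smul a x := (a : P) * x * (a : P)⁻¹
  one_smul x := by show ((1 : ↥A) : P) * x * ((1 : ↥A) : P)⁻¹ = x; simp
  mul_smul a a' x := by
    show ((a * a' : ↥A) : P) * x * ((a * a' : ↥A) : P)⁻¹ = (a : P) * ((a' : P) * x * (a' : P)⁻¹) * (a : P)⁻¹
    simp [mul_assoc]

theorem centralizer_singleton_conj_of_comm {P : Type*} [Group P] {A : Subgroup P}
    (hAc : ∀ a ∈ A, ∀ b ∈ A, a * b = b * a) {a : P} (ha : a ∈ A) (x : P) :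
    A ⊓ Subgroup.centralizer {a * x * a⁻¹} = A ⊓ Subgroup.centralizer {x} := by
  ext c
  simp only [Subgroup.mem_inf, Subgroup.mem_centralizer_iff, Set.mem_singleton_iff, forall_eq]
  constructor
  · rintro ⟨hc, h⟩
    refine ⟨hc, ?_⟩
    have hca := hAc c hc a ha
    have h1 : a * x * a⁻¹ * c = c * (a * x * a⁻¹) := h
    have h2 : a⁻¹ * c = c * a⁻¹ := by
      rw [eq_mul_inv_iff_mul_eq, mul_assoc, hca, inv_mul_cancel_left]
    have h3 : a * (x * c) * a⁻¹ = a * (c * x) * a⁻¹ := by
      calc a * (x * c) * a⁻¹ = a * x * (c * a⁻¹) := by simp [mul_assoc]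
        _ = a * x * (a⁻¹ * c) := by rw [h2]
        _ = a * x * a⁻¹ * c := by simp [mul_assoc]
        _ = c * (a * x * a⁻¹) := h1
        _ = (c * a) * x * a⁻¹ := by simp [mul_assoc]
        _ = (a * c) * x * a⁻¹ := by rw [hca]
        _ = a * (c * x) * a⁻¹ := by simp [mul_assoc]
    exact mul_left_cancel (mul_right_cancel h3)
  · rintro ⟨hc, h⟩
    refine ⟨hc, ?_⟩
    have hca := hAc c hc a ha
    have h2 : a⁻¹ * c = c * a⁻¹ := by
      rw [eq_mul_inv_iff_mul_eq, mul_assoc, hca, inv_mul_cancel_left]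
    have hx : x * c = c * x := h
    calc a * x * a⁻¹ * c = a * x * (a⁻¹ * c) := by simp [mul_assoc]
      _ = a * x * (c * a⁻¹) := by rw [h2]
      _ = a * (x * c) * a⁻¹ := by simp [mul_assoc]
      _ = a * (c * x) * a⁻¹ := by rw [hx]
      _ = (a * c) * x * a⁻¹ := by simp [mul_assoc]
      _ = (c * a) * x * a⁻¹ := by rw [hca]
      _ = c * (a * x * a⁻¹) := by simp [mul_assoc]

theorem centralizer_singleton_mul_of_comm {P : Type*} [Group P] {A : Subgroup P}
    (hAc : ∀ a ∈ A, ∀ b ∈ A, a * b = b * a) {b : P} (hb : b ∈ A) (x : P) :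
    A ⊓ Subgroup.centralizer {x * b} = A ⊓ Subgroup.centralizer {x} := by
  ext c
  simp only [Subgroup.mem_inf, Subgroup.mem_centralizer_iff, Set.mem_singleton_iff, forall_eq]
  constructor
  · rintro ⟨hc, h⟩
    refine ⟨hc, ?_⟩
    have hcb := hAc c hc b hb
    have h1 : x * b * c = c * (x * b) := h
    have h3 : x * c * b = c * x * b := by
      calc x * c * b = x * (c * b) := by simp [mul_assoc]
        _ = x * (b * c) := by rw [hcb]
        _ = x * b * c := by simp [mul_assoc]
        _ = c * (x * b) := h1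
        _ = c * x * b := by simp [mul_assoc]
    exact mul_right_cancel h3
  · rintro ⟨hc, h⟩
    refine ⟨hc, ?_⟩
    have hcb := hAc c hc b hb
    have hx : x * c = c * x := h
    calc x * b * c = x * (b * c) := by simp [mul_assoc]
      _ = x * (c * b) := by rw [hcb]
      _ = (x * c) * b := by simp [mul_assoc]
      _ = (c * x) * b := by rw [hx]
      _ = c * (x * b) := by simp [mul_assoc]


theorem sq_dvd_card_pow_eq_one {P : Type*} [Group P] [Fintype P] [DecidableEq P] (p : ℕ) [Fact p.Prime]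
    (A : Subgroup P) (hAc : ∀ a ∈ A, ∀ b ∈ A, a * b = b * a) (hAe : ∀ a ∈ A, a ^ p = 1)
    (k : ℕ) (hk : 3 ≤ k) (hA : Nat.card A = p ^ k) :
    p ^ 2 ∣ (Finset.univ.filter (fun x : P => x ^ p = 1)).card := by
  classical
  have hp : p.Prime := Fact.out
  have : Fintype (Subgroup P) := Fintype.ofFinite _
  set Ω : Finset P := Finset.univ.filter (fun x => x ^ p = 1) with hΩ
  let f : P → Subgroup P := fun x => A ⊓ Subgroup.centralizer {x}
  rw [Finset.card_eq_sum_card_fiberwise (f := f) (t := Finset.univ) (fun x _ => Finset.mem_univ _)]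
  apply Finset.dvd_sum
  intro B _
  set T := Ω.filter (fun x => f x = B) with hT
  have hT_mem : ∀ x, x ∈ T ↔ x ^ p = 1 ∧ A ⊓ Subgroup.centralizer {x} = B := by
    intro x
    simp [hT, hΩ, f]
  by_cases hne : T.Nonempty
  swap
  · rw [Finset.not_nonempty_iff_eq_empty] at hne; rw [hne]; simp
  obtain ⟨x₀, hx₀⟩ := hne
  have hBA : B ≤ A := by
    rw [← ((hT_mem x₀).mp hx₀).2]; exact inf_le_left
  have h1 : Nat.card B * B.relIndex A = Nat.card A := by
    have := Subgroup.relIndex_mul_relIndex ⊥ B A bot_le hBA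
    rwa [Subgroup.relIndex_bot_left, Subgroup.relIndex_bot_left] at this
  rw [hA] at h1
  obtain ⟨i, -, hi⟩ := (Nat.dvd_prime_pow hp).mp (Dvd.intro _ h1)
  obtain ⟨j, -, hj⟩ := (Nat.dvd_prime_pow hp).mp (Dvd.intro_left _ h1)
  have hij : i + j = k := by
    rw [hi, hj, ← pow_add] at h1
    exact Nat.pow_right_injective hp.two_le h1
  rcases (by omega : 2 ≤ i ∨ 2 ≤ j) with h | h
  · -- right multiplication by B
    let _ := rmulAction B
    have hsmul : ∀ (b : ↥B) (x : P), b • x = x * (b : P)⁻¹ := fun _ _ => rfl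
    have key := dvd_card_of_forall_dvd_index_stabilizer' (α := ↥B) (Nat.card B) T.card T rfl ?_ ?_
    · exact (pow_dvd_pow p h).trans (hi ▸ key)
    · intro b x hx
      rw [hsmul, hT_mem] at *
      obtain ⟨hx1, hx2⟩ := hx
      have hbA : (b : P)⁻¹ ∈ A := A.inv_mem (hBA b.2)
      have hbx : (b : P)⁻¹ ∈ Subgroup.centralizer {x} := by
        have : (b : P) ∈ A ⊓ Subgroup.centralizer {x} := by rw [hx2]; exact b.2
        exact Subgroup.inv_mem _ this.2
      refine ⟨?_, ?_⟩
      · have hc : Commute x (b : P)⁻¹ := by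
          have := (Subgroup.mem_centralizer_iff.mp hbx) x rfl
          exact this
        rw [hc.mul_pow, hx1, one_mul, inv_pow, hAe _ (hBA b.2), inv_one]
      · rw [centralizer_singleton_mul_of_comm hAc hbA, hx2]
    · intro x _
      have : MulAction.stabilizer ↥B x = ⊥ := by
        rw [eq_bot_iff]
        intro b hb
        rw [MulAction.mem_stabilizer_iff, hsmul] at hb
        rw [Subgroup.mem_bot]
        apply Subtype.ext
        have : (b : P)⁻¹ = 1 := mul_left_cancel (a := x) (by rw [hb, mul_one])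
        simpa using this
      rw [this, Subgroup.index_bot]
  · -- conjugation by A
    let _ := conjAction A
    have hsmul : ∀ (a : ↥A) (x : P), a • x = (a : P) * x * (a : P)⁻¹ := fun _ _ => rfl
    have key := dvd_card_of_forall_dvd_index_stabilizer' (α := ↥A) (B.relIndex A) T.card T rfl ?_ ?_
    · exact (pow_dvd_pow p h).trans (hj ▸ key)
    · intro a x hx
      rw [hsmul, hT_mem] at *
      obtain ⟨hx1, hx2⟩ := hx
      refine ⟨?_, ?_⟩
      · rw [conj_pow, hx1]; simp
      · rw [centralizer_singleton_conj_of_comm hAc a.2, hx2]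
    · intro x hx
      have hx2 := ((hT_mem x).mp hx).2
      have : MulAction.stabilizer ↥A x = B.subgroupOf A := by
        ext a
        rw [MulAction.mem_stabilizer_iff, hsmul, Subgroup.mem_subgroupOf, ← hx2]
        simp only [Subgroup.mem_inf, SetLike.coe_mem, true_and, Subgroup.mem_centralizer_iff,
          Set.mem_singleton_iff, forall_eq]
        constructor
        · intro h
          have := congrArg (· * (a : P)) h
          simpa [mul_assoc] using this.symm
        · intro h
          rw [← h]; simp [mul_assoc]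
      rw [this]
      rfl


theorem card_filter_mem_subgroup {P : Type*} [Group P] [Fintype P] [DecidableEq P] (U : Subgroup P)
    [DecidablePred (· ∈ U)] : (Finset.univ.filter (fun x : P => x ∈ U)).card = Nat.card U := by
  rw [Nat.card_eq_fintype_card, Fintype.card_subtype]

theorem exists_center_orderOf_eq {P : Type*} [Group P] [Finite P] [Nontrivial P] {p : ℕ}
    [Fact p.Prime] (hP : IsPGroup p P) : ∃ z ∈ Subgroup.center P, orderOf z = p := by
  have := hP.center_nontrivial
  have hZ : IsPGroup p ↥(Subgroup.center P) := hP.to_subgroup _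
  have hdvd : p ∣ Nat.card ↥(Subgroup.center P) := by
    rcases hZ.card_eq_or_dvd with h | h
    · exfalso
      have := Finite.one_lt_card (α := ↥(Subgroup.center P))
      omega
    · exact h
  obtain ⟨⟨z, hz⟩, hzo⟩ := exists_prime_orderOf_dvd_card' p hdvd
  exact ⟨z, hz, by rw [← hzo, Subgroup.orderOf_mk]⟩

/-- the subgroup generated by a central element `z` of order `p` and an element `y` of order
dividing `p` outside `⟨z⟩` is elementary abelian of order `p ^ 2`. -/
theorem vtx_two_of_central {P : Type*} [Group P] {p : ℕ} (hp : p.Prime) {z y : P}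
    (hz : z ∈ Subgroup.center P) (hzo : orderOf z = p) (hy : y ^ p = 1)
    (hyz : y ∉ Subgroup.zpowers z) :
    Cfsg.IsElementaryAbelian p (Subgroup.zpowers z ⊔ Subgroup.zpowers y) ∧
      Nat.card ↥(Subgroup.zpowers z ⊔ Subgroup.zpowers y) = p ^ 2 := by
  have hcomm : ∀ a ∈ Subgroup.zpowers z, ∀ b ∈ Subgroup.zpowers y, a * b = b * a := by
    rintro _ ⟨m, rfl⟩ _ ⟨n, rfl⟩
    have h1 : Commute z y := (Subgroup.mem_center_iff.mp hz y).symm
    exact (h1.zpow_zpow m n).eq
  have hy1 : y ≠ 1 := fun h => hyz (h ▸ Subgroup.one_mem _)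
  have hyo : orderOf y = p := by
    have h1 : orderOf y ∣ p := orderOf_dvd_of_pow_eq_one hy
    rcases (Nat.dvd_prime hp).mp h1 with h | h
    · exact absurd (orderOf_eq_one_iff.mp h) hy1
    · exact h
  have hdisj : Subgroup.zpowers z ⊓ Subgroup.zpowers y = ⊥ := by
    rw [eq_bot_iff]
    intro w hw
    rw [Subgroup.mem_bot]
    by_contra hw1
    -- w generates zpowers y
    have hwy : w ∈ Subgroup.zpowers y := hw.2
    have hwo : orderOf w = p := by
      have h1 : orderOf w ∣ p := by
        have := Subgroup.orderOf_dvd_natCard _ hwy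
        rwa [Nat.card_zpowers, hyo] at this
      rcases (Nat.dvd_prime hp).mp h1 with h | h
      · exact absurd (orderOf_eq_one_iff.mp h) hw1
      · exact h
    have h2 : Subgroup.zpowers w = Subgroup.zpowers y := by
      have : Finite ↥(Subgroup.zpowers y) :=
        Nat.finite_of_card_ne_zero (by rw [Nat.card_zpowers, hyo]; exact hp.ne_zero)
      apply Subgroup.eq_of_le_of_card_ge
      · rw [Subgroup.zpowers_le]; exact hwy
      · rw [Nat.card_zpowers, Nat.card_zpowers, hwo, hyo]
    apply hyz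
    have : y ∈ Subgroup.zpowers w := by rw [h2]; exact Subgroup.mem_zpowers y
    exact (Subgroup.zpowers_le.mpr hw.1) this
  refine ⟨⟨?_, ?_⟩, ?_⟩
  · rw [isMulCommutative_subgroup_iff]
    intro a ha b hb
    obtain ⟨a1, ha1, a2, ha2, rfl⟩ := (mem_sup_iff_of_commute hcomm).mp ha
    obtain ⟨b1, hb1, b2, hb2, rfl⟩ := (mem_sup_iff_of_commute hcomm).mp hb
    obtain ⟨m1, rfl⟩ := ha1
    obtain ⟨n1, rfl⟩ := ha2
    obtain ⟨m2, rfl⟩ := hb1
    obtain ⟨n2, rfl⟩ := hb2
    have h1 : Commute z y := (Subgroup.mem_center_iff.mp hz y).symm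
    have c1 : Commute (z ^ m1) (z ^ m2) := (Commute.refl z).zpow_zpow m1 m2
    have c2 : Commute (z ^ m1) (y ^ n2) := h1.zpow_zpow m1 n2
    have c3 : Commute (y ^ n1) (z ^ m2) := h1.symm.zpow_zpow n1 m2
    have c4 : Commute (y ^ n1) (y ^ n2) := (Commute.refl y).zpow_zpow n1 n2
    exact ((c1.mul_right c2).mul_left (c3.mul_right c4)).eq
  · intro a ha
    obtain ⟨a1, ha1, a2, ha2, rfl⟩ := (mem_sup_iff_of_commute hcomm).mp ha
    have hc : Commute a1 a2 := hcomm a1 ha1 a2 ha2
    obtain ⟨m1, rfl⟩ := ha1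
    obtain ⟨n1, rfl⟩ := ha2
    rw [hc.mul_pow]
    have e1 : (z ^ m1) ^ p = 1 := by
      rw [← zpow_natCast, ← zpow_mul, mul_comm, zpow_mul, zpow_natCast, ← hzo, pow_orderOf_eq_one,
        one_zpow]
    have e2 : (y ^ n1) ^ p = 1 := by
      rw [← zpow_natCast, ← zpow_mul, mul_comm, zpow_mul, zpow_natCast, hy, one_zpow]
    rw [e1, e2, one_mul]
  · rw [card_sup_of_disjoint_of_le_normalizer hdisj (le_normalizer_of_commute hcomm),
      Nat.card_zpowers, Nat.card_zpowers, hzo, hyo, sq]



/-- conjugation action on subgroups -/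
@[instance_reducible]
def cjAction (P : Type*) [Group P] : MulAction P (Subgroup P) where
  smul g U := cj g U
  one_smul U := cj_one U
  mul_smul g h U := cj_mul g h U

theorem exists_normal_elementaryAbelian_sq_of_rank {P : Type*} [Group P] [Finite P] (p : ℕ)
    [Fact p.Prime] (hP : IsPGroup p P) (hrk : ¬ Cfsg.PRankLE p 2 P) :
    ∃ U : Subgroup P, U.Normal ∧ Cfsg.IsElementaryAbelian p U ∧ Nat.card ↥U = p ^ 2 := by
  classical
  have hp : p.Prime := Fact.out
  have := Fintype.ofFinite P
  have : Fintype (Subgroup P) := Fintype.ofFinite _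
  -- the big elementary abelian subgroup
  unfold Cfsg.PRankLE at hrk
  push Not at hrk
  obtain ⟨A, hAc, hAe, hAcard⟩ := hrk
  rw [isMulCommutative_subgroup_iff] at hAc
  obtain ⟨k, hk⟩ := (hP.to_subgroup A).exists_card_eq
  have hk3 : 3 ≤ k := by
    by_contra h
    have h2 : k ≤ 2 := by omega
    have := Nat.pow_le_pow_right hp.pos h2
    omega
  have hΩ := sq_dvd_card_pow_eq_one p A hAc hAe k hk3 hk
  -- central element of order p
  have : Nontrivial P := by
    have h1 : 1 < Nat.card ↥A := by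
      have : 1 < p ^ 2 := Nat.one_lt_pow (by norm_num) hp.one_lt
      omega
    obtain ⟨a, b, hab⟩ := (Finite.one_lt_card_iff_nontrivial.mp h1)
    exact ⟨⟨a, b, fun h => hab (Subtype.ext h)⟩⟩
  obtain ⟨z, hz, hzo⟩ := exists_center_orderOf_eq hP
  set Z := Subgroup.zpowers z with hZ
  have hZcard : Nat.card ↥Z = p := by rw [hZ, Nat.card_zpowers, hzo]
  set Ω : Finset P := Finset.univ.filter (fun x : P => x ^ p = 1) with hΩdef
  set Zf : Finset P := Finset.univ.filter (fun x : P => x ∈ Z) with hZf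
  have hZfcard : Zf.card = p := by rw [hZf, card_filter_mem_subgroup, hZcard]
  have hZexp : ∀ x ∈ Z, x ^ p = 1 := by
    rintro _ ⟨m, rfl⟩
    show (z ^ m) ^ p = 1
    rw [← zpow_natCast, ← zpow_mul, mul_comm, zpow_mul, zpow_natCast, ← hzo, pow_orderOf_eq_one,
      one_zpow]
  have hZfΩ : Zf ⊆ Ω := by
    intro x hx
    simp only [hZf, hΩdef, Finset.mem_filter, Finset.mem_univ, true_and] at hx ⊢
    exact hZexp x hx
  set Y : Finset P := Ω \ Zf with hY
  have hYcard : Y.card = Ω.card - p := by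
    rw [hY, Finset.card_sdiff_of_subset hZfΩ, hZfcard]
  have hYmem : ∀ y, y ∈ Y ↔ y ^ p = 1 ∧ y ∉ Z := by
    intro y
    simp [hY, hΩdef, hZf]
  set 𝒰 : Finset (Subgroup P) := Finset.univ.filter
    (fun U : Subgroup P => z ∈ U ∧ Cfsg.IsElementaryAbelian p U ∧ Nat.card ↥U = p ^ 2) with h𝒰
  have h𝒰mem : ∀ U, U ∈ 𝒰 ↔ z ∈ U ∧ Cfsg.IsElementaryAbelian p U ∧ Nat.card ↥U = p ^ 2 := by
    intro U; simp [h𝒰]
  -- double counting
  have hcount : 𝒰.card * (p ^ 2 - p) = Y.card := by
    have := Finset.sum_card_bipartiteAbove_eq_sum_card_bipartiteBelow (s := 𝒰) (t := Y)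
      (r := fun (U : Subgroup P) (y : P) => y ∈ U)
    have hL : ∀ U ∈ 𝒰, (Y.bipartiteAbove (fun (U : Subgroup P) (y : P) => y ∈ U) U).card = p ^ 2 - p := by
      intro U hU
      rw [h𝒰mem] at hU
      obtain ⟨hzU, hUe, hUc⟩ := hU
      have hZU : Z ≤ U := by rw [hZ, Subgroup.zpowers_le]; exact hzU
      have e1 : Y.bipartiteAbove (fun (U : Subgroup P) (y : P) => y ∈ U) U =
          (Finset.univ.filter (fun x : P => x ∈ U)) \ Zf := by
        ext y
        simp only [Finset.mem_bipartiteAbove, hYmem, Finset.mem_sdiff, Finset.mem_filter,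
          Finset.mem_univ, true_and, hZf]
        constructor
        · rintro ⟨⟨-, h2⟩, h3⟩; exact ⟨h3, h2⟩
        · rintro ⟨h3, h2⟩; exact ⟨⟨hUe.2 y h3, h2⟩, h3⟩
      have hsub : Zf ⊆ Finset.univ.filter (fun x : P => x ∈ U) := by
        intro x hx
        simp only [hZf, Finset.mem_filter, Finset.mem_univ, true_and] at hx ⊢
        exact hZU hx
      rw [e1, Finset.card_sdiff_of_subset hsub, card_filter_mem_subgroup, hUc, hZfcard]
    have hR : ∀ y ∈ Y, (𝒰.bipartiteBelow (fun (U : Subgroup P) (y : P) => y ∈ U) y).card = 1 := by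
      intro y hy
      rw [hYmem] at hy
      obtain ⟨hyp, hyZ⟩ := hy
      obtain ⟨hv1, hv2⟩ := vtx_two_of_central hp hz hzo hyp hyZ
      rw [Finset.card_eq_one]
      refine ⟨Z ⊔ Subgroup.zpowers y, ?_⟩
      ext U
      simp only [Finset.mem_bipartiteBelow, h𝒰mem, Finset.mem_singleton]
      constructor
      · rintro ⟨⟨hzU, hUe, hUc⟩, hyU⟩
        have hle : Z ⊔ Subgroup.zpowers y ≤ U :=
          sup_le (by rw [hZ, Subgroup.zpowers_le]; exact hzU) (by rw [Subgroup.zpowers_le]; exact hyU)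
        exact (Subgroup.eq_of_le_of_card_ge hle (by rw [hUc, hv2])).symm
      · rintro rfl
        exact ⟨⟨Subgroup.mem_sup_left (Subgroup.mem_zpowers z), hv1, hv2⟩,
          Subgroup.mem_sup_right (Subgroup.mem_zpowers y)⟩
    rw [Finset.sum_congr rfl hL, Finset.sum_congr rfl hR, Finset.sum_const, Finset.sum_const,
      smul_eq_mul, smul_eq_mul, mul_one] at this
    exact this
  -- a normal member exists
  by_contra hno
  push Not at hno
  have hdvd : p ∣ 𝒰.card := by
    let _ := cjAction P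
    have hsmul : ∀ (g : P) (U : Subgroup P), g • U = cj g U := fun _ _ => rfl
    refine dvd_card_of_forall_dvd_index_stabilizer' (α := P) p 𝒰.card 𝒰 rfl ?_ ?_
    · intro g U hU
      rw [hsmul, h𝒰mem] at *
      obtain ⟨hzU, hUe, hUc⟩ := hU
      refine ⟨?_, isElementaryAbelian_map _ hUe, ?_⟩
      · rw [mem_cj]
        have : g⁻¹ * z * g = z := by
          have := Subgroup.mem_center_iff.mp hz g
          rw [mul_assoc, ← this, inv_mul_cancel_left]
        rw [this]; exact hzU
      · rw [← hUc]; exact Subgroup.card_map_of_injective (MulAut.conj g).injective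
    · intro U hU
      rw [h𝒰mem] at hU
      by_contra hnd
      have h1 : (MulAction.stabilizer P U).index ∣ Nat.card P := Subgroup.index_dvd_card _
      obtain ⟨n, hn⟩ := hP.exists_card_eq
      rw [hn] at h1
      obtain ⟨m, -, hm⟩ := (Nat.dvd_prime_pow hp).mp h1
      have hm0 : m = 0 := by
        by_contra hm0
        apply hnd
        rw [hm]
        exact dvd_pow_self p hm0
      rw [hm0, pow_zero, Subgroup.index_eq_one] at hm
      apply hno U _ hU.2.1 hU.2.2
      constructor
      intro n hn g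
      have hg : g ∈ MulAction.stabilizer P U := by rw [hm]; trivial
      rw [MulAction.mem_stabilizer_iff, hsmul] at hg
      rw [← hg]
      exact conj_mem_cj hn
  -- contradiction
  have hΩp : p ≤ Ω.card := by
    rw [← hZfcard]; exact Finset.card_le_card hZfΩ
  obtain ⟨c, hc⟩ := hdvd
  obtain ⟨d, hd⟩ := hΩ
  have h1 : c * p * (p ^ 2 - p) + p = p ^ 2 * d := by
    rw [← hd, mul_comm c p, ← hc, hcount, hYcard]
    omega
  have h2 : p ^ 2 - p = p * (p - 1) := by
    rw [Nat.mul_sub, mul_one, sq]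
  rw [h2] at h1
  have h3 : p ^ 2 ∣ p := by
    have e : c * p * (p * (p - 1)) = p ^ 2 * (c * (p - 1)) := by ring
    rw [e] at h1
    have : p ^ 2 ∣ p ^ 2 * (c * (p - 1)) + p := ⟨d, h1⟩
    exact (Nat.dvd_add_right (dvd_mul_right _ _)).mp this
  have h4 := Nat.le_of_dvd hp.pos h3
  have h5 : p < p ^ 2 := by
    rw [sq]; exact lt_mul_of_one_lt_left hp.pos hp.one_lt
  omega


end Cfsg.Agent.Helper23
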