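import Cfsg.Prelude.Def_Balance

set_option autoImplicit false

namespace Cfsg.Agent.Helper23

theorem isMulCommutative_subgroup_iff {G : Type*} [Group G] (S : Subgroup G) :
    IsMulCommutative S ↔ ∀ a ∈ S, ∀ b ∈ S, a * b = b * a := by
  constructor
  · intro h a ha b hb
    have := h.is_comm.comm ⟨a, ha⟩ ⟨b, hb⟩
    exact congrArg Subtype.val this
  · intro h
    refine ⟨⟨?_⟩⟩
    rintro ⟨a, ha⟩ ⟨b, hb⟩
    exact Subtype.ext (h a ha b hb)

/-- `PRankLE` pulls back along injective homomorphisms. -/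
theorem pRankLE_of_injective {A B : Type*} [Group A] [Group B] (p k : ℕ) (f : A →* B)
    (hf : Function.Injective f) (h : Cfsg.PRankLE p k B) : Cfsg.PRankLE p k A := by
  intro S hS hexp
  rw [isMulCommutative_subgroup_iff] at hS
  have hcomm : IsMulCommutative (S.map f) := by
    rw [isMulCommutative_subgroup_iff]
    rintro _ ⟨a, ha, rfl⟩ _ ⟨b, hb, rfl⟩
    rw [← map_mul, ← map_mul, hS a ha b hb]
  have hexp' : ∀ a ∈ S.map f, a ^ p = 1 := by
    rintro _ ⟨a, ha, rfl⟩
    rw [← map_pow, hexp a ha, map_one]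
  have := h (S.map f) hcomm hexp'
  rwa [Subgroup.card_map_of_injective hf] at this

theorem pRankLE_of_mulEquiv {A B : Type*} [Group A] [Group B] (p k : ℕ) (e : A ≃* B) :
    Cfsg.PRankLE p k A ↔ Cfsg.PRankLE p k B :=
  ⟨pRankLE_of_injective p k e.symm.toMonoidHom e.symm.injective,
   pRankLE_of_injective p k e.toMonoidHom e.injective⟩

end Cfsg.Agent.Helper23
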