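import Cfsg.Agent.Helper71.Alp.Defs

/-! (B2) of helper71's WANTED #7723 (S3782, Alperin): admissible sections have order at most
`(bp p)^(pn)`. `relIndex_le_of_sec_of` takes (B1) as a hypothesis. (helper23) -/

set_option autoImplicit false

namespace Cfsg.Agent.Helper23.Alp

open Cfsg.Agent.Helper71.Alp

/-- the elements of `X` whose square lies in `Y`, for an abelian section `X / Y` -/
def sqSub {G : Type*} [Group G] (X Y : Subgroup G) (hY : Y.Normal) (hYX : Y ≤ X)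
    (hab : ⁅X, X⁆ ≤ Y) : Subgroup G where
  carrier := {x | x ∈ X ∧ x ^ 2 ∈ Y}
  mul_mem' := by
    rintro x y ⟨hx, hx2⟩ ⟨hy, hy2⟩
    refine ⟨X.mul_mem hx hy, ?_⟩
    have hc : y⁻¹ * x⁻¹ * y * x ∈ Y := by
      apply hab
      have := Subgroup.commutator_mem_commutator (X.inv_mem hy) (X.inv_mem hx)
      rw [commutatorElement_def, inv_inv, inv_inv] at this
      exact this
    have hc' : y⁻¹ * (y⁻¹ * x⁻¹ * y * x) * y ∈ Y := by
      have := hY.conj_mem _ hc y⁻¹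
      rwa [inv_inv] at this
    have e : (x * y) ^ 2 = x ^ 2 * y ^ 2 * (y⁻¹ * (y⁻¹ * x⁻¹ * y * x) * y) := by
      simp only [pow_two]
      group
    rw [e]
    exact Y.mul_mem (Y.mul_mem hx2 hy2) hc'
  one_mem' := ⟨X.one_mem, by rw [one_pow]; exact Y.one_mem⟩
  inv_mem' := by
    rintro x ⟨hx, hx2⟩
    refine ⟨X.inv_mem hx, ?_⟩
    rw [inv_pow]
    exact Y.inv_mem hx2

theorem mem_sqSub {G : Type*} [Group G] (X Y : Subgroup G) (hY : Y.Normal) (hYX : Y ≤ X)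
    (hab : ⁅X, X⁆ ≤ Y) (x : G) : x ∈ sqSub X Y hY hYX hab ↔ x ∈ X ∧ x ^ 2 ∈ Y := Iff.rfl

/-- (B2), with (B1) as a hypothesis -/
theorem relIndex_le_of_sec_of {G : Type*} [Group G] [Finite G] {p n : ℕ} (hp : p.Prime)
    (φ : MulAut G) (hφ : φ ^ p = 1) (hfix : FixLE φ (p ^ n))
    (hB1 : ∀ X Y : Subgroup G, Y ≤ X → Inv φ X → Inv φ Y → ⁅X, X⁆ ≤ Y →
      (∀ x ∈ X, x ^ p ∈ Y) → Y.relIndex X ≤ p ^ (p * n))
    (X Y : Subgroup G) (h : Sec p φ X Y) : Y.relIndex X ≤ bp p ^ (p * n) := by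
  obtain ⟨hXn, hYn, hYX, hX, hY, hab, hexp⟩ := h
  by_cases hp2 : p = 2
  · subst hp2
    have hbp : bp 2 = 4 := by simp [bp]
    rw [hbp] at hexp ⊢
    set Y₁ := sqSub X Y hYn hYX hab with hY₁
    have hYY₁ : Y ≤ Y₁ := by
      intro y hy
      exact ⟨hYX hy, Y.pow_mem hy 2⟩
    have hY₁X : Y₁ ≤ X := fun x hx => hx.1
    have hInv : Inv φ Y₁ := by
      intro x
      rw [hY₁, mem_sqSub, mem_sqSub, ← hX x, ← map_pow, ← hY (x ^ 2)]
    have h1 : Y₁.relIndex X ≤ 2 ^ (2 * n) := by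
      apply hB1 X Y₁ hY₁X hX hInv (hab.trans hYY₁)
      intro x hx
      refine ⟨X.pow_mem hx 2, ?_⟩
      rw [← pow_mul]
      exact hexp x hx
    have h2 : Y.relIndex Y₁ ≤ 2 ^ (2 * n) := by
      apply hB1 Y₁ Y hYY₁ hInv hY ((Subgroup.commutator_mono hY₁X hY₁X).trans hab)
      intro x hx
      exact hx.2
    rw [← Subgroup.relIndex_mul_relIndex Y Y₁ X hYY₁ hY₁X]
    calc Y.relIndex Y₁ * Y₁.relIndex X ≤ 2 ^ (2 * n) * 2 ^ (2 * n) := Nat.mul_le_mul h2 h1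
      _ = 4 ^ (2 * n) := by rw [← mul_pow]; norm_num
  · have hbp : bp p = p := by simp [bp, hp2]
    rw [hbp] at hexp ⊢
    exact hB1 X Y hYX hX hY hab hexp

end Cfsg.Agent.Helper23.Alp
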