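import Mathlib
import Cfsg.Prelude.Def_OddOrderLocal
import Cfsg.Agent.Helper29.BG11A
import Cfsg.Agent.Helper50.BG134
import Cfsg.Agent.Helper68.BG12A

/-!
# B-G §13, Lemma 13.1(a) in the cases `p ∈ σ(H)` and `p ∈ τ₃(H)` (helper23)

`M`, `H` non-conjugate maximal subgroups, `D = M_σ ∩ H`.  A `p`-subgroup `P` of `M ∩ H'`
with `p ∉ σ(M)` centralizes `D`.  Input: the part of statement S1414 (B-G 10.8) which says that
`H'` has a normal `q`-complement for every prime `q ∉ β(H)` dividing `|H|`.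
-/

set_option autoImplicit false
set_option linter.unusedVariables false
set_option linter.unusedSectionVars false
set_option linter.style.haveILetI false

namespace Cfsg.Agent.Helper23.BG13

open Cfsg Cfsg.Agent.Helper29 Cfsg.Agent.Helper29.BG10 Cfsg.Agent.Helper29.BG11
open scoped commutatorElement

variable {G : Type*} [Group G] [Finite G]

/-- the part of S1414 (B-G 10.8) used in §13: `H'` has a normal `q`-complement for `q ∉ β(H)` -/
def NormalComplComm (G : Type*) [Group G] : Prop :=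
  ∀ H : Subgroup G, IsCoatom H → ∀ q : ℕ, q.Prime → q ∣ Nat.card H → q ∉ Cfsg.beta H →
    Cfsg.HasNormalPComplement q ↥⁅H, H⁆

/-- a normal `q`-complement of `K ≤ H` with `H ≤ N_G(K)`, as a subgroup of `G` normalized by `H`
and containing every `q'`-subgroup of `K` -/
theorem exists_normal_qcompl {q : ℕ} [Fact q.Prime] {H K : Subgroup G}
    (hHK : H ≤ Subgroup.normalizer (K : Set G))
    (h : Cfsg.HasNormalPComplement q ↥K) :
    ∃ N : Subgroup G, N ≤ K ∧ H ≤ Subgroup.normalizer (N : Set G) ∧ ¬ q ∣ Nat.card N ∧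
      ∀ P : Subgroup G, P ≤ K → (Nat.card P).Coprime q → P ≤ N := by
  have hq : q.Prime := Fact.out
  obtain ⟨P, N₀, hN₀, hc⟩ := h
  haveI := hN₀
  have hcard : Nat.card N₀ * Nat.card (P : Subgroup ↥K) = Nat.card ↥K := hc.card_mul_card
  have hidx : N₀.index = Nat.card (P : Subgroup ↥K) := by
    have h1 := Subgroup.card_mul_index N₀
    rw [← hcard] at h1
    exact Nat.eq_of_mul_eq_mul_left Nat.card_pos h1
  have hNq : ¬ q ∣ Nat.card N₀ := by
    intro hd
    have h1 : (P : Subgroup ↥K).index = Nat.card N₀ := by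
      have h2 := Subgroup.card_mul_index (P : Subgroup ↥K)
      rw [← hcard, mul_comm (Nat.card N₀)] at h2
      exact Nat.eq_of_mul_eq_mul_left Nat.card_pos h2
    exact P.not_dvd_index (h1 ▸ hd)
  have hcop : (Nat.card N₀).Coprime N₀.index := by
    rw [hidx]
    obtain ⟨k, hk⟩ := IsPGroup.iff_card.1 P.isPGroup'
    rw [hk]
    exact Nat.Coprime.pow_right k ((Nat.Prime.coprime_iff_not_dvd hq).2 hNq).symm
  refine ⟨N₀.map K.subtype, Subgroup.map_subtype_le _, ?_, ?_, ?_⟩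
  · -- invariance under `H`
    intro h hh
    have hhK := hHK hh
    -- the automorphism of `K` induced by `h`
    have hmem : ∀ x : G, x ∈ K → h * x * h⁻¹ ∈ K := fun x hx =>
      (Subgroup.mem_normalizer_iff.1 hhK x).1 hx
    have hmem' : ∀ x : G, x ∈ K → h⁻¹ * x * h ∈ K := fun x hx => by
      have := (Subgroup.mem_normalizer_iff.1 (Subgroup.inv_mem _ hhK) x).1 hx
      simpa using this
    let φ : ↥K ≃* ↥K :=
      { toFun := fun x => ⟨h * x * h⁻¹, hmem x x.2⟩
        invFun := fun x => ⟨h⁻¹ * x * h, hmem' x x.2⟩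
        left_inv := fun x => Subtype.ext (by simp [mul_assoc])
        right_inv := fun x => Subtype.ext (by simp [mul_assoc])
        map_mul' := fun x y => Subtype.ext (by simp [mul_assoc]) }
    have hφ : ∀ x : ↥K, x ∈ N₀ → φ x ∈ N₀ := fun x hx =>
      Cfsg.Agent.Helper68.BG12.map_eq_of_normal_coprime N₀ hcop φ hx
    have hφ' : ∀ x : ↥K, x ∈ N₀ → φ.symm x ∈ N₀ := fun x hx =>
      Cfsg.Agent.Helper68.BG12.map_eq_of_normal_coprime N₀ hcop φ.symm hx
    rw [Subgroup.mem_normalizer_iff]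
    intro x
    constructor
    · rintro ⟨y, hy, rfl⟩
      exact ⟨φ y, hφ y hy, rfl⟩
    · rintro ⟨y, hy, hyx⟩
      refine ⟨φ.symm y, hφ' y hy, ?_⟩
      have h1 : ((φ.symm y : ↥K) : G) = h⁻¹ * (y : G) * h := rfl
      simp only [Subgroup.coe_subtype] at hyx ⊢
      rw [h1, hyx]
      group
  · rw [Subgroup.card_map_of_injective K.subtype_injective]
    exact hNq
  · intro P' hP'K hP'cop x hx
    have h1 : (⟨x, hP'K hx⟩ : ↥K) ^ N₀.index ∈ N₀ := Subgroup.pow_index_mem N₀ _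
    have hord : orderOf x ∣ Nat.card P' := by
      have := orderOf_dvd_natCard (⟨x, hx⟩ : P')
      rwa [Subgroup.orderOf_mk] at this
    have h2 : (N₀.index).Coprime (orderOf (⟨x, hP'K hx⟩ : ↥K)) := by
      rw [Subgroup.orderOf_mk, hidx]
      obtain ⟨k, hk⟩ := IsPGroup.iff_card.1 P.isPGroup'
      rw [hk]
      exact Nat.Coprime.pow_left k (Nat.Coprime.coprime_dvd_right hord hP'cop.symm)
    have h3 : (⟨x, hP'K hx⟩ : ↥K) ∈ N₀ := by
      refine Cfsg.Agent.Helper50.mem_of_pow_mem_of_coprime h2 h1 ?_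
      rw [pow_orderOf_eq_one]
      exact N₀.one_mem
    exact ⟨⟨x, hP'K hx⟩, h3, rfl⟩


omit [Finite G] in
theorem le_normalizer_commutator_self (H : Subgroup G) :
    H ≤ Subgroup.normalizer ((⁅H, H⁆ : Subgroup G) : Set G) := by
  intro h hh
  apply mem_normalizer_of_cj_eq
  show (⁅H, H⁆ : Subgroup G).map (MulAut.conj h).toMonoidHom = ⁅H, H⁆
  rw [Subgroup.map_commutator]
  have : H.map (MulAut.conj h).toMonoidHom = H := cj_eq_self_of_mem hh
  rw [this]

/-- **B-G 13.1(a)** for `p`-subgroups of `H'` (covers `p ∈ σ(H)` and `p ∈ τ₃(H)`): if `M`, `H` are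
non-conjugate maximal subgroups, `p ∉ σ(M)` and `P ≤ M ∩ H'` is a `p`-group then `P` centralizes
`M_σ ∩ H`. -/
theorem commutator_eq_bot_of_le_commutator (hG : Cfsg.IsMinSimpleOddOrder G)
    (hU : UniquenessThm G) (h1414 : NormalComplComm G)
    {M H : Subgroup G} (hM : IsCoatom M) (hH : IsCoatom H) (hnc : ∀ g : G, BG10.cj g H ≠ M)
    {p : ℕ} [Fact p.Prime] (hp : p ∉ Cfsg.sigma M) {P : Subgroup G} (hP : IsPGroup p P)
    (hPM : P ≤ M) (hPH' : P ≤ ⁅H, H⁆) :
    ⁅Cfsg.sigmaCore M ⊓ H, P⁆ = ⊥ := by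
  have hHH : (⁅H, H⁆ : Subgroup G) ≤ H := Subgroup.commutator_le.2 fun a ha b hb =>
    H.mul_mem (H.mul_mem (H.mul_mem ha hb) (H.inv_mem ha)) (H.inv_mem hb)
  have hPH : P ≤ H := hPH'.trans hHH
  set D : Subgroup G := Cfsg.sigmaCore M ⊓ H with hD
  -- `P` normalizes `D`
  have hCD : ⁅D, P⁆ ≤ D := by
    rw [Subgroup.commutator_le]
    intro d hd x hx
    have hxn : x ∈ Subgroup.normalizer ((Cfsg.sigmaCore M : Subgroup G) : Set G) :=
      le_normalizer_sigmaCore M (hPM hx)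
    have h1 : x * d⁻¹ * x⁻¹ ∈ Cfsg.sigmaCore M :=
      (Subgroup.mem_normalizer_iff.1 hxn d⁻¹).1 ((Cfsg.sigmaCore M).inv_mem hd.1)
    have h2 : x * d⁻¹ * x⁻¹ ∈ H :=
      H.mul_mem (H.mul_mem (hPH hx) (H.inv_mem hd.2)) (H.inv_mem (hPH hx))
    have e : ⁅d, x⁆ = d * (x * d⁻¹ * x⁻¹) := by
      rw [commutatorElement_def]; group
    rw [e]
    exact D.mul_mem hd ⟨h1, h2⟩
  by_contra hne
  have hcard : Nat.card (⁅D, P⁆ : Subgroup G) ≠ 1 := by
    intro h1
    exact hne (Subgroup.card_eq_one.1 h1)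
  obtain ⟨q, hq, hqd⟩ := Nat.exists_prime_and_dvd hcard
  haveI : Fact q.Prime := ⟨hq⟩
  have hqσ : q ∈ Cfsg.sigma M :=
    primes_sigmaCore M q hq (hqd.trans (Subgroup.card_dvd_of_le (hCD.trans inf_le_left)))
  have hqH : q ∣ Nat.card ↥H := hqd.trans (Subgroup.card_dvd_of_le (hCD.trans inf_le_right))
  have hqβ : q ∉ Cfsg.beta H := fun hβ =>
    not_mem_sigma_of_mem_alpha hG hU hH hM hnc hβ.1 hqσ
  obtain ⟨N, hNK, hHN, hNq, hNP⟩ :=
    exists_normal_qcompl (le_normalizer_commutator_self H) (h1414 H hH q hq hqH hqβ)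
  have hpq : p ≠ q := fun h => hp (h ▸ hqσ)
  have hPcop : (Nat.card P).Coprime q := by
    obtain ⟨k, hk⟩ := IsPGroup.iff_card.1 hP
    rw [hk]
    exact Nat.Coprime.pow_left k ((Nat.coprime_primes Fact.out hq).2 hpq)
  have hPN : P ≤ N := hNP P hPH' hPcop
  have hCN : ⁅D, P⁆ ≤ N := by
    rw [Subgroup.commutator_le]
    intro d hd x hx
    have hdn : d ∈ Subgroup.normalizer (N : Set G) := hHN hd.2
    have h1 : d * x * d⁻¹ ∈ N := (Subgroup.mem_normalizer_iff.1 hdn x).1 (hPN hx)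
    rw [commutatorElement_def]
    exact N.mul_mem h1 (N.inv_mem (hPN hx))
  exact hNq (hqd.trans (Subgroup.card_dvd_of_le hCN))

end Cfsg.Agent.Helper23.BG13
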