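import Mathlib
import Cfsg.Prelude.Def_OddOrderLocal
import Cfsg.Agent.Helper23.BG13A
import Cfsg.Agent.Helper23.RankTwo
import Cfsg.Agent.Helper1.BG1217
import Cfsg.Agent.Helper67.NilHallKey
import Cfsg.Agent.Helper23.Sup

/-!
# B-G Lemma 12.17, the unlisted parts (d1) and (e3) (helper23)

Setting of S1424: `t ∈ σ(M)`, `T ≠ 1` a `t`-subgroup of `M`, `L ≠ M` maximal over `N_G(T)`.
* (e3) if `t ∉ σ(L)` then `M ∩ L` is a complement of `L_σ` in `L`;
* (d1) if `t ∈ σ(L)` then for every `p ∈ σ(L) \ β(L)`, `p ≠ t`, `M` contains a Sylow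
  `p`-subgroup of `L`.
Inputs (statement shaped): S1416(1) (`CentSq`), the needed parts of S1417, and the nilpotent Hall
`β'`-subgroup of `L_σ` from S1414.
-/

set_option autoImplicit false
set_option linter.unusedVariables false
set_option linter.unusedSectionVars false
set_option linter.style.haveILetI false

namespace Cfsg.Agent.Helper23.BG13

open Cfsg Cfsg.Agent.Helper29 Cfsg.Agent.Helper29.BG10 Cfsg.Agent.Helper29.BG11 Cfsg.Agent.Helper1.BG12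
open scoped commutatorElement

variable {G : Type*} [Group G] [Finite G]

/-- S1416, first part, for all primes and all maximal subgroups -/
def H1416 (G : Type*) [Group G] [Finite G] : Prop :=
  ∀ (M : Subgroup G), IsCoatom M → ∀ (q : ℕ) [Fact q.Prime], CentSq q M

/-- the parts (a), (b), (c), (e) of S1417 -/
def H1417 (G : Type*) [Group G] : Prop :=
  ∀ (M : Subgroup G), IsCoatom M → ∀ (p : ℕ) [Fact p.Prime], p ∈ Cfsg.tau2 M →
    ∀ A : Subgroup G, A ≤ M → Cfsg.IsElementaryAbelian p A → Nat.card A = p ^ 2 →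
      Group.IsNilpotent ↥(Cfsg.sigmaCore M) ∧
      (∀ P : Sylow p ↥M, IsMulCommutative (P : Subgroup ↥M)) ∧
      M ≤ Subgroup.normalizer ((Cfsg.sigmaCore M ⊔ A : Subgroup G) : Set G) ∧
      ∀ Ms : Subgroup G, IsCoatom Ms → Ms ≠ M → A ≤ Ms → Cfsg.sigmaCore M ⊓ Ms = ⊥

/-- the nilpotent Hall `β'`-subgroup of `M_σ` from S1414 -/
def NilpHallSigma (G : Type*) [Group G] : Prop :=
  ∀ M : Subgroup G, IsCoatom M →
    ∃ W : Subgroup G, Cfsg.IsPiHallOf {q | q.Prime ∧ q ∉ Cfsg.beta M} W (Cfsg.sigmaCore M) ∧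
      Group.IsNilpotent ↥W

omit [Finite G] in
/-- an elementary abelian group of order `p²` is not cyclic -/
theorem not_isCyclic_of_elemAb_sq {p : ℕ} [hp : Fact p.Prime] {A : Subgroup G}
    (hA : Cfsg.IsElementaryAbelian p A) (hc : Nat.card A = p ^ 2) : ¬ IsCyclic ↥A := by
  intro hcyc
  haveI : Finite ↥A := Nat.finite_of_card_ne_zero (by rw [hc]; exact pow_ne_zero _ hp.out.ne_zero)
  obtain ⟨g, hg⟩ := hcyc.exists_ofOrder_eq_natCard
  have h1 : (g : G) ^ p = 1 := hA.2 g g.2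
  have h2 : g ^ p = 1 := Subtype.ext (by simpa using h1)
  have h3 : orderOf g ∣ p := orderOf_dvd_of_pow_eq_one h2
  rw [hg, hc] at h3
  have h4 : p ^ 2 ≤ p := Nat.le_of_dvd hp.out.pos h3
  have h5 : p < p ^ 2 := by
    have := hp.out.one_lt
    nlinarith
  omega

/-- conjugating a subgroup of `N` into a relative Sylow subgroup -/
theorem exists_cj_le_of_isSylowIn {p : ℕ} [Fact p.Prime] {R N B : Subgroup G}
    (hR : IsSylowIn p R N) (hBN : B ≤ N) (hB : IsPGroup p B) : ∃ a ∈ N, BG10.cj a B ≤ R := by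
  obtain ⟨a, haN, ha⟩ :=
    Cfsg.Agent.Helper84.exists_conj_le_of_relIndex N R B hR.1 hR.2.1 hR.2.2 hBN hB
  refine ⟨a, haN, ?_⟩
  intro x hx
  have := ha _ (mem_cj.1 hx)
  have e : a * (a⁻¹ * x * a) * a⁻¹ = x := by group
  rwa [e] at this

omit [Finite G] in
theorem isElementaryAbelian_cj {p : ℕ} {A : Subgroup G} (hA : Cfsg.IsElementaryAbelian p A)
    (g : G) : Cfsg.IsElementaryAbelian p (BG10.cj g A) := by
  refine ⟨⟨⟨?_⟩⟩, ?_⟩
  · rintro ⟨x, hx⟩ ⟨y, hy⟩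
    apply Subtype.ext
    have hx' := mem_cj.1 hx
    have hy' := mem_cj.1 hy
    have hc : (g⁻¹ * x * g) * (g⁻¹ * y * g) = (g⁻¹ * y * g) * (g⁻¹ * x * g) := by
      have := hA.1.is_comm.comm ⟨_, hx'⟩ ⟨_, hy'⟩
      exact congrArg Subtype.val this
    show x * y = y * x
    have e1 : x * y = g * ((g⁻¹ * x * g) * (g⁻¹ * y * g)) * g⁻¹ := by group
    have e2 : y * x = g * ((g⁻¹ * y * g) * (g⁻¹ * x * g)) * g⁻¹ := by group
    rw [e1, e2, hc]
  · intro x hx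
    have hx' := mem_cj.1 hx
    have h1 := hA.2 _ hx'
    have e : x ^ p = g * (g⁻¹ * x * g) ^ p * g⁻¹ := by
      have h2 : g⁻¹ * x * g = g⁻¹ * x * (g⁻¹)⁻¹ := by rw [inv_inv]
      rw [h2, conj_pow]; group
    rw [e, h1]; group


/-- **B-G 12.17(e3)**: in the setting of S1424, if `t ∉ σ(L)` then `M ∩ L` is a complement of
`L_σ` in `L`. -/
theorem lemma_12_17_e (hG : Cfsg.IsMinSimpleOddOrder G) (hU : UniquenessThm G)
    (h1416 : H1416 G) (h1417 : H1417 G)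
    {M L : Subgroup G} (hM : IsCoatom M) (hL : IsCoatom L) (hne : L ≠ M)
    {t : ℕ} [Fact t.Prime] (ht : t ∈ Cfsg.sigma M) {T : Subgroup G} (hTt : IsPGroup t T)
    (hT1 : T ≠ ⊥) (hTM : T ≤ M) (hNT : Subgroup.normalizer (T : Set G) ≤ L)
    (htL : t ∉ Cfsg.sigma L) :
    Cfsg.IsComplIn (M ⊓ L) (Cfsg.sigmaCore L) L := by
  have htp : t.Prime := Fact.out
  have hTL : T ≤ L := Subgroup.le_normalizer.trans hNT
  obtain ⟨S, hTS, hS⟩ := exists_isSylowIn_ge (le_inf hTM hTL) hTt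
  obtain ⟨hnc, hNS, hSidx⟩ :=
    lemma_12_17 hG hU hM ht (h1416 M hM t) hTt hT1 hTM hne hNT hS hTS
  have hSL : IsSylowIn t S L := ⟨hS.1.trans inf_le_right, hS.2.1, hSidx⟩
  -- `t ∈ τ₂(L)`
  obtain ⟨hr2, hr1⟩ := (mem_sigma_or_rank_two hG hU hL T hTt hT1 hNT).resolve_left htL
  have htτ : t ∈ Cfsg.tau2 L := ⟨htp, htL, hr2, hr1⟩
  obtain ⟨A₀, hA₀L, hA₀e, hA₀c⟩ := exists_elementaryAbelian_sq hr2 hr1
  obtain ⟨a, haL, haS⟩ :=
    exists_cj_le_of_isSylowIn hSL hA₀L (isPGroup_of_isElementaryAbelian hA₀e)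
  set A : Subgroup G := BG10.cj a A₀ with hA
  have hAe : Cfsg.IsElementaryAbelian t A := isElementaryAbelian_cj hA₀e a
  have hAc : Nat.card A = t ^ 2 := by rw [hA, card_cj, hA₀c]
  have hAM : A ≤ M := haS.trans (hS.1.trans inf_le_left)
  have hAL : A ≤ L := haS.trans (hS.1.trans inf_le_right)
  have hAp : IsPGroup t A := isPGroup_of_isElementaryAbelian hAe
  have hNA : Subgroup.normalizer (A : Set G) ≤ M :=
    normalizer_le_of_not_isCyclic hG hU hM ht (h1416 M hM t) hAp hAM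
      (not_isCyclic_of_elemAb_sq hAe hAc)
  obtain ⟨-, -, hnorm, hinter⟩ := h1417 L hL t htτ A hAL hAe hAc
  have hbot : Cfsg.sigmaCore L ⊓ M = ⊥ := hinter M hM hne.symm hAM
  -- `|L_σ A| = |L_σ| |A|`
  have hAn : A ≤ Subgroup.normalizer ((Cfsg.sigmaCore L : Subgroup G) : Set G) :=
    hAL.trans (le_normalizer_sigmaCore L)
  have hdisj : Cfsg.sigmaCore L ⊓ A = ⊥ := by
    rw [eq_bot_iff]
    calc Cfsg.sigmaCore L ⊓ A ≤ Cfsg.sigmaCore L ⊓ M := inf_le_inf_left _ hAM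
      _ = ⊥ := hbot
  have hcardN := Cfsg.Agent.Helper23.card_sup_of_disjoint_of_le_normalizer hdisj hAn
  set N : Subgroup G := Cfsg.sigmaCore L ⊔ A with hN
  have hNL : N ≤ L := sup_le (sigmaCore_le L) hAL
  have htσ : ¬ t ∣ Nat.card (Cfsg.sigmaCore L) := fun hd => htL (primes_sigmaCore L t htp hd)
  have hASyl : IsSylowIn t A N := by
    refine ⟨le_sup_right, hAp, ?_⟩
    have h1 := Cfsg.Agent.Helper31.relIndex_mul_card' (le_sup_right : A ≤ N)
    rw [hcardN, mul_comm, mul_comm (Nat.card ↥(Cfsg.sigmaCore L))] at h1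
    have h2 : A.relIndex N = Nat.card (Cfsg.sigmaCore L) :=
      Nat.eq_of_mul_eq_mul_left Nat.card_pos h1
    rw [h2]; exact htσ
  -- Frattini
  have hfr : ∀ l ∈ L, ∃ s ∈ Cfsg.sigmaCore L, ∃ m ∈ M ⊓ L, l = s * m := by
    intro l hl
    have hlN : BG10.cj l N = N := cj_eq_of_mem_normalizer (hnorm hl)
    have h1 : IsSylowIn t (BG10.cj l A) N := by
      have := hASyl.cj l
      rwa [hlN] at this
    obtain ⟨n, hnN, hn⟩ := hASyl.exists_cj_eq h1
    rw [← BG10.cj_mul] at hn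
    have hnl : n * l ∈ Subgroup.normalizer (A : Set G) := mem_normalizer_of_cj_eq hn
    have hnlM : n * l ∈ M := hNA hnl
    have hnlL : n * l ∈ L := L.mul_mem (hNL hnN) hl
    obtain ⟨s, hs, b, hb, hsb⟩ :=
      (Cfsg.Agent.Helper23.mem_sup_iff_of_le_normalizer hAn).1 (N.inv_mem hnN)
    refine ⟨s, hs, b * (n * l), ⟨M.mul_mem (hAM hb) hnlM, L.mul_mem (hAL hb) hnlL⟩, ?_⟩
    rw [← mul_assoc, ← hsb]; group
  refine ⟨inf_le_right, sigmaCore_le L, ?_, ?_⟩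
  · rw [inf_comm, ← inf_assoc, hbot, bot_inf_eq]
  · intro l hl
    obtain ⟨s, hs, m, hm, hlsm⟩ := hfr l⁻¹ (L.inv_mem hl)
    refine ⟨m⁻¹, (M ⊓ L).inv_mem hm, s⁻¹, (Cfsg.sigmaCore L).inv_mem hs, ?_⟩
    have : l = (l⁻¹)⁻¹ := (inv_inv l).symm
    rw [this, hlsm]; group

omit [Finite G] in
/-- order of an element of a relative `p`-subgroup is a power of `p` -/
theorem orderOf_eq_pow_of_mem {p : ℕ} [hp : Fact p.Prime] {P : Subgroup G} (hP : IsPGroup p P)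
    {y : G} (hy : y ∈ P) : ∃ k, orderOf y = p ^ k := by
  obtain ⟨k, hk⟩ := IsPGroup.iff_orderOf.1 hP ⟨y, hy⟩
  exact ⟨k, by rw [← hk, Subgroup.orderOf_mk]⟩

/-- a Sylow subgroup of a Hall `π`-subgroup `W` of `K` for a prime of `π` is Sylow in `K` -/
theorem isSylowIn_of_isPiHallOf {π : Set ℕ} {W K Q : Subgroup G} {q : ℕ} [hq : Fact q.Prime]
    (hW : Cfsg.IsPiHallOf π W K) (hqπ : q ∈ π) (hQ : IsSylowIn q Q W) : IsSylowIn q Q K := by
  refine ⟨hQ.1.trans hW.1, hQ.2.1, ?_⟩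
  rw [← Subgroup.relIndex_mul_relIndex Q W K hQ.1 hW.1]
  intro hd
  rcases (Nat.Prime.dvd_mul hq.out).1 hd with h | h
  · exact hQ.2.2 h
  · exact hW.2.2 q hq.out hqπ h

/-- **B-G 12.17(d1)** for the primes of `σ(L) \ β(L)`: in the setting of S1424, if `t ∈ σ(L)` then
`M` contains a Sylow `p`-subgroup of `L` for every `p ∈ σ(L) \ β(L)`, `p ≠ t`. -/
theorem lemma_12_17_d (hG : Cfsg.IsMinSimpleOddOrder G) (hU : UniquenessThm G)
    (h1416 : H1416 G) (hW : NilpHallSigma G)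
    {M L : Subgroup G} (hM : IsCoatom M) (hL : IsCoatom L) (hne : L ≠ M)
    {t : ℕ} [Fact t.Prime] (ht : t ∈ Cfsg.sigma M) {T : Subgroup G} (hTt : IsPGroup t T)
    (hT1 : T ≠ ⊥) (hTM : T ≤ M) (hNT : Subgroup.normalizer (T : Set G) ≤ L)
    (htL : t ∈ Cfsg.sigma L)
    {p : ℕ} [Fact p.Prime] (hpL : p ∈ Cfsg.sigma L) (hpβ : p ∉ Cfsg.beta L) (hpt : p ≠ t) :
    ∃ P : Subgroup G, IsSylowIn p P L ∧ P ≤ M := by
  have htp : t.Prime := Fact.out
  have hpp : p.Prime := Fact.out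
  have hTL : T ≤ L := Subgroup.le_normalizer.trans hNT
  obtain ⟨S, hTS, hS⟩ := exists_isSylowIn_ge (le_inf hTM hTL) hTt
  obtain ⟨hnc, hNS, hSidx⟩ :=
    lemma_12_17 hG hU hM ht (h1416 M hM t) hTt hT1 hTM hne hNT hS hTS
  have hSL : IsSylowIn t S L := ⟨hS.1.trans inf_le_right, hS.2.1, hSidx⟩
  -- `t ∉ β(L)`
  have htβ : t ∉ Cfsg.beta L := by
    intro hb
    have hnc' : ∀ g : G, BG10.cj g L ≠ M := by
      intro g hg
      apply hnc g⁻¹
      rw [← hg, BG10.cj_inv_cj]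
    exact not_mem_sigma_of_mem_alpha hG hU hL hM hnc' hb.1 ht
  obtain ⟨W, hWH, hWn⟩ := hW L hL
  obtain ⟨St, -, hSt⟩ := exists_isSylowIn_ge (p := t) (bot_le : (⊥ : Subgroup G) ≤ W)
    IsPGroup.of_bot
  obtain ⟨Sp, -, hSp⟩ := exists_isSylowIn_ge (p := p) (bot_le : (⊥ : Subgroup G) ≤ W)
    IsPGroup.of_bot
  have hStL : IsSylowIn t St L :=
    (isSylowIn_sigmaCore_iff hG hU hL htL).1 (isSylowIn_of_isPiHallOf hWH ⟨htp, htβ⟩ hSt)
  have hSpL : IsSylowIn p Sp L :=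
    (isSylowIn_sigmaCore_iff hG hU hL hpL).1 (isSylowIn_of_isPiHallOf hWH ⟨hpp, hpβ⟩ hSp)
  obtain ⟨n, hnL, hn⟩ := hSL.exists_cj_eq hStL
  refine ⟨BG10.cj n Sp, hSpL.cj_mem hnL, ?_⟩
  intro x hx
  apply hNS
  apply Subgroup.centralizer_le_normalizer
  rw [Subgroup.mem_centralizer_iff]
  intro s hs
  have hs' : s ∈ BG10.cj n St := by rw [hn]; exact hs
  have h1 := mem_cj.1 hx
  have h2 := mem_cj.1 hs'
  obtain ⟨k, hk⟩ := orderOf_eq_pow_of_mem hSp.2.1 h1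
  obtain ⟨j, hj⟩ := orderOf_eq_pow_of_mem hSt.2.1 h2
  have hcop : (orderOf (n⁻¹ * s * n)).Coprime (orderOf (n⁻¹ * x * n)) := by
    rw [hk, hj]
    exact Nat.Coprime.pow _ _ ((Nat.coprime_primes htp hpp).2 (Ne.symm hpt))
  have h3 := Cfsg.Agent.Helper67.NilHall.commute_of_mem_nilpotent hWn (hSt.1 h2) (hSp.1 h1) hcop
  have e1 : s * x = n * ((n⁻¹ * s * n) * (n⁻¹ * x * n)) * n⁻¹ := by group
  have e2 : x * s = n * ((n⁻¹ * x * n) * (n⁻¹ * s * n)) * n⁻¹ := by group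
  rw [e1, e2, h3]

/-- a subgroup of `L` elementary abelian of order `p²` is conjugate into any Sylow `p`-subgroup
of `L`; so `M` of `p`-rank one contains no Sylow `p`-subgroup of `L` -/
theorem false_of_isSylowIn_le {p : ℕ} [Fact p.Prime] {M L P A₁ : Subgroup G}
    (hpM : Cfsg.PRankLE p 1 ↥M) (hP : IsSylowIn p P L) (hPM : P ≤ M)
    (hA₁e : Cfsg.IsElementaryAbelian p A₁) (hA₁c : Nat.card A₁ = p ^ 2) (hA₁L : A₁ ≤ L) :
    False := by
  have hpp : p.Prime := Fact.out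
  obtain ⟨a, haL, ha⟩ :=
    exists_cj_le_of_isSylowIn hP hA₁L (isPGroup_of_isElementaryAbelian hA₁e)
  apply (Cfsg.Agent.Helper23.not_pRankLE_subgroup_iff p 1 M).2 _ hpM
  refine ⟨BG10.cj a A₁, ha.trans hPM, isElementaryAbelian_cj hA₁e a, ?_⟩
  rw [card_cj, hA₁c, pow_one]
  have := hpp.one_lt
  nlinarith

/-- **Lemma T2B** (the end of the `τ₂` case of B-G 13.3(a)): `M` maximal of `p`-rank one, `p` not
ideal, `T ≠ 1` a `t`-subgroup of `M` with `t ∈ σ(M)`, normalized by a nontrivial `p`-subgroup `S`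
of `M`.  Then no elementary abelian subgroup of order `p²` normalizes `T`. -/
theorem false_of_normalizer (hG : Cfsg.IsMinSimpleOddOrder G) (hU : UniquenessThm G)
    (h1416 : H1416 G) (h1417 : H1417 G) (hW : NilpHallSigma G)
    {M : Subgroup G} (hM : IsCoatom M) {p : ℕ} [Fact p.Prime] (hpM : Cfsg.PRankLE p 1 ↥M)
    (hni : ¬ Cfsg.IsIdealPrime p G)
    {t : ℕ} [Fact t.Prime] (ht : t ∈ Cfsg.sigma M) (hpt : p ≠ t)
    {T : Subgroup G} (hTt : IsPGroup t T) (hT1 : T ≠ ⊥) (hTM : T ≤ M)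
    {S : Subgroup G} (hSp : IsPGroup p S) (hS1 : S ≠ ⊥) (hSM : S ≤ M)
    (hSN : S ≤ Subgroup.normalizer (T : Set G))
    {A₁ : Subgroup G} (hA₁e : Cfsg.IsElementaryAbelian p A₁) (hA₁c : Nat.card A₁ = p ^ 2)
    (hA₁T : A₁ ≤ Subgroup.normalizer (T : Set G)) : False := by
  haveI : IsSimpleGroup G := hG.2.1
  have hpp : p.Prime := Fact.out
  have htp : t.Prime := Fact.out
  have hNtop : Subgroup.normalizer (T : Set G) ≠ ⊤ :=
    Cfsg.Agent.Helper31.bgt_normalizer_ne_top_of_simple hT1 (isPGroup_ne_top hG hTt)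
  obtain ⟨L, hL, hNT⟩ := (eq_top_or_exists_le_coatom _).resolve_left hNtop
  have hA₁L : A₁ ≤ L := hA₁T.trans hNT
  have hp1 : p < p ^ 2 := by
    have := hpp.one_lt
    nlinarith
  have hne : L ≠ M := by
    rintro rfl
    apply (Cfsg.Agent.Helper23.not_pRankLE_subgroup_iff p 1 L).2 _ hpM
    exact ⟨A₁, hA₁L, hA₁e, by rw [hA₁c, pow_one]; exact hp1⟩
  have hr1L : ¬ Cfsg.PRankLE p 1 ↥L := by
    apply (Cfsg.Agent.Helper23.not_pRankLE_subgroup_iff p 1 L).2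
    exact ⟨A₁, hA₁L, hA₁e, by rw [hA₁c, pow_one]; exact hp1⟩
  have hpβ : p ∉ Cfsg.beta L := fun hb => hni hb.2
  by_cases htL : t ∈ Cfsg.sigma L
  · -- case (d)
    have hnc : ∀ g : G, BG10.cj g L ≠ M := by
      have h := not_conj_of_normalizer_le hG hU hM ht hTt hT1 hTM hNT hne
      intro g hg
      apply h g⁻¹
      rw [← hg, BG10.cj_inv_cj]
    have hpL : p ∈ Cfsg.sigma L := by
      by_contra hpL
      by_cases hr2 : Cfsg.PRankLE p 2 ↥L
      · have hτ : p ∈ Cfsg.tau2 L := ⟨hpp, hpL, hr2, hr1L⟩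
        obtain ⟨hnil, -, -, -⟩ := h1417 L hL p hτ A₁ hA₁L hA₁e hA₁c
        exact not_mem_sigma_of_mem_sigma hG hU hL hM hnc hnil htL ht
      · exact hpL (alpha_subset_sigma hG hU hL ⟨hpp, hr2⟩)
    obtain ⟨P, hP, hPM⟩ :=
      lemma_12_17_d hG hU h1416 hW hM hL hne ht hTt hT1 hTM hNT htL hpL hpβ hpt
    exact false_of_isSylowIn_le hpM hP hPM hA₁e hA₁c hA₁L
  · -- case (e)
    have hcompl := lemma_12_17_e hG hU h1416 h1417 hM hL hne ht hTt hT1 hTM hNT htL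
    have hSL : S ≤ L := hSN.trans hNT
    have hpL : p ∉ Cfsg.sigma L := by
      intro hpL
      have h1 : S ≤ Cfsg.sigmaCore L := le_sigmaCore_of_isPGroup hG hU hL hpL hSp hSL
      apply hS1
      rw [eq_bot_iff, ← hcompl.2.2.1]
      exact le_inf (le_inf hSM hSL) h1
    have hpσ : ¬ p ∣ Nat.card (Cfsg.sigmaCore L) := fun hd => hpL (primes_sigmaCore L p hpp hd)
    obtain ⟨P, -, hP⟩ := exists_isSylowIn_ge (p := p) (bot_le : (⊥ : Subgroup G) ≤ M ⊓ L)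
      IsPGroup.of_bot
    have hcard := Cfsg.Agent.Helper68.BG12.card_mul_card_of_isComplIn hcompl
    have hrel : (M ⊓ L).relIndex L = Nat.card (Cfsg.sigmaCore L) := by
      have h1 := Cfsg.Agent.Helper31.relIndex_mul_card' (inf_le_right : M ⊓ L ≤ L)
      rw [← hcard, mul_comm] at h1
      exact Nat.eq_of_mul_eq_mul_left Nat.card_pos h1
    have hPL : IsSylowIn p P L := by
      refine ⟨hP.1.trans inf_le_right, hP.2.1, ?_⟩
      rw [← Subgroup.relIndex_mul_relIndex P (M ⊓ L) L hP.1 inf_le_right]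
      intro hd
      rcases (Nat.Prime.dvd_mul hpp).1 hd with h | h
      · exact hP.2.2 h
      · rw [hrel] at h; exact hpσ h
    exact false_of_isSylowIn_le hpM hPL (hP.1.trans inf_le_left) hA₁e hA₁c hA₁L

end Cfsg.Agent.Helper23.BG13
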