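import Mathlib
import Cfsg.Prelude.Def_OddOrderLocal
import Cfsg.Agent.Helper23.BG13B
import Cfsg.Agent.Helper1.CoprimeSylow

/-!
# B-G Corollary 13.3(a) (statement S1427), core (helper23)

`M` maximal, `S₀` a nontrivial cyclic Sylow `p`-subgroup of `M`, `p ∉ σ(M)`, `X ≠ 1` a subgroup of
`S₀`: then `S₀` centralizes `C_{M_σ}(X)`.
Inputs (statement shaped): S1403 (`UniquenessThm`), S1414 (`NormalComplComm`, `NilpHallSigma`),
S1416(1) (`H1416`), S1417 (`H1417`).
-/

set_option autoImplicit false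
set_option linter.unusedVariables false
set_option linter.unusedSectionVars false
set_option linter.style.haveILetI false

namespace Cfsg.Agent.Helper23.BG13

open Cfsg Cfsg.Agent.Helper29 Cfsg.Agent.Helper29.BG10 Cfsg.Agent.Helper29.BG11 Cfsg.Agent.Helper1.BG12
open scoped commutatorElement

variable {G : Type*} [Group G] [Finite G]

omit [Finite G] in
/-- a cyclic elementary abelian `p`-group has order at most `p` -/
theorem card_le_of_isCyclic_of_elemAb {p : ℕ} [hp : Fact p.Prime] {A : Subgroup G}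
    (hA : Cfsg.IsElementaryAbelian p A) (hcyc : IsCyclic ↥A) : Nat.card A ≤ p := by
  by_cases hfin : Finite ↥A
  · obtain ⟨g, hg⟩ := hcyc.exists_ofOrder_eq_natCard
    have h1 : (g : G) ^ p = 1 := hA.2 g g.2
    have h2 : g ^ p = 1 := Subtype.ext (by simpa using h1)
    have h3 : orderOf g ∣ p := orderOf_dvd_of_pow_eq_one h2
    rw [hg] at h3
    exact Nat.le_of_dvd hp.out.pos h3
  · rw [not_finite_iff_infinite] at hfin
    rw [Nat.card_eq_zero_of_infinite]; exact Nat.zero_le _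

/-- a cyclic Sylow `p`-subgroup forces `p`-rank at most one -/
theorem pRankLE_one_of_isCyclic_sylow {p : ℕ} [hp : Fact p.Prime] {M S₀ : Subgroup G}
    (hS : IsSylowIn p S₀ M) (hSc : IsCyclic ↥S₀) : Cfsg.PRankLE p 1 ↥M := by
  by_contra hcon
  obtain ⟨A, hAM, hAe, hAc⟩ := (Cfsg.Agent.Helper23.not_pRankLE_subgroup_iff p 1 M).1 hcon
  obtain ⟨a, haM, ha⟩ := exists_cj_le_of_isSylowIn hS hAM (isPGroup_of_isElementaryAbelian hAe)
  have hcyc : IsCyclic ↥(BG10.cj a A) := by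
    have e := Subgroup.subgroupOfEquivOfLe ha
    haveI : IsCyclic ↥((BG10.cj a A).subgroupOf S₀) := Subgroup.isCyclic _
    exact isCyclic_of_surjective e e.surjective
  have h1 := card_le_of_isCyclic_of_elemAb (isElementaryAbelian_cj hAe a) hcyc
  rw [card_cj, ] at h1
  rw [pow_one] at hAc
  omega

/-- `p`-rank is invariant under conjugation -/
theorem pRankLE_cj {p k : ℕ} {M : Subgroup G} (h : Cfsg.PRankLE p k ↥M) (g : G) :
    Cfsg.PRankLE p k ↥(BG10.cj g M) := by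
  by_contra hcon
  obtain ⟨A, hAM, hAe, hAc⟩ :=
    (Cfsg.Agent.Helper23.not_pRankLE_subgroup_iff p k (BG10.cj g M)).1 hcon
  apply (Cfsg.Agent.Helper23.not_pRankLE_subgroup_iff p k M).2 _ h
  refine ⟨BG10.cj g⁻¹ A, ?_, isElementaryAbelian_cj hAe g⁻¹, by rw [card_cj]; exact hAc⟩
  rw [cj_le_iff, inv_inv]; exact hAM

/-- for `p ∈ σ(H)` the `p`-subgroups of `H` lie in `H'` -/
theorem le_commutator_of_mem_sigma (hG : Cfsg.IsMinSimpleOddOrder G) (hU : UniquenessThm G)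
    {H : Subgroup G} (hH : IsCoatom H) {p : ℕ} [Fact p.Prime] (hp : p ∈ Cfsg.sigma H)
    {P : Subgroup G} (hP : IsPGroup p P) (hPH : P ≤ H) : P ≤ ⁅H, H⁆ := by
  have h1 : P ≤ Cfsg.sigmaCore H := le_sigmaCore_of_isPGroup hG hU hH hp hP hPH
  have hmap : (commutator ↥H).map H.subtype = ⁅H, H⁆ := by
    rw [commutator_def, Subgroup.map_commutator, ← MonoidHom.range_eq_map, Subgroup.range_subtype]
  refine h1.trans ?_
  rw [← hmap]
  exact Subgroup.map_mono (Cfsg.Agent.Helper50.BG13.piCore_sigma_le_commutator hG hU hH)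

omit [Finite G] in
/-- the kernel of the action of `H` on `B / N` (as a subgroup of `G`) -/
def quotCent (H N B : Subgroup G) (hN : H ≤ Subgroup.normalizer (N : Set G)) : Subgroup G where
  carrier := {h | h ∈ H ∧ ∀ b ∈ B, h * b * h⁻¹ * b⁻¹ ∈ N}
  one_mem' := ⟨H.one_mem, fun b hb => by simp [N.one_mem]⟩
  mul_mem' := by
    rintro h₁ h₂ ⟨h₁H, h₁c⟩ ⟨h₂H, h₂c⟩
    refine ⟨H.mul_mem h₁H h₂H, fun b hb => ?_⟩
    have e : h₁ * h₂ * b * (h₁ * h₂)⁻¹ * b⁻¹ =
        (h₁ * (h₂ * b * h₂⁻¹ * b⁻¹) * h₁⁻¹) * (h₁ * b * h₁⁻¹ * b⁻¹) := by group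
    rw [e]
    exact N.mul_mem ((Subgroup.mem_normalizer_iff.1 (hN h₁H) _).1 (h₂c b hb)) (h₁c b hb)
  inv_mem' := by
    rintro h ⟨hH, hc⟩
    refine ⟨H.inv_mem hH, fun b hb => ?_⟩
    have e : h⁻¹ * b * h⁻¹⁻¹ * b⁻¹ = h⁻¹ * (h * b * h⁻¹ * b⁻¹)⁻¹ * h⁻¹⁻¹ := by group
    rw [e]
    exact (Subgroup.mem_normalizer_iff.1 (hN (H.inv_mem hH)) _).1 (N.inv_mem (hc b hb))

omit [Finite G] in
theorem mem_quotCent {H N B : Subgroup G} {hN : H ≤ Subgroup.normalizer (N : Set G)} {h : G} :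
    h ∈ quotCent H N B hN ↔ h ∈ H ∧ ∀ b ∈ B, h * b * h⁻¹ * b⁻¹ ∈ N := Iff.rfl

omit [Finite G] in
theorem conj_mem_quotCent {H N B : Subgroup G} {hN : H ≤ Subgroup.normalizer (N : Set G)}
    (hB : H ≤ Subgroup.normalizer (B : Set G)) {g h : G} (hg : g ∈ H)
    (hh : h ∈ quotCent H N B hN) : g * h * g⁻¹ ∈ quotCent H N B hN := by
  obtain ⟨hH, hc⟩ := hh
  refine ⟨H.mul_mem (H.mul_mem hg hH) (H.inv_mem hg), fun b hb => ?_⟩
  have hb' : g⁻¹ * b * g⁻¹⁻¹ ∈ B := (Subgroup.mem_normalizer_iff.1 (hB (H.inv_mem hg)) _).1 hb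
  have e : g * h * g⁻¹ * b * (g * h * g⁻¹)⁻¹ * b⁻¹ =
      g * (h * (g⁻¹ * b * g⁻¹⁻¹) * h⁻¹ * (g⁻¹ * b * g⁻¹⁻¹)⁻¹) * g⁻¹ := by group
  rw [e]
  exact (Subgroup.mem_normalizer_iff.1 (hN hg) _).1 (hc _ hb')

omit [Finite G] in
/-- `[K, S] ≤ C` when `K ≤ H` and `S ≤ C`, for `C` the kernel of the action of `H` on `B / N` -/
theorem commutator_le_quotCent {H N B K S : Subgroup G}
    {hN : H ≤ Subgroup.normalizer (N : Set G)}
    (hB : H ≤ Subgroup.normalizer (B : Set G)) (hKH : K ≤ H) (hS : S ≤ quotCent H N B hN) :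
    ⁅K, S⁆ ≤ quotCent H N B hN := by
  rw [Subgroup.commutator_le]
  intro k hk s hs
  rw [commutatorElement_def]
  exact (quotCent H N B hN).mul_mem (conj_mem_quotCent hB (hKH hk) (hS hs))
    ((quotCent H N B hN).inv_mem (hS hs))

omit [Finite G] in
/-- a subgroup normalizing `A` and `B` normalizes `[A, B]` -/
theorem le_normalizer_commutator {A B N : Subgroup G}
    (hA : N ≤ Subgroup.normalizer (A : Set G)) (hB : N ≤ Subgroup.normalizer (B : Set G)) :
    N ≤ Subgroup.normalizer ((⁅A, B⁆ : Subgroup G) : Set G) := by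
  intro n hn
  apply mem_normalizer_of_cj_eq
  show (⁅A, B⁆ : Subgroup G).map (MulAut.conj n).toMonoidHom = ⁅A, B⁆
  rw [Subgroup.map_commutator]
  have h1 : A.map (MulAut.conj n).toMonoidHom = A := cj_eq_of_mem_normalizer (hA hn)
  have h2 : B.map (MulAut.conj n).toMonoidHom = B := cj_eq_of_mem_normalizer (hB hn)
  rw [h1, h2]

/-- **B-G Corollary 13.3(a)**, core. -/
theorem cor_13_3a_core (hG : Cfsg.IsMinSimpleOddOrder G) (hU : UniquenessThm G)
    (h1414 : NormalComplComm G) (h1416 : H1416 G) (h1417 : H1417 G) (hW : NilpHallSigma G)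
    {M : Subgroup G} (hM : IsCoatom M) {p : ℕ} [Fact p.Prime] (hpσ : p ∉ Cfsg.sigma M)
    {S₀ : Subgroup G} (hS : IsSylowIn p S₀ M) (hS1 : S₀ ≠ ⊥) (hSc : IsCyclic ↥S₀)
    {X : Subgroup G} (hXS : X ≤ S₀) (hX1 : X ≠ ⊥) :
    ⁅Cfsg.sigmaCore M ⊓ Subgroup.centralizer (X : Set G), S₀⁆ = ⊥ := by
  classical
  haveI : IsSimpleGroup G := hG.2.1
  have hpp : p.Prime := Fact.out
  set K : Subgroup G := Cfsg.sigmaCore M ⊓ Subgroup.centralizer (X : Set G) with hK
  by_contra hK₁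
  have hpM : Cfsg.PRankLE p 1 ↥M := pRankLE_one_of_isCyclic_sylow hS hSc
  have hXp : IsPGroup p X := hS.2.1.to_le hXS
  have hSM : S₀ ≤ M := hS.1
  have hNtop : Subgroup.normalizer (X : Set G) ≠ ⊤ :=
    Cfsg.Agent.Helper31.bgt_normalizer_ne_top_of_simple hX1 (isPGroup_ne_top hG hXp)
  obtain ⟨H, hH, hNX⟩ := (eq_top_or_exists_le_coatom _).resolve_left hNtop
  have hCX : Subgroup.centralizer (X : Set G) ≤ H :=
    (Subgroup.centralizer_le_normalizer _).trans hNX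
  have hScomm : ∀ u ∈ S₀, ∀ v ∈ S₀, u * v = v * u := by
    intro u hu v hv
    have := (IsCyclic.isMulCommutative (α := ↥S₀)).is_comm.comm ⟨u, hu⟩ ⟨v, hv⟩
    exact congrArg Subtype.val this
  have hSH : S₀ ≤ H := by
    intro s hs
    apply hCX
    rw [Subgroup.mem_centralizer_iff]
    intro x hx
    exact hScomm x (hXS hx) s hs
  have hKH : K ≤ H := inf_le_right.trans hCX
  have hKσ : K ≤ Cfsg.sigmaCore M := inf_le_left
  have hK₁σ : ⁅K, S₀⁆ ≤ Cfsg.sigmaCore M := by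
    rw [Subgroup.commutator_le]
    intro k hk s hs
    rw [commutatorElement_def]
    have h1 : s * k⁻¹ * s⁻¹ ∈ Cfsg.sigmaCore M :=
      (Subgroup.mem_normalizer_iff.1 (le_normalizer_sigmaCore M (hSM hs)) _).1
        ((Cfsg.sigmaCore M).inv_mem (hKσ hk))
    have e : k * s * k⁻¹ * s⁻¹ = k * (s * k⁻¹ * s⁻¹) := by group
    rw [e]
    exact (Cfsg.sigmaCore M).mul_mem (hKσ hk) h1
  -- `M` and `H` are not conjugate
  have h122 := mem_sigma_or_rank_two hG hU hH X hXp hX1 hNX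
  have hnc : ∀ g : G, BG10.cj g M ≠ H := by
    rintro g rfl
    rcases h122 with h | ⟨-, h⟩
    · rw [sigma_cj] at h; exact hpσ h
    · exact h (pRankLE_cj hpM g)
  have hnc' : ∀ g : G, BG10.cj g H ≠ M := by
    intro g hg
    apply hnc g⁻¹
    rw [← hg, BG10.cj_inv_cj]
  by_cases hpH : p ∈ Cfsg.sigma H
  · -- `p ∈ σ(H)`: Lemma A(i)
    have hS' : S₀ ≤ ⁅H, H⁆ := le_commutator_of_mem_sigma hG hU hH hpH hS.2.1 hSH
    have h1 := commutator_eq_bot_of_le_commutator hG hU h1414 hM hH hnc' hpσ hS.2.1 hSM hS'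
    apply hK₁
    rw [eq_bot_iff, ← h1]
    exact Subgroup.commutator_mono (le_inf hKσ hKH) le_rfl
  · -- `p ∈ τ₂(H)`
    obtain ⟨hr2, hr1⟩ := h122.resolve_left hpH
    have hτ : p ∈ Cfsg.tau2 H := ⟨hpp, hpH, hr2, hr1⟩
    have hni : ¬ Cfsg.IsIdealPrime p G := (thm_10_5 hG hU H hH p hr2 hr1).1
    obtain ⟨A₀, hA₀H, hA₀e, hA₀c⟩ := exists_elementaryAbelian_sq hr2 hr1
    obtain ⟨PH, hSPH, hPH⟩ := exists_isSylowIn_ge hSH hS.2.1
    obtain ⟨a, haH, haP⟩ :=
      exists_cj_le_of_isSylowIn hPH hA₀H (isPGroup_of_isElementaryAbelian hA₀e)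
    set A : Subgroup G := BG10.cj a A₀ with hA
    have hAe : Cfsg.IsElementaryAbelian p A := isElementaryAbelian_cj hA₀e a
    have hAc : Nat.card A = p ^ 2 := by rw [hA, card_cj, hA₀c]
    have hAH : A ≤ H := haP.trans hPH.1
    have hAp : IsPGroup p A := isPGroup_of_isElementaryAbelian hAe
    obtain ⟨hnil, hab, hnorm, -⟩ := h1417 H hH p hτ A hAH hAe hAc
    -- the Sylow `p`-subgroup `PH` is abelian
    have hPHcomm : ∀ u ∈ PH, ∀ v ∈ PH, u * v = v * u := by
      obtain ⟨P, hP⟩ := BG11.IsSylowIn.exists_sylow hPH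
      intro u hu v hv
      rw [← hP] at hu hv
      obtain ⟨u', hu', rfl⟩ := hu
      obtain ⟨v', hv', rfl⟩ := hv
      have := (hab P).is_comm.comm ⟨u', hu'⟩ ⟨v', hv'⟩
      have h2 : u' * v' = v' * u' := congrArg Subtype.val this
      have h3 := congrArg H.subtype h2
      simpa using h3
    -- `B = H_σ A`, normalized by `H`
    have hAn : A ≤ Subgroup.normalizer ((Cfsg.sigmaCore H : Subgroup G) : Set G) :=
      hAH.trans (le_normalizer_sigmaCore H)
    have hpσH : ¬ p ∣ Nat.card (Cfsg.sigmaCore H) := fun hd => hpH (primes_sigmaCore H p hpp hd)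
    have hdisj : Cfsg.sigmaCore H ⊓ A = ⊥ := by
      apply Subgroup.inf_eq_bot_of_coprime
      rw [hAc]
      exact Nat.Coprime.pow_right 2 ((Nat.Prime.coprime_iff_not_dvd hpp).2 hpσH).symm
    have hcardB := Cfsg.Agent.Helper23.card_sup_of_disjoint_of_le_normalizer hdisj hAn
    set B : Subgroup G := Cfsg.sigmaCore H ⊔ A with hB
    have hBH : B ≤ H := sup_le (sigmaCore_le H) hAH
    have hASyl : IsSylowIn p A B := by
      refine ⟨le_sup_right, hAp, ?_⟩
      have h1 := Cfsg.Agent.Helper31.relIndex_mul_card' (le_sup_right : A ≤ B)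
      rw [hcardB, mul_comm, mul_comm (Nat.card ↥(Cfsg.sigmaCore H))] at h1
      have h2 : A.relIndex B = Nat.card (Cfsg.sigmaCore H) :=
        Nat.eq_of_mul_eq_mul_left Nat.card_pos h1
      rw [h2]; exact hpσH
    -- the kernel `C` of the action of `H` on `B / H_σ`
    set C : Subgroup G := quotCent H (Cfsg.sigmaCore H) B (le_normalizer_sigmaCore H) with hC
    have hSC : S₀ ≤ C := by
      intro s hs
      refine ⟨hSH hs, fun b hb => ?_⟩
      obtain ⟨n, hn, a', ha', rfl⟩ :=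
        (Cfsg.Agent.Helper23.mem_sup_iff_of_le_normalizer hAn).1 hb
      have hcom : s * a' = a' * s := hPHcomm s (hSPH hs) a' (haP ha')
      have h1 : s * n * s⁻¹ ∈ Cfsg.sigmaCore H :=
        (Subgroup.mem_normalizer_iff.1 (le_normalizer_sigmaCore H (hSH hs)) _).1 hn
      have h2 : a' * s⁻¹ * a'⁻¹ = s⁻¹ := by
        have h3 : a' * s⁻¹ = s⁻¹ * a' := by
          have : s⁻¹ * (s * a') * s⁻¹ = s⁻¹ * (a' * s) * s⁻¹ := by rw [hcom]
          have e1 : s⁻¹ * (s * a') * s⁻¹ = a' * s⁻¹ := by group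
          have e2 : s⁻¹ * (a' * s) * s⁻¹ = s⁻¹ * a' := by group
          rw [e1, e2] at this; exact this
        rw [h3]; group
      have e : s * (n * a') * s⁻¹ * (n * a')⁻¹ = s * n * (a' * s⁻¹ * a'⁻¹) * n⁻¹ := by group
      rw [e, h2]
      exact (Cfsg.sigmaCore H).mul_mem h1 ((Cfsg.sigmaCore H).inv_mem hn)
    have hK₁C : ⁅K, S₀⁆ ≤ C := commutator_le_quotCent hnorm hKH hSC
    -- the prime `t`
    have hK₁card : Nat.card ↥⁅K, S₀⁆ ≠ 1 := fun h => hK₁ (Subgroup.card_eq_one.1 h)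
    obtain ⟨t, htp, htd⟩ := Nat.exists_prime_and_dvd hK₁card
    haveI : Fact t.Prime := ⟨htp⟩
    have htM : t ∈ Cfsg.sigma M :=
      primes_sigmaCore M t htp (htd.trans (Subgroup.card_dvd_of_le hK₁σ))
    have hpt : p ≠ t := by rintro rfl; exact hpσ htM
    have htH : t ∉ Cfsg.sigma H := fun h =>
      not_mem_sigma_of_mem_sigma hG hU hH hM hnc' hnil h htM
    -- an `S₀`-invariant Sylow `t`-subgroup `T` of `[K, S₀]`
    have hSNK : S₀ ≤ Subgroup.normalizer (K : Set G) := by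
      intro s hs
      have h1 := Subgroup.mem_normalizer_iff.1 (le_normalizer_sigmaCore M (hSM hs))
      have hsC : s ∈ Subgroup.centralizer (X : Set G) := by
        rw [Subgroup.mem_centralizer_iff]
        intro x hx
        exact hScomm x (hXS hx) s hs
      have h2 := Subgroup.mem_normalizer_iff.1 (Subgroup.le_normalizer hsC)
      rw [Subgroup.mem_normalizer_iff]
      intro k
      rw [hK, Subgroup.mem_inf, Subgroup.mem_inf]
      exact and_congr (h1 k) (h2 k)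
    have hSK₁ : S₀ ≤ Subgroup.normalizer ((⁅K, S₀⁆ : Subgroup G) : Set G) :=
      le_normalizer_commutator hSNK Subgroup.le_normalizer
    have hcop : (Nat.card S₀).Coprime (Nat.card ↥⁅K, S₀⁆) := by
      obtain ⟨n, hn⟩ := IsPGroup.iff_card.1 hS.2.1
      rw [hn]
      apply Nat.Coprime.pow_left
      rw [Nat.Prime.coprime_iff_not_dvd hpp]
      intro hd
      exact hpσ (primes_sigmaCore M p hpp (hd.trans (Subgroup.card_dvd_of_le hK₁σ)))
    haveI : Group.IsSolvable ↥S₀ :=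
      isSolvable_of_comm (fun a b => (IsCyclic.isMulCommutative (α := ↥S₀)).is_comm.comm a b)
    obtain ⟨PT, hPT⟩ := Cfsg.Agent.Helper1.exists_invariant_sylow S₀ ⁅K, S₀⁆ hSK₁ hcop
      (Or.inl inferInstance) t
    set T : Subgroup G := (PT : Subgroup ↥⁅K, S₀⁆).map (⁅K, S₀⁆).subtype with hT
    have hTK₁ : T ≤ ⁅K, S₀⁆ := Subgroup.map_subtype_le _
    have hTt : IsPGroup t T := PT.isPGroup'.map _
    have hT1 : T ≠ ⊥ := by
      intro h
      have h1 : (PT : Subgroup ↥⁅K, S₀⁆) = ⊥ :=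
        (Subgroup.map_eq_bot_iff_of_injective _ (Subgroup.subtype_injective _)).1 h
      exact PT.ne_bot_of_dvd_card htd h1
    have hTM : T ≤ M := hTK₁.trans (hK₁σ.trans (sigmaCore_le M))
    have hTC : T ≤ C := hTK₁.trans hK₁C
    have hTH : T ≤ H := fun x hx => (hTC hx).1
    -- a `T`-invariant Sylow `p`-subgroup `A₁` of `B`
    have hTB : T ≤ Subgroup.normalizer (B : Set G) := hTH.trans hnorm
    have hcopB : (Nat.card T).Coprime (Nat.card B) := by
      obtain ⟨n, hn⟩ := IsPGroup.iff_card.1 hTt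
      rw [hn, hcardB, hAc]
      apply Nat.Coprime.pow_left
      apply Nat.Coprime.mul_right
      · rw [Nat.Prime.coprime_iff_not_dvd htp]
        exact fun hd => htH (primes_sigmaCore H t htp hd)
      · exact Nat.Coprime.pow_right 2 ((Nat.coprime_primes htp hpp).2 (Ne.symm hpt))
    haveI : Group.IsSolvable ↥T := by
      haveI := hTt.isNilpotent
      infer_instance
    obtain ⟨Q, hQ⟩ := Cfsg.Agent.Helper1.exists_invariant_sylow T B hTB hcopB
      (Or.inl inferInstance) p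
    set A₁ : Subgroup G := (Q : Subgroup ↥B).map B.subtype with hA₁
    have hA₁B : IsSylowIn p A₁ B := isSylowIn_map_sylow Q
    obtain ⟨b, hbB, hb⟩ := hA₁B.exists_cj_eq hASyl
    have hA₁e : Cfsg.IsElementaryAbelian p A₁ := by rw [← hb]; exact isElementaryAbelian_cj hAe b
    have hA₁c : Nat.card A₁ = p ^ 2 := by rw [← hb, card_cj, hAc]
    have hdisj₁ : A₁ ⊓ Cfsg.sigmaCore H = ⊥ := by
      apply Subgroup.inf_eq_bot_of_coprime
      rw [hA₁c]
      exact Nat.Coprime.pow_left 2 ((Nat.Prime.coprime_iff_not_dvd hpp).2 hpσH)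
    have hcent : A₁ ≤ Subgroup.centralizer (T : Set G) := by
      intro a ha
      rw [Subgroup.mem_centralizer_iff]
      intro τ hτ
      have h1 : τ * a * τ⁻¹ * a⁻¹ ∈ Cfsg.sigmaCore H := (hTC hτ).2 a (hA₁B.1 ha)
      have h2 : τ * a * τ⁻¹ ∈ A₁ := (Subgroup.mem_normalizer_iff.1 (hQ hτ) a).1 ha
      have h3 : τ * a * τ⁻¹ * a⁻¹ ∈ A₁ := A₁.mul_mem h2 (A₁.inv_mem ha)
      have h4 : τ * a * τ⁻¹ * a⁻¹ ∈ A₁ ⊓ Cfsg.sigmaCore H := ⟨h3, h1⟩
      rw [hdisj₁, Subgroup.mem_bot] at h4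
      have : τ * a = (τ * a * τ⁻¹ * a⁻¹) * (a * τ) := by group
      rw [this, h4, one_mul]
    exact false_of_normalizer hG hU h1416 h1417 hW hM hpM hni htM hpt hTt hT1 hTM hS.2.1 hS1 hSM
      hPT hA₁e hA₁c (hcent.trans (Subgroup.centralizer_le_normalizer _))

/-- **B-G Corollary 13.3(a)** in the shape of statement S1427. -/
theorem cor_13_3a (hG : Cfsg.IsMinSimpleOddOrder G) (hU : UniquenessThm G)
    (h1414 : NormalComplComm G) (h1416 : H1416 G) (h1417 : H1417 G) (hW : NilpHallSigma G)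
    (M : Subgroup G) (hM : IsCoatom M) (E : Subgroup G)
    (hE : Cfsg.IsComplIn E (Cfsg.sigmaCore M) M) (p : ℕ) [Fact p.Prime] (S : Sylow p E)
    (hS1 : (S : Subgroup E) ≠ ⊥) (hSc : IsCyclic (S : Subgroup E)) :
    ∀ x ∈ (S : Subgroup E).map E.subtype, x ≠ 1 →
        Cfsg.sigmaCore M ⊓ Subgroup.centralizer ({x} : Set G) =
          Cfsg.sigmaCore M ⊓
            Subgroup.centralizer (((S : Subgroup E).map E.subtype : Subgroup G) : Set G) := by
  have hpp : p.Prime := Fact.out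
  have hS₀E : IsSylowIn p ((S : Subgroup E).map E.subtype) E := isSylowIn_map_sylow S
  set S₀ : Subgroup G := (S : Subgroup E).map E.subtype with hS₀
  have hS₀1 : S₀ ≠ ⊥ := fun h =>
    hS1 ((Subgroup.map_eq_bot_iff_of_injective _ (Subgroup.subtype_injective _)).1 h)
  have hS₀c : IsCyclic ↥S₀ := by
    have e := (S : Subgroup E).equivMapOfInjective E.subtype (Subgroup.subtype_injective _)
    exact isCyclic_of_surjective e e.surjective
  have hpσ : p ∉ Cfsg.sigma M := by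
    intro hp
    have h1 : S₀ ≤ Cfsg.sigmaCore M :=
      le_sigmaCore_of_isPGroup hG hU hM hp hS₀E.2.1 (hS₀E.1.trans hE.1)
    apply hS₀1
    rw [eq_bot_iff, ← hE.2.2.1]
    exact le_inf hS₀E.1 h1
  have hpσ' : ¬ p ∣ Nat.card (Cfsg.sigmaCore M) := fun hd => hpσ (primes_sigmaCore M p hpp hd)
  have hcard := Cfsg.Agent.Helper68.BG12.card_mul_card_of_isComplIn hE
  have hrel : E.relIndex M = Nat.card (Cfsg.sigmaCore M) := by
    have h1 := Cfsg.Agent.Helper31.relIndex_mul_card' hE.1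
    rw [← hcard, mul_comm] at h1
    exact Nat.eq_of_mul_eq_mul_left Nat.card_pos h1
  have hS₀M : IsSylowIn p S₀ M := by
    refine ⟨hS₀E.1.trans hE.1, hS₀E.2.1, ?_⟩
    rw [← Subgroup.relIndex_mul_relIndex S₀ E M hS₀E.1 hE.1]
    intro hd
    rcases (Nat.Prime.dvd_mul hpp).1 hd with h | h
    · exact hS₀E.2.2 h
    · rw [hrel] at h; exact hpσ' h
  intro x hx hx1
  have hXS : Subgroup.zpowers x ≤ S₀ := (Subgroup.zpowers_le).2 hx
  have hX1 : Subgroup.zpowers x ≠ ⊥ := fun h => hx1 (Subgroup.zpowers_eq_bot.1 h)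
  have hcore := cor_13_3a_core hG hU h1414 h1416 h1417 hW hM hpσ hS₀M hS₀1 hS₀c hXS hX1
  apply le_antisymm
  · rintro y ⟨hyσ, hyx⟩
    refine Subgroup.mem_inf.2 ⟨hyσ, ?_⟩
    have hxy : x * y = y * x := (Subgroup.mem_centralizer_iff.1 hyx) x rfl
    have hyX : y ∈ Subgroup.centralizer ((Subgroup.zpowers x : Subgroup G) : Set G) := by
      rw [Subgroup.mem_centralizer_iff]
      intro h hh
      obtain ⟨n, rfl⟩ := Subgroup.mem_zpowers_iff.1 hh
      exact ((show Commute x y from hxy).zpow_left n).eq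
    rw [Subgroup.mem_centralizer_iff]
    intro s hs
    have h1 : ⁅y, s⁆ ∈ ⁅Cfsg.sigmaCore M ⊓ Subgroup.centralizer
        ((Subgroup.zpowers x : Subgroup G) : Set G), S₀⁆ :=
      Subgroup.commutator_mem_commutator ⟨hyσ, hyX⟩ hs
    rw [hcore, Subgroup.mem_bot, commutatorElement_eq_one_iff_mul_comm] at h1
    exact h1.symm
  · apply inf_le_inf_left
    apply Subgroup.centralizer_le
    intro z hz
    rw [Set.mem_singleton_iff] at hz
    rw [hz]; exact hx

end Cfsg.Agent.Helper23.BG13
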