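import Mathlib
import Cfsg.Prelude.Def_OddOrderLocal
import Cfsg.Agent.Helper23.BG13C
import Cfsg.Agent.Helper71.BGHall
import Cfsg.Agent.Helper55.BG103

/-!
# B-G Lemma 13.1 ("Lemma A") and small steps of Theorem 13.4 (helper23)

* `le_commutator_of_mem_tau3`: for `p ∈ τ₃(H)` the `p`-subgroups of `H` lie in `H'`;
* `lemma_A`: `M`, `H` maximal non-conjugate, `x ∉ σ(M)`, `x ∉ τ₁(H)`, `X₀` an `x`-subgroup of
  `M ∩ H`: then `[M_σ ∩ H, X₀] = 1` (the `τ₂(H)` case is the hypothesis `LemmaA3`);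
* `rankLE_one_alphaCore_centralizer` (Step 2 of 13.4, from S1406);
* `inUniqueMaximal_of_ideal` (Step 4 of 13.4, from S1403).
-/

set_option autoImplicit false
set_option linter.unusedVariables false
set_option linter.unusedSectionVars false
set_option linter.style.haveILetI false

namespace Cfsg.Agent.Helper23.BG13

open Cfsg Cfsg.Agent.Helper29 Cfsg.Agent.Helper29.BG10 Cfsg.Agent.Helper29.BG11 Cfsg.Agent.Helper1.BG12
open scoped commutatorElement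

variable {G : Type*} [Group G] [Finite G]

/-- the `τ₂` case of Lemma A (= B-G 13.1(b)), as a statement-shaped hypothesis -/
def LemmaA3 (G : Type*) [Group G] : Prop :=
  ∀ (M H : Subgroup G), IsCoatom M → IsCoatom H → (∀ g : G, BG10.cj g M ≠ H) →
    ∀ (x : ℕ) [Fact x.Prime], x ∈ Cfsg.tau2 H → x ∣ Nat.card M → x ∉ Cfsg.sigma M →
      ⁅Cfsg.sigmaCore M ⊓ H, M ⊓ H⁆ = ⊥

/-- Lemma C (= the needed case of B-G 13.1(c)), as a statement-shaped hypothesis -/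
def LemmaC (G : Type*) [Group G] : Prop :=
  ∀ (M H : Subgroup G), IsCoatom M → IsCoatom H → (∀ g : G, BG10.cj g M ≠ H) →
    ∀ (p : ℕ) [Fact p.Prime], p ∈ Cfsg.tau1 M → p ∈ Cfsg.sigma H →
      ∀ Y : Subgroup G, Y ≠ ⊥ → (∀ t : ℕ, t.Prime → t ∣ Nat.card Y → t ∈ Cfsg.sigma M) →
        Y ≤ ⁅H, H⁆ → Cfsg.IsIdealPrime p G

/-- the only prime dividing the order of a `p`-group is `p` -/
theorem eq_of_prime_dvd_card_pgroup {p q : ℕ} [hp : Fact p.Prime] {P : Subgroup G}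
    (hP : IsPGroup p P) (hq : q.Prime) (hqd : q ∣ Nat.card P) : q = p := by
  obtain ⟨k, hk⟩ := IsPGroup.iff_card.1 hP
  rw [hk] at hqd
  exact (Nat.prime_dvd_prime_iff_eq hq hp.out).1 (hq.dvd_of_dvd_pow hqd)

/-- for `p ∈ τ₃(H)` the `p`-subgroups of `H` lie in `H'` -/
theorem le_commutator_of_mem_tau3 (hG : Cfsg.IsMinSimpleOddOrder G) (hU : UniquenessThm G)
    {H : Subgroup G} (hH : IsCoatom H) {p : ℕ} [Fact p.Prime] (hp : p ∈ Cfsg.tau3 H)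
    {P : Subgroup G} (hP : IsPGroup p P) (hPH : P ≤ H) : P ≤ ⁅H, H⁆ := by
  have hpσ : p ∉ Cfsg.sigma H := hp.2.1
  have hPσ : ∀ q : ℕ, q.Prime → q ∣ Nat.card P → q ∉ Cfsg.sigma H := by
    intro q hq hqd
    rw [eq_of_prime_dvd_card_pgroup hP hq hqd]; exact hpσ
  obtain ⟨E, hE, hPE⟩ := Cfsg.Agent.Helper71.BGHall.exists_isComplIn_sigmaCore_ge hG hU hH hPH hPσ
  have hctx := Cfsg.Agent.Helper68.BG12.eCtx_of hG hU hH hE
  haveI := hctx.solvable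
  obtain ⟨E₃, hE₃, hPE₃⟩ := Cfsg.Agent.Helper71.BGHall.exists_isPiHallOf_ge (Cfsg.tau3 H) E hPE
    (by
      intro q hq hqd
      rw [eq_of_prime_dvd_card_pgroup hP hq hqd]; exact hp)
  exact hPE₃.trans ((hctx.tau3 hE₃).2.1.trans (Subgroup.commutator_mono hE.1 hE.1))

/-- **Lemma A** (B-G 13.1(a)): `M`, `H` maximal non-conjugate, `x ∉ σ(M)`, `X₀ ≠ 1` an
`x`-subgroup of `M ∩ H`, `x ∉ τ₁(H)`: then `X₀` centralizes `M_σ ∩ H`. -/
theorem lemma_A (hG : Cfsg.IsMinSimpleOddOrder G) (hU : UniquenessThm G)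
    (h1414 : NormalComplComm G) (hA3 : LemmaA3 G)
    {M H : Subgroup G} (hM : IsCoatom M) (hH : IsCoatom H) (hnc : ∀ g : G, BG10.cj g M ≠ H)
    {x : ℕ} [Fact x.Prime] (hxσ : x ∉ Cfsg.sigma M) {X₀ : Subgroup G} (hX : IsPGroup x X₀)
    (hX1 : X₀ ≠ ⊥) (hXM : X₀ ≤ M) (hXH : X₀ ≤ H) (hx1 : x ∉ Cfsg.tau1 H) :
    ⁅Cfsg.sigmaCore M ⊓ H, X₀⁆ = ⊥ := by
  have hxp : x.Prime := Fact.out
  have hnc' : ∀ g : G, BG10.cj g H ≠ M := by
    intro g hg
    apply hnc g⁻¹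
    rw [← hg, BG10.cj_inv_cj]
  -- `x` divides `|M|` and `|H|`
  have hxX : x ∣ Nat.card X₀ := by
    obtain ⟨k, hk⟩ := IsPGroup.iff_card.1 hX
    have hk0 : k ≠ 0 := by
      rintro rfl
      rw [pow_zero] at hk
      exact hX1 (Subgroup.card_eq_one.1 hk)
    rw [hk]; exact dvd_pow_self x hk0
  have hxM : x ∣ Nat.card M := hxX.trans (Subgroup.card_dvd_of_le hXM)
  have hxH : x ∣ Nat.card H := hxX.trans (Subgroup.card_dvd_of_le hXH)
  by_cases hσ : x ∈ Cfsg.sigma H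
  · exact commutator_eq_bot_of_le_commutator hG hU h1414 hM hH hnc' hxσ hX hXM
      (le_commutator_of_mem_sigma hG hU hH hσ hX hXH)
  by_cases hr1 : Cfsg.PRankLE x 1 ↥H
  · by_cases hd : x ∣ Nat.card ↥⁅H, H⁆
    · exact commutator_eq_bot_of_le_commutator hG hU h1414 hM hH hnc' hxσ hX hXM
        (le_commutator_of_mem_tau3 hG hU hH ⟨hxp, hσ, hd, hr1⟩ hX hXH)
    · exact absurd ⟨hxp, hσ, hxH, hd, hr1⟩ hx1
  by_cases hr2 : Cfsg.PRankLE x 2 ↥H
  · have h3 := hA3 M H hM hH hnc x ⟨hxp, hσ, hr2, hr1⟩ hxM hxσ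
    rw [eq_bot_iff, ← h3]
    exact Subgroup.commutator_mono le_rfl (le_inf hXM hXH)
  · exact absurd (alpha_subset_sigma hG hU hH ⟨hxp, hr2⟩) hσ

/-- **Step 2 of B-G 13.4** (from S1406): for `r ∈ τ₁(H)` and `R ≤ H` of order `r`, the group
`C_{H_α}(R)` has all its `p`-ranks at most one. -/
theorem rankLE_one_alphaCore_centralizer (hG : Cfsg.IsMinSimpleOddOrder G) (hU : UniquenessThm G)
    {H : Subgroup G} (hH : IsCoatom H) {r : ℕ} [Fact r.Prime] (hr : r ∈ Cfsg.tau1 H)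
    {R : Subgroup G} (hRc : Nat.card R = r) (hRH : R ≤ H) :
    Cfsg.RankLE 1 ↥(Cfsg.alphaCore H ⊓ Subgroup.centralizer (R : Set G)) := by
  haveI : IsSimpleGroup G := hG.2.1
  have hrp : r.Prime := Fact.out
  by_contra hcon
  have hRp : IsPGroup r R := IsPGroup.of_card (n := 1) (by rw [hRc, pow_one])
  have hR1 : R ≠ ⊥ := by
    intro h
    rw [h, Subgroup.card_bot] at hRc
    exact hrp.one_lt.ne hRc
  have hRα : ∀ q : ℕ, q.Prime → q ∣ Nat.card R → q ∉ Cfsg.alpha H := by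
    intro q hq hqd hqα
    rw [eq_of_prime_dvd_card_pgroup hRp hq hqd] at hqα
    exact hr.2.1 (alpha_subset_sigma hG hU hH hqα)
  obtain ⟨L₀, -, huniq⟩ := Cfsg.Agent.Helper55.BG103.main hG hU H hH R hRH hRα hcon
  have hNtop : Subgroup.normalizer (R : Set G) ≠ ⊤ :=
    Cfsg.Agent.Helper31.bgt_normalizer_ne_top_of_simple hR1 (isPGroup_ne_top hG hRp)
  obtain ⟨L, hL, hNL⟩ := (eq_top_or_exists_le_coatom _).resolve_left hNtop
  have e1 : L = L₀ := huniq L ⟨hL, inf_le_right.trans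
    ((Subgroup.centralizer_le_normalizer _).trans hNL)⟩
  have e2 : H = L₀ := huniq H ⟨hH, inf_le_left⟩
  have hNH : Subgroup.normalizer (R : Set G) ≤ H := by rw [e2, ← e1]; exact hNL
  rcases mem_sigma_or_rank_two hG hU hH R hRp hR1 hNH with h | ⟨-, h⟩
  · exact hr.2.1 h
  · exact h hr.2.2.2.2

/-- **Step 2 of B-G 13.4** for `M`: if `C_M(X) ≤ H ≠ M` then `C_{M_α}(X)` has all its `p`-ranks
at most one. -/
theorem rankLE_one_alphaCore_centralizer' (hG : Cfsg.IsMinSimpleOddOrder G)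
    (hU : UniquenessThm G) {M H : Subgroup G} (hM : IsCoatom M) (hH : IsCoatom H) (hne : H ≠ M)
    {X : Subgroup G} (hXM : X ≤ M)
    (hXα : ∀ q : ℕ, q.Prime → q ∣ Nat.card X → q ∉ Cfsg.alpha M)
    (hCH : M ⊓ Subgroup.centralizer (X : Set G) ≤ H) :
    Cfsg.RankLE 1 ↥(Cfsg.alphaCore M ⊓ Subgroup.centralizer (X : Set G)) := by
  by_contra hcon
  obtain ⟨L₀, -, huniq⟩ := Cfsg.Agent.Helper55.BG103.main hG hU M hM X hXM hXα hcon
  have e1 : H = L₀ := huniq H ⟨hH, hCH⟩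
  have e2 : M = L₀ := huniq M ⟨hM, inf_le_left⟩
  exact hne (e1.trans e2.symm)

/-- **Step 4 of B-G 13.4**: for an ideal prime `p`, every elementary abelian subgroup of order
`p²` lies in a unique maximal subgroup. -/
theorem inUniqueMaximal_of_ideal (hG : Cfsg.IsMinSimpleOddOrder G) (hU : UniquenessThm G)
    {p : ℕ} [Fact p.Prime] (hid : Cfsg.IsIdealPrime p G) {A : Subgroup G}
    (hAe : Cfsg.IsElementaryAbelian p A) (hAc : Nat.card A = p ^ 2) :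
    Cfsg.InUniqueMaximal A := by
  have hpp : p.Prime := Fact.out
  have hAp : IsPGroup p A := isPGroup_of_isElementaryAbelian hAe
  have hp1 : p < p ^ 2 := by
    have := hpp.one_lt
    nlinarith
  apply hU A (isPGroup_ne_top hG hAp)
  · intro h
    have h1 := h p hpp
    apply (Cfsg.Agent.Helper23.not_pRankLE_subgroup_iff p 1 A).2 _ h1
    exact ⟨A, le_rfl, hAe, by rw [hAc, pow_one]; exact hp1⟩
  · right
    intro h
    have h1 := h p hpp
    obtain ⟨P, hAP⟩ := hAp.exists_le_sylow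
    obtain ⟨B, -, hBe, hAB⟩ := hid.2.2 P A hAP hAe hAc
    apply (Cfsg.Agent.Helper23.not_pRankLE_subgroup_iff p 2 _).2 _ h1
    refine ⟨B, ?_, hBe, ?_⟩
    · intro b hb
      rw [Subgroup.mem_centralizer_iff]
      intro a ha
      have := hBe.1.is_comm.comm ⟨a, hAB.le ha⟩ ⟨b, hb⟩
      exact congrArg Subtype.val this
    · rw [← hAc]
      exact lt_of_le_of_ne (Subgroup.card_le_of_le hAB.le)
        (fun e => hAB.ne (Subgroup.eq_of_le_of_card_ge hAB.le e.ge))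

/-- the outcome of Steps 1-5 of B-G Theorem 13.4 (proof `#3112`): for `p ∈ τ₁(M)`, `P ≤ E` of order
`p`, `R ≤ C_E(P)` of prime order `r` and an `R`-invariant `q`-subgroup `Q₀ = [Q₀, R] ≠ 1` of
`C_{M_σ}(P)` there is a maximal subgroup `H ≠ M` containing `C_M(P)` and `N_G(Q₀)`, with
`M_σ ∩ H ≤ C_G(P)`; moreover `r ∈ τ₁(M)`, `q ∉ α(M)` and `M_β ≠ 1`. -/
def Steps15 (G : Type*) [Group G] : Prop :=
  ∀ (M E : Subgroup G), IsCoatom M → Cfsg.IsComplIn E (Cfsg.sigmaCore M) M →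
  ∀ (p : ℕ) [Fact p.Prime], p ∈ Cfsg.tau1 M → ∀ P : Subgroup G, P ≤ E → Nat.card P = p →
  ∀ (r : ℕ) [Fact r.Prime] (R : Subgroup G), R ≤ E → R ≤ Subgroup.centralizer (P : Set G) →
    Nat.card R = r →
  ∀ (q : ℕ) [Fact q.Prime] (Q₀ : Subgroup G), IsPGroup q Q₀ → Q₀ ≠ ⊥ → Q₀ ≤ Cfsg.sigmaCore M →
    Q₀ ≤ Subgroup.centralizer (P : Set G) → R ≤ Subgroup.normalizer (Q₀ : Set G) →
    ⁅Q₀, R⁆ = Q₀ →
  ∃ H : Subgroup G, IsCoatom H ∧ H ≠ M ∧ M ⊓ Subgroup.centralizer (P : Set G) ≤ H ∧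
    Subgroup.normalizer (Q₀ : Set G) ≤ H ∧
    Cfsg.sigmaCore M ⊓ H ≤ Subgroup.centralizer (P : Set G) ∧
    r ∈ Cfsg.tau1 M ∧ q ∉ Cfsg.alpha M ∧ Cfsg.piCoreOf (Cfsg.beta M) M ≠ ⊥

end Cfsg.Agent.Helper23.BG13
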