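import Mathlib
import Cfsg.Prelude.Def_OddOrderLocal
import Cfsg.Agent.Helper23.BG13D
import Cfsg.Agent.Helper64.BG13W
import Cfsg.Agent.Helper63.BG13F

/-!
# B-G Theorem 13.4, Steps 1-5 (helper23; paper proof: helper70, board `#3112`)

`steps15`: the interface `Steps15 G` of `BG13D` from the black boxes S1403, S1414, S1416, S1417,
Lemma A(iii) (`LemmaA3`), Lemma C (`LemmaC`), 12.17(d2),(d3),(e3), Lemma F(c).
-/

set_option autoImplicit false
set_option linter.unusedVariables false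
set_option linter.unusedSectionVars false
set_option linter.style.haveILetI false

namespace Cfsg.Agent.Helper23.BG13

open Cfsg Cfsg.Agent.Helper29 Cfsg.Agent.Helper29.BG10 Cfsg.Agent.Helper29.BG11 Cfsg.Agent.Helper1.BG12
open scoped commutatorElement

variable {G : Type*} [Group G] [Finite G]

omit [Finite G] in
/-- `p`-rank is monotone in the subgroup -/
theorem pRankLE_mono {p k : ℕ} {A B : Subgroup G} (hAB : A ≤ B) (h : Cfsg.PRankLE p k ↥B) :
    Cfsg.PRankLE p k ↥A := by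
  by_contra hcon
  obtain ⟨X, hXA, hXe, hXc⟩ := (Cfsg.Agent.Helper23.not_pRankLE_subgroup_iff p k A).1 hcon
  exact (Cfsg.Agent.Helper23.not_pRankLE_subgroup_iff p k B).2 ⟨X, hXA.trans hAB, hXe, hXc⟩ h

/-- a `p`-group (`p` odd) of `p`-rank at most one is cyclic -/
theorem isCyclic_of_isPGroup_of_pRankLE_one (hodd : Odd (Nat.card G)) {p : ℕ} [hp : Fact p.Prime]
    {C : Subgroup G} (hC : IsPGroup p C) (hrk : Cfsg.PRankLE p 1 ↥C) : IsCyclic ↥C := by
  haveI : Group.IsNilpotent ↥C := hC.isNilpotent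
  apply Cfsg.Agent.Helper68.BG12.isCyclic_of_nilpotent_of_pRankLE_one
    (Odd.of_dvd_nat hodd (Subgroup.card_subgroup_dvd_card C))
  intro s hs hsd
  have : s = p := by
    obtain ⟨k, hk⟩ := IsPGroup.iff_card.1 hC
    rw [hk] at hsd
    exact (Nat.prime_dvd_prime_iff_eq hs hp.out).1 (hs.dvd_of_dvd_pow hsd)
  rw [this]; exact hrk

omit [Finite G] in
theorem pRankLE_succ {p k : ℕ} [hp : Fact p.Prime] {X : Type*} [Group X]
    (h : Cfsg.PRankLE p k X) : Cfsg.PRankLE p (k + 1) X := by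
  intro A hAc hAe
  exact (h A hAc hAe).trans (Nat.pow_le_pow_right hp.out.pos (Nat.le_succ k))

/-- a nontrivial `q`-group has order divisible by `q` -/
theorem dvd_card_of_isPGroup_ne_bot {q : ℕ} [Fact q.Prime] {Q : Subgroup G} (hQ : IsPGroup q Q)
    (hQ1 : Q ≠ ⊥) : q ∣ Nat.card Q := by
  obtain ⟨k, hk⟩ := IsPGroup.iff_card.1 hQ
  have hk0 : k ≠ 0 := by
    rintro rfl
    rw [pow_zero] at hk
    exact hQ1 (Subgroup.card_eq_one.1 hk)
  rw [hk]; exact dvd_pow_self q hk0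

/-- for `p ∈ α(H)` the `p`-subgroups of `H` lie in `H_α` -/
theorem le_alphaCore_of_isPGroup (hG : Cfsg.IsMinSimpleOddOrder G) (hU : UniquenessThm G)
    {H : Subgroup G} (hH : IsCoatom H) {p : ℕ} [Fact p.Prime] (hp : p ∈ Cfsg.alpha H)
    {X : Subgroup G} (hX : IsPGroup p X) (hXH : X ≤ H) : X ≤ Cfsg.alphaCore H := by
  have h1 : X.subgroupOf H ≤ Cfsg.piCore (Cfsg.alpha H) ↥H := by
    apply le_of_index_coprime _ _ _ hX.comap_subtype
    have h4 := (thm_10_2_core hG hU hH).1 p hp.1 hp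
    exact (Nat.Coprime.symm ((Nat.Prime.coprime_iff_not_dvd hp.1).2 h4))
  intro x hx
  exact ⟨⟨x, hXH hx⟩, h1 (Subgroup.mem_subgroupOf.2 hx), rfl⟩

/-- **B-G Theorem 13.4, Steps 1-5.** -/
theorem steps15 (hG : Cfsg.IsMinSimpleOddOrder G) (hU : UniquenessThm G)
    (h1414 : NormalComplComm G) (hW : NilpHallSigma G) (h1416 : H1416 G) (h1417 : H1417 G)
    (hβ : Cfsg.Agent.Helper64.BG1217D.BetaHall G) (hA3 : LemmaA3 G) (hC : LemmaC G) :
    Steps15 G := by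
  intro M E hM hE p _ hp P hPE hPc r _ R hRE hRP hRc q _ Q₀ hQq hQ1 hQσ hQP hRQ hQR
  classical
  haveI : IsSimpleGroup G := hG.2.1
  have hpp : p.Prime := Fact.out
  have hrp : r.Prime := Fact.out
  have hqp : q.Prime := Fact.out
  have hp' := hp
  obtain ⟨-, hpσ, hpM, hpM', hpr1⟩ := hp'
  have hEM : E ≤ M := hE.1
  have hPM : P ≤ M := hPE.trans hEM
  have hRM : R ≤ M := hRE.trans hEM
  have hPp : IsPGroup p P := IsPGroup.of_card (n := 1) (by rw [hPc, pow_one])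
  have hRr : IsPGroup r R := IsPGroup.of_card (n := 1) (by rw [hRc, pow_one])
  have hP1 : P ≠ ⊥ := by
    intro h
    rw [h, Subgroup.card_bot] at hPc
    exact hpp.one_lt.ne hPc
  have hR1 : R ≠ ⊥ := by
    intro h
    rw [h, Subgroup.card_bot] at hRc
    exact hrp.one_lt.ne hRc
  have hp2 : p ≠ 2 := by
    rintro rfl
    have h1 : 2 ∣ Nat.card G := hpM.trans (Subgroup.card_subgroup_dvd_card M)
    exact (Nat.not_even_iff_odd.2 hG.1) (even_iff_two_dvd.2 h1)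
  -- `r ∉ σ(M)`, `q ∈ σ(M)`
  have hrσ : r ∉ Cfsg.sigma M := by
    intro h
    have h1 : R ≤ Cfsg.sigmaCore M := le_sigmaCore_of_isPGroup hG hU hM h hRr hRM
    apply hR1
    rw [eq_bot_iff, ← hE.2.2.1]
    exact le_inf hRE h1
  have hqQ : q ∣ Nat.card Q₀ := dvd_card_of_isPGroup_ne_bot hQq hQ1
  have hqσ : q ∈ Cfsg.sigma M :=
    primes_sigmaCore M q hqp (hqQ.trans (Subgroup.card_dvd_of_le hQσ))
  have hQM : Q₀ ≤ M := hQσ.trans (sigmaCore_le M)
  have hqp' : q ≠ p := by rintro rfl; exact hpσ hqσ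
  have hqr : q ≠ r := by rintro rfl; exact hrσ hqσ
  -- the maximal subgroup `H`
  have hNtop : Subgroup.normalizer (P : Set G) ≠ ⊤ :=
    Cfsg.Agent.Helper31.bgt_normalizer_ne_top_of_simple hP1 (isPGroup_ne_top hG hPp)
  obtain ⟨H, hH, hNP⟩ := (eq_top_or_exists_le_coatom _).resolve_left hNtop
  have hCP : Subgroup.centralizer (P : Set G) ≤ H :=
    (Subgroup.centralizer_le_normalizer _).trans hNP
  have hPH : P ≤ H := Subgroup.le_normalizer.trans hNP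
  have hRH : R ≤ H := hRP.trans hCP
  have hQH : Q₀ ≤ H := hQP.trans hCP
  have h122 := mem_sigma_or_rank_two hG hU hH P hPp hP1 hNP
  have hnc : ∀ g : G, BG10.cj g M ≠ H := by
    rintro g rfl
    rcases h122 with h | ⟨-, h⟩
    · rw [sigma_cj] at h; exact hpσ h
    · exact h (pRankLE_cj hpr1 g)
  have hnc' : ∀ g : G, BG10.cj g H ≠ M := by
    intro g hg
    apply hnc g⁻¹
    rw [← hg, BG10.cj_inv_cj]
  have hne : H ≠ M := by
    rintro rfl
    exact hnc 1 (BG10.cj_one _)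
  -- `[D, R] ≠ 1`
  have hQD : Q₀ ≤ Cfsg.sigmaCore M ⊓ H := le_inf hQσ hQH
  have hDR : ⁅Cfsg.sigmaCore M ⊓ H, R⁆ ≠ ⊥ := by
    intro h
    apply hQ1
    rw [eq_bot_iff]
    calc Q₀ = ⁅Q₀, R⁆ := hQR.symm
      _ ≤ ⁅Cfsg.sigmaCore M ⊓ H, R⁆ := Subgroup.commutator_mono hQD le_rfl
      _ = ⊥ := h
  -- Step 1: `p ∈ σ(H)`
  have hpH : p ∈ Cfsg.sigma H := by
    by_contra hpH
    obtain ⟨hr2, hr1⟩ := h122.resolve_left hpH
    have h3 := hA3 M H hM hH hnc p ⟨hpp, hpH, hr2, hr1⟩ hpM hpσ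
    apply hDR
    rw [eq_bot_iff, ← h3]
    exact Subgroup.commutator_mono le_rfl (le_inf hRM hRH)
  have hDP : Cfsg.sigmaCore M ⊓ H ≤ Subgroup.centralizer (P : Set G) := by
    have h1 := commutator_eq_bot_of_le_commutator hG hU h1414 hM hH hnc' hpσ hPp hPM
      (le_commutator_of_mem_sigma hG hU hH hpH hPp hPH)
    exact Subgroup.commutator_eq_bot_iff_le_centralizer.1 h1
  have hrH : r ∈ Cfsg.tau1 H := by
    by_contra h
    exact hDR (lemma_A hG hU h1414 hA3 hM hH hnc hrσ hRr hR1 hRM hRH h)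
  have hrp' : r ≠ p := by rintro rfl; exact hrH.2.1 hpH
  -- Lemma C: `p` is ideal
  have hQH' : Q₀ ≤ ⁅H, H⁆ := by
    calc Q₀ = ⁅Q₀, R⁆ := hQR.symm
      _ ≤ ⁅H, H⁆ := Subgroup.commutator_mono hQH hRH
  have hQprimes : ∀ t : ℕ, t.Prime → t ∣ Nat.card Q₀ → t ∈ Cfsg.sigma M := by
    intro t ht htd
    rw [eq_of_prime_dvd_card_pgroup hQq ht htd]; exact hqσ
  have hid : Cfsg.IsIdealPrime p G := hC M H hM hH hnc p hp hpH Q₀ hQ1 hQprimes hQH'
  -- `p ∈ α(H)`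
  have hpα : p ∈ Cfsg.alpha H := by
    refine ⟨hpp, fun hrk => ?_⟩
    obtain ⟨SH, hSH, -, hSHtop, -⟩ := exists_sylow_of_mem_sigma hpH
    have h2 : ¬ Cfsg.PRankLE p 2 G := hid.2.1
    unfold Cfsg.PRankLE at h2
    push Not at h2
    obtain ⟨B, hBc, hBe, hBlt⟩ := h2
    have hBea : Cfsg.IsElementaryAbelian p B := ⟨hBc, hBe⟩
    obtain ⟨a, -, ha⟩ :=
      exists_cj_le_of_isSylowIn hSHtop le_top (isPGroup_of_isElementaryAbelian hBea)
    apply (Cfsg.Agent.Helper23.not_pRankLE_subgroup_iff p 2 H).2 _ hrk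
    exact ⟨BG10.cj a B, ha.trans hSH.1, isElementaryAbelian_cj hBea a, by rw [card_cj]; exact hBlt⟩
  have hqαH : q ∉ Cfsg.alpha H := fun h => (not_mem_sigma_of_mem_alpha hG hU hH hM hnc' h) hqσ
  have hrαH : r ∉ Cfsg.alpha H := fun h => hrH.2.1 (alpha_subset_sigma hG hU hH h)
  -- Step 3: a `Q₀R`-invariant Sylow `p`-subgroup `S*` of `H_α` containing `P`
  obtain ⟨hαHall, -, hασ, -, -⟩ := thm_10_2_alpha hG hU H hH
  have hPα : P ≤ Cfsg.alphaCore H := le_alphaCore_of_isPGroup hG hU hH hpα hPp hPH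
  have hαn : H ≤ Subgroup.normalizer ((Cfsg.alphaCore H : Subgroup G) : Set G) := by
    unfold Cfsg.alphaCore
    haveI : (Cfsg.piCore (Cfsg.alpha H) ↥H).Normal := Cfsg.piCore_normal _ _
    exact Cfsg.Agent.Helper64.BG1217D.le_normalizer_map_subtype _
  have hdisjQR : Q₀ ⊓ R = ⊥ := by
    apply Subgroup.inf_eq_bot_of_coprime
    obtain ⟨k, hk⟩ := IsPGroup.iff_card.1 hQq
    rw [hk, hRc]
    exact Nat.Coprime.pow_left k ((Nat.coprime_primes hqp hrp).2 hqr)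
  have hcardA := Cfsg.Agent.Helper23.card_sup_of_disjoint_of_le_normalizer hdisjQR hRQ
  have hAH : Q₀ ⊔ R ≤ H := sup_le hQH hRH
  have hnotdvd : ∀ s : ℕ, s.Prime → s ∉ Cfsg.alpha H →
      s.Coprime (Nat.card (Cfsg.alphaCore H)) := by
    intro s hs hsα
    rw [Nat.Prime.coprime_iff_not_dvd hs]
    exact fun hd => hsα (primes_alphaCore H s hs hd)
  have hcopA : (Nat.card ↥(Q₀ ⊔ R)).Coprime (Nat.card (Cfsg.alphaCore H)) := by
    rw [hcardA]
    apply Nat.Coprime.mul_left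
    · obtain ⟨k, hk⟩ := IsPGroup.iff_card.1 hQq
      rw [hk]; exact Nat.Coprime.pow_left k (hnotdvd q hqp hqαH)
    · rw [hRc]; exact hnotdvd r hrp hrαH
  haveI hsolvH : Group.IsSolvable ↥H := hG.2.2.2 H hH.1
  have hsolvα : Group.IsSolvable ↥(Cfsg.alphaCore H) :=
    Group.isSolvable_of_isSolvable_injective
      (Subgroup.inclusion_injective (hαHall.1 : Cfsg.alphaCore H ≤ H))
  have hAP : Q₀ ⊔ R ≤ Subgroup.normalizer (P : Set G) :=
    sup_le (hQP.trans (Subgroup.centralizer_le_normalizer _))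
      (hRP.trans (Subgroup.centralizer_le_normalizer _))
  obtain ⟨S, hS, hPS, hAS⟩ := Cfsg.Agent.Helper64.BG13W.exists_invariant_sylow_ge (Q₀ ⊔ R)
    (Cfsg.alphaCore H) P (hAH.trans hαn) hcopA (Or.inr hsolvα) p hPp hPα hAP
  have hSH : IsSylowIn p S H := isSylowIn_of_isPiHallOf hαHall hpα hS
  have hSnc : ¬ IsCyclic ↥S := by
    intro hc
    exact hpα.2 (pRankLE_succ (pRankLE_one_of_isCyclic_sylow hSH hc))
  have hStep2 := rankLE_one_alphaCore_centralizer hG hU hH hrH hRc hRH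
  have hcR : IsCyclic ↥(S ⊓ Subgroup.centralizer (R : Set G)) := by
    apply isCyclic_of_isPGroup_of_pRankLE_one hG.1 (hS.2.1.to_le inf_le_left)
    exact pRankLE_mono (inf_le_inf_right _ hS.1) (hStep2 p hpp)
  have hsolvM : Group.IsSolvable ↥M := hG.2.2.2 M hM.1
  have hsolvA : Group.IsSolvable ↥(Q₀ ⊔ R) :=
    Group.isSolvable_of_isSolvable_injective
      (Subgroup.inclusion_injective (sup_le hQM hRM : Q₀ ⊔ R ≤ M))
  have hoddA : Odd (Nat.card ↥(Q₀ ⊔ R)) :=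
    Odd.of_dvd_nat hG.1 (Subgroup.card_subgroup_dvd_card _)
  have hcopAp : (Nat.card ↥(Q₀ ⊔ R)).Coprime p := by
    rw [hcardA]
    apply Nat.Coprime.mul_left
    · obtain ⟨k, hk⟩ := IsPGroup.iff_card.1 hQq
      rw [hk]; exact Nat.Coprime.pow_left k ((Nat.coprime_primes hqp hpp).2 hqp')
    · rw [hRc]; exact (Nat.coprime_primes hrp hpp).2 hrp'
  have hrQ : ¬ r ∣ Nat.card Q₀ := by
    intro hd
    exact hqr (eq_of_prime_dvd_card_pgroup hQq hrp hd).symm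
  have hcQ : ¬ IsCyclic ↥(S ⊓ Subgroup.centralizer (Q₀ : Set G)) := by
    intro hcQ
    exact hSnc (Cfsg.Agent.Helper63.BG13F.lemmaF_c hpp hp2 hrp S Q₀ R hS.2.1 hRc
      (le_sup_right.trans hAS) (le_sup_left.trans hAS) hRQ hQR hsolvA hoddA hcopAp hrQ hcR hcQ
      P hPS hPc hQP hRP)
  -- an `E_{p²}` in `C_H(Q₀)`
  have hrkQ : ¬ Cfsg.PRankLE p 1 ↥(S ⊓ Subgroup.centralizer (Q₀ : Set G)) := fun h =>
    hcQ (isCyclic_of_isPGroup_of_pRankLE_one hG.1 (hS.2.1.to_le inf_le_left) h)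
  obtain ⟨A₁, hA₁C, hA₁e, hA₁lt⟩ := (Cfsg.Agent.Helper23.not_pRankLE_subgroup_iff p 1 _).1 hrkQ
  rw [pow_one] at hA₁lt
  obtain ⟨A, hAA₁, hAe, hAc⟩ := Cfsg.Agent.Helper64.BG1218.exists_sq_le hA₁e hA₁lt
  have hAS' : A ≤ S ⊓ Subgroup.centralizer (Q₀ : Set G) := hAA₁.trans hA₁C
  have hAHle : A ≤ H := (hAS'.trans inf_le_left).trans hSH.1
  -- Step 4: `N_G(Q₀) ≤ H`
  obtain ⟨L₀, -, huniq⟩ := inUniqueMaximal_of_ideal hG hU hid hAe hAc
  have hNQtop : Subgroup.normalizer (Q₀ : Set G) ≠ ⊤ :=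
    Cfsg.Agent.Helper31.bgt_normalizer_ne_top_of_simple hQ1 (isPGroup_ne_top hG hQq)
  obtain ⟨L, hL, hNL⟩ := (eq_top_or_exists_le_coatom _).resolve_left hNQtop
  have hAL : A ≤ L := fun a ha =>
    hNL (Subgroup.centralizer_le_normalizer _ (Subgroup.mem_inf.1 (hAS' ha)).2)
  have e1 : L = L₀ := huniq L ⟨hL, hAL⟩
  have e2 : H = L₀ := huniq H ⟨hH, hAHle⟩
  have hNQ : Subgroup.normalizer (Q₀ : Set G) ≤ H := by rw [e2, ← e1]; exact hNL
  -- Step 5
  have hqH : q ∈ Cfsg.sigma H := by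
    by_contra hqH
    have hc := lemma_12_17_e hG hU h1416 h1417 hM hH hne hqσ hQq hQ1 hQM hNQ hqH
    have h1 : P ≤ Cfsg.sigmaCore H := le_sigmaCore_of_isPGroup hG hU hH hpH hPp hPH
    apply hP1
    rw [eq_bot_iff, ← hc.2.2.1]
    exact le_inf (le_inf hPM hPH) h1
  have hr1M : r ∈ Cfsg.tau1 M := by
    rcases Cfsg.Agent.Helper64.BG1217D.lemma_12_17_d2 hG hU h1416 h1417 hW hβ hM hH hne hqσ hQq
      hQ1 hQM hNQ hqH r hrH with h | h
    · exact h
    · exact absurd (alpha_subset_sigma hG hU hM h) hrσ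
  have hd3 := Cfsg.Agent.Helper64.BG1217D.lemma_12_17_d3 hG hU h1416 hW hβ hM hH hne hqσ hQq
    hQ1 hQM hNQ hqH
  have hqαM : q ∉ Cfsg.alpha M := fun h => (not_mem_sigma_of_mem_alpha hG hU hM hH hnc h) hqH
  exact ⟨H, hH, hne, inf_le_right.trans hCP, hNQ, hDP, hr1M, hqαM, hd3.2⟩

end Cfsg.Agent.Helper23.BG13
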