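import Mathlib
import Cfsg.Prelude.Def_OddOrderLocal
import Cfsg.Agent.Helper23.BG13E
import Cfsg.Agent.Helper60.BGAsmB

/-!
# B-G Theorem 13.4, Steps 6-8 (helper23; paper proof: helper70, board `#3112`)

`claim_alpha`, `claim_sigma`: from the interface `Steps15 G`.
-/

set_option autoImplicit false
set_option linter.unusedVariables false
set_option linter.unusedSectionVars false
set_option linter.style.haveILetI false

namespace Cfsg.Agent.Helper23.BG13

open Cfsg Cfsg.Agent.Helper29 Cfsg.Agent.Helper29.BG10 Cfsg.Agent.Helper29.BG11 Cfsg.Agent.Helper1.BG12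
open scoped commutatorElement

variable {G : Type*} [Group G] [Finite G]

/-- `M` normalizes `M_α` -/
theorem le_normalizer_alphaCore (M : Subgroup G) :
    M ≤ Subgroup.normalizer ((Cfsg.alphaCore M : Subgroup G) : Set G) := by
  unfold Cfsg.alphaCore
  haveI : (Cfsg.piCore (Cfsg.alpha M) ↥M).Normal := Cfsg.piCore_normal _ _
  exact Cfsg.Agent.Helper64.BG1217D.le_normalizer_map_subtype _

omit [Finite G] in
/-- a subgroup normalizing `N` and centralizing `X` normalizes `N ∩ C_G(X)` -/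
theorem le_normalizer_inf_centralizer {R N X : Subgroup G}
    (hRN : R ≤ Subgroup.normalizer (N : Set G)) (hRX : R ≤ Subgroup.centralizer (X : Set G)) :
    R ≤ Subgroup.normalizer ((N ⊓ Subgroup.centralizer (X : Set G) : Subgroup G) : Set G) := by
  intro x hx
  have h1 := Subgroup.mem_normalizer_iff.1 (hRN hx)
  have h2 := Subgroup.mem_normalizer_iff.1 (Subgroup.le_normalizer (hRX hx))
  rw [Subgroup.mem_normalizer_iff]
  intro k
  rw [Subgroup.mem_inf, Subgroup.mem_inf]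
  exact and_congr (h1 k) (h2 k)

/-- a group of prime order is solvable -/
theorem isSolvable_of_card_prime {R : Subgroup G} (hR : (Nat.card R).Prime) :
    Group.IsSolvable ↥R := by
  haveI : Fact (Nat.card R).Prime := ⟨hR⟩
  haveI : IsCyclic ↥R := isCyclic_of_prime_card rfl
  exact isSolvable_of_comm (fun a b => (IsCyclic.isMulCommutative (α := ↥R)).is_comm.comm a b)

/-- common setup: an `R`-invariant `q`-subgroup `Q₀ = [Q₀, R] ≠ 1` of `N ∩ C_G(P)` when
`[N ∩ C_G(P), R] ≠ 1`, for `N ≤ M_σ` normalized by `M`. -/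
theorem exists_Q0 (hG : Cfsg.IsMinSimpleOddOrder G) (hU : UniquenessThm G)
    {M E : Subgroup G} (hM : IsCoatom M) (hE : Cfsg.IsComplIn E (Cfsg.sigmaCore M) M)
    {N : Subgroup G} (hNσ : N ≤ Cfsg.sigmaCore M)
    (hNn : M ≤ Subgroup.normalizer (N : Set G)) {P : Subgroup G}
    {r : ℕ} [Fact r.Prime] {R : Subgroup G} (hRE : R ≤ E)
    (hRP : R ≤ Subgroup.centralizer (P : Set G)) (hRc : Nat.card R = r)
    (hne : ⁅N ⊓ Subgroup.centralizer (P : Set G), R⁆ ≠ ⊥) :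
    ∃ (q : ℕ) (Q₀ : Subgroup G), q.Prime ∧ Q₀ ≤ N ⊓ Subgroup.centralizer (P : Set G) ∧
      IsPGroup q Q₀ ∧ Q₀ ≠ ⊥ ∧ R ≤ Subgroup.normalizer (Q₀ : Set G) ∧ ⁅Q₀, R⁆ = Q₀ := by
  have hrp : r.Prime := Fact.out
  have hRM : R ≤ M := hRE.trans hE.1
  have hRr : IsPGroup r R := IsPGroup.of_card (n := 1) (by rw [hRc, pow_one])
  have hR1 : R ≠ ⊥ := by
    intro h
    rw [h, Subgroup.card_bot] at hRc
    exact hrp.one_lt.ne hRc
  have hrσ : r ∉ Cfsg.sigma M := by
    intro h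
    have h1 : R ≤ Cfsg.sigmaCore M := le_sigmaCore_of_isPGroup hG hU hM h hRr hRM
    apply hR1
    rw [eq_bot_iff, ← hE.2.2.1]
    exact le_inf hRE h1
  have hRK := le_normalizer_inf_centralizer (hRM.trans hNn) hRP
  have hcop : (Nat.card R).Coprime (Nat.card ↥(N ⊓ Subgroup.centralizer (P : Set G))) := by
    rw [hRc, Nat.Prime.coprime_iff_not_dvd hrp]
    intro hd
    exact hrσ (primes_sigmaCore M r hrp
      (hd.trans (Subgroup.card_dvd_of_le (inf_le_left.trans hNσ))))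
  exact Cfsg.Agent.Helper64.BG13W.exists_invariant_pgroup_commutator R _ hRK hcop
    (Or.inl (isSolvable_of_card_prime (by rw [hRc]; exact hrp))) hne

/-- **B-G 13.4, Step 6**: `CLAIM(α)`. -/
theorem claim_alpha (hG : Cfsg.IsMinSimpleOddOrder G) (hU : UniquenessThm G)
    (h15 : Steps15 G) {M E : Subgroup G} (hM : IsCoatom M)
    (hE : Cfsg.IsComplIn E (Cfsg.sigmaCore M) M) {p : ℕ} [Fact p.Prime] (hp : p ∈ Cfsg.tau1 M)
    {P : Subgroup G} (hPE : P ≤ E) (hPc : Nat.card P = p) {r : ℕ} [Fact r.Prime] {R : Subgroup G}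
    (hRE : R ≤ E) (hRP : R ≤ Subgroup.centralizer (P : Set G)) (hRc : Nat.card R = r) :
    ⁅Cfsg.alphaCore M ⊓ Subgroup.centralizer (P : Set G), R⁆ = ⊥ := by
  by_contra hne
  obtain ⟨-, -, hασ, -, -⟩ := thm_10_2_alpha hG hU M hM
  obtain ⟨q, Q₀, hq, hQK, hQq, hQ1, hRQ, hQR⟩ :=
    exists_Q0 hG hU hM hE hασ (le_normalizer_alphaCore M) hRE hRP hRc hne
  haveI : Fact q.Prime := ⟨hq⟩
  have hqα : q ∈ Cfsg.alpha M := primes_alphaCore M q hq
    ((dvd_card_of_isPGroup_ne_bot hQq hQ1).trans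
      (Subgroup.card_dvd_of_le (hQK.trans inf_le_left)))
  obtain ⟨H, -, -, -, -, -, -, hqα', -⟩ := h15 M E hM hE p hp P hPE hPc r R hRE hRP hRc q Q₀ hQq
    hQ1 ((hQK.trans inf_le_left).trans hασ) (hQK.trans inf_le_right) hRQ hQR
  exact hqα' hqα

omit [Finite G] in
theorem le_centralizer_symm {A B : Subgroup G} (h : A ≤ Subgroup.centralizer (B : Set G)) :
    B ≤ Subgroup.centralizer (A : Set G) := by
  intro y hy
  rw [Subgroup.mem_centralizer_iff]
  intro x hx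
  exact ((Subgroup.mem_centralizer_iff.1 (h hx)) y hy).symm

/-- **B-G 13.4, Steps 7-8**: `CLAIM(σ)`. -/
theorem claim_sigma (hG : Cfsg.IsMinSimpleOddOrder G) (hU : UniquenessThm G)
    (h15 : Steps15 G) {M E : Subgroup G} (hM : IsCoatom M)
    (hE : Cfsg.IsComplIn E (Cfsg.sigmaCore M) M) {p : ℕ} [Fact p.Prime] (hp : p ∈ Cfsg.tau1 M)
    {P : Subgroup G} (hPE : P ≤ E) (hPc : Nat.card P = p) {r : ℕ} [Fact r.Prime] {R : Subgroup G}
    (hRE : R ≤ E) (hRP : R ≤ Subgroup.centralizer (P : Set G)) (hRc : Nat.card R = r) :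
    ⁅Cfsg.sigmaCore M ⊓ Subgroup.centralizer (P : Set G), R⁆ = ⊥ := by
  by_contra hne
  classical
  have hpp : p.Prime := Fact.out
  have hrp : r.Prime := Fact.out
  obtain ⟨hαHall, -, hασ, -, -⟩ := thm_10_2_alpha hG hU M hM
  obtain ⟨q, Q₀, hq, hQK, hQq, hQ1, hRQ, hQR⟩ :=
    exists_Q0 hG hU hM hE le_rfl (le_normalizer_sigmaCore M) hRE hRP hRc hne
  haveI : Fact q.Prime := ⟨hq⟩
  have hQσ : Q₀ ≤ Cfsg.sigmaCore M := hQK.trans inf_le_left
  have hQP : Q₀ ≤ Subgroup.centralizer (P : Set G) := hQK.trans inf_le_right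
  obtain ⟨H, hH, hneH, hCMH, hNQ, hDP, hr1M, hqα, hMβ⟩ := h15 M E hM hE p hp P hPE hPc r R hRE
    hRP hRc q Q₀ hQq hQ1 hQσ hQP hRQ hQR
  have hp' := hp
  obtain ⟨-, hpσ, hpM, -, hpr1⟩ := hp'
  have hrσ : r ∉ Cfsg.sigma M := hr1M.2.1
  have hEM : E ≤ M := hE.1
  have hPM : P ≤ M := hPE.trans hEM
  have hRM : R ≤ M := hRE.trans hEM
  have hQM : Q₀ ≤ M := hQσ.trans (sigmaCore_le M)
  have hPp : IsPGroup p P := IsPGroup.of_card (n := 1) (by rw [hPc, pow_one])
  have hRr : IsPGroup r R := IsPGroup.of_card (n := 1) (by rw [hRc, pow_one])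
  have hPR : P ≤ Subgroup.centralizer (R : Set G) := le_centralizer_symm hRP
  have hPQ : P ≤ Subgroup.centralizer (Q₀ : Set G) := le_centralizer_symm hQP
  have hqσ : q ∈ Cfsg.sigma M := primes_sigmaCore M q hq
    ((dvd_card_of_isPGroup_ne_bot hQq hQ1).trans (Subgroup.card_dvd_of_le hQσ))
  have hqp : q ≠ p := by rintro rfl; exact hpσ hqσ
  have hqr : q ≠ r := by rintro rfl; exact hrσ hqσ
  -- `r ≠ p`
  have hrp' : r ≠ p := by
    intro hrp'
    have hRp : IsPGroup p R := hrp' ▸ hRr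
    have hsup : IsPGroup p ↥(P ⊔ R) :=
      IsPGroup.to_sup_of_normal_right' hPp hRp (hPR.trans (Subgroup.centralizer_le_normalizer _))
    obtain ⟨S₀, hS₀le, hS₀⟩ := exists_isSylowIn_ge (sup_le hPM hRM) hsup
    have hcyc : IsCyclic ↥S₀ :=
      isCyclic_of_isPGroup_of_pRankLE_one hG.1 hS₀.2.1 (pRankLE_mono hS₀.1 hpr1)
    have hRleP : R ≤ P := by
      intro x hx
      have hxp : x ^ p = 1 := by
        have h1 : (⟨x, hx⟩ : ↥R) ^ Nat.card ↥R = 1 := pow_card_eq_one'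
        rw [hRc, hrp'] at h1
        exact congrArg Subtype.val h1
      exact Cfsg.Agent.Helper63.BG13F.mem_of_pow_eq_one_of_isCyclic hpp hcyc
        (le_sup_left.trans hS₀le) hPc (hS₀le (Subgroup.mem_sup_right hx)) hxp
    apply hQ1
    rw [eq_bot_iff]
    calc Q₀ = ⁅Q₀, R⁆ := hQR.symm
      _ ≤ ⁅Q₀, P⁆ := Subgroup.commutator_mono le_rfl hRleP
      _ = ⊥ := Subgroup.commutator_eq_bot_iff_le_centralizer.2 hQP
  -- Step 7
  have h7a := claim_alpha hG hU h15 hM hE hp hPE hPc hRE hRP hRc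
  have h7b := claim_alpha hG hU h15 hM hE hr1M hRE hRc hPE hPR hPc
  have h7 : Cfsg.alphaCore M ⊓ Subgroup.centralizer (P : Set G) =
      Cfsg.alphaCore M ⊓ Subgroup.centralizer (R : Set G) :=
    le_antisymm (le_inf inf_le_left (Subgroup.commutator_eq_bot_iff_le_centralizer.1 h7a))
      (le_inf inf_le_left (Subgroup.commutator_eq_bot_iff_le_centralizer.1 h7b))
  -- a prime `t ∈ α(M)`
  obtain ⟨t, ht, htα⟩ : ∃ t : ℕ, t.Prime ∧ t ∈ Cfsg.alpha M := by
    have hc : Nat.card (Cfsg.piCoreOf (Cfsg.beta M) M) ≠ 1 :=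
      fun h => hMβ (Subgroup.card_eq_one.1 h)
    obtain ⟨t, ht, htd⟩ := Nat.exists_prime_and_dvd hc
    refine ⟨t, ht, ?_⟩
    unfold Cfsg.piCoreOf at htd
    rw [Subgroup.card_map_of_injective M.subtype_injective] at htd
    exact (Cfsg.Agent.S1886.piCore_isPi _ t ht htd).1
  haveI : Fact t.Prime := ⟨ht⟩
  have htσ : t ∈ Cfsg.sigma M := alpha_subset_sigma hG hU hM htα
  have htq : t ≠ q := by rintro rfl; exact hqα htα
  have htr : t ≠ r := by rintro rfl; exact hrσ htσ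
  have htp : t ≠ p := by rintro rfl; exact hpσ htσ
  -- the group `B = (Q₀ R) P`
  have hdisjQR : Q₀ ⊓ R = ⊥ := by
    apply Subgroup.inf_eq_bot_of_coprime
    obtain ⟨k, hk⟩ := IsPGroup.iff_card.1 hQq
    rw [hk, hRc]
    exact Nat.Coprime.pow_left k ((Nat.coprime_primes hq hrp).2 hqr)
  have hcardA := Cfsg.Agent.Helper23.card_sup_of_disjoint_of_le_normalizer hdisjQR hRQ
  have hPnA : P ≤ Subgroup.normalizer ((Q₀ ⊔ R : Subgroup G) : Set G) := fun y hy =>
    Cfsg.Agent.Helper60.BGAsm.mem_normalizer_sup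
      (Subgroup.centralizer_le_normalizer _ (hPQ hy)) (Subgroup.centralizer_le_normalizer _ (hPR hy))
  have hdisjAP : (Q₀ ⊔ R) ⊓ P = ⊥ := by
    apply Subgroup.inf_eq_bot_of_coprime
    rw [hcardA, hPc]
    apply Nat.Coprime.mul_left
    · obtain ⟨k, hk⟩ := IsPGroup.iff_card.1 hQq
      rw [hk]; exact Nat.Coprime.pow_left k ((Nat.coprime_primes hq hpp).2 hqp)
    · rw [hRc]; exact (Nat.coprime_primes hrp hpp).2 hrp'
  have hcardB := Cfsg.Agent.Helper23.card_sup_of_disjoint_of_le_normalizer hdisjAP hPnA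
  have hBM : (Q₀ ⊔ R) ⊔ P ≤ M := sup_le (sup_le hQM hRM) hPM
  have hnotdvd : ∀ s : ℕ, s.Prime → s ∉ Cfsg.alpha M →
      s.Coprime (Nat.card (Cfsg.alphaCore M)) := by
    intro s hs hsα
    rw [Nat.Prime.coprime_iff_not_dvd hs]
    exact fun hd => hsα (primes_alphaCore M s hs hd)
  have hpα : p ∉ Cfsg.alpha M := fun h => hpσ (alpha_subset_sigma hG hU hM h)
  have hrα : r ∉ Cfsg.alpha M := fun h => hrσ (alpha_subset_sigma hG hU hM h)
  have hcopB : (Nat.card ↥((Q₀ ⊔ R) ⊔ P)).Coprime (Nat.card (Cfsg.alphaCore M)) := by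
    rw [hcardB, hcardA]
    apply Nat.Coprime.mul_left
    · apply Nat.Coprime.mul_left
      · obtain ⟨k, hk⟩ := IsPGroup.iff_card.1 hQq
        rw [hk]; exact Nat.Coprime.pow_left k (hnotdvd q hq hqα)
      · rw [hRc]; exact hnotdvd r hrp hrα
    · rw [hPc]; exact hnotdvd p hpp hpα
  haveI hsolvM : Group.IsSolvable ↥M := hG.2.2.2 M hM.1
  have hsolvα : Group.IsSolvable ↥(Cfsg.alphaCore M) :=
    Group.isSolvable_of_isSolvable_injective
      (Subgroup.inclusion_injective (hαHall.1 : Cfsg.alphaCore M ≤ M))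
  obtain ⟨St', hSt'⟩ := Cfsg.Agent.Helper1.exists_invariant_sylow ((Q₀ ⊔ R) ⊔ P)
    (Cfsg.alphaCore M) (hBM.trans (le_normalizer_alphaCore M)) hcopB (Or.inr hsolvα) t
  have hStα : IsSylowIn t ((St' : Subgroup ↥(Cfsg.alphaCore M)).map (Cfsg.alphaCore M).subtype)
      (Cfsg.alphaCore M) := isSylowIn_map_sylow St'
  set St : Subgroup G := (St' : Subgroup ↥(Cfsg.alphaCore M)).map (Cfsg.alphaCore M).subtype
    with hSt
  have hStM : IsSylowIn t St M := isSylowIn_of_isPiHallOf hαHall htα hStα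
  have hStnc : ¬ IsCyclic ↥St := fun hc =>
    htα.2 (pRankLE_succ (pRankLE_one_of_isCyclic_sylow hStM hc))
  have hQSt : Q₀ ≤ Subgroup.normalizer (St : Set G) := (le_sup_left.trans le_sup_left).trans hSt'
  have hRSt : R ≤ Subgroup.normalizer (St : Set G) := (le_sup_right.trans le_sup_left).trans hSt'
  -- `C₀ = C_St(P) = C_St(R)`
  have hC0eq : St ⊓ Subgroup.centralizer (P : Set G) = St ⊓ Subgroup.centralizer (R : Set G) := by
    apply le_antisymm
    · intro x hx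
      have h1 : x ∈ Cfsg.alphaCore M ⊓ Subgroup.centralizer (R : Set G) := by
        rw [← h7]; exact ⟨hStα.1 hx.1, hx.2⟩
      exact ⟨hx.1, h1.2⟩
    · intro x hx
      have h1 : x ∈ Cfsg.alphaCore M ⊓ Subgroup.centralizer (P : Set G) := by
        rw [h7]; exact ⟨hStα.1 hx.1, hx.2⟩
      exact ⟨hx.1, h1.2⟩
  have hPα' : ∀ s : ℕ, s.Prime → s ∣ Nat.card P → s ∉ Cfsg.alpha M := by
    intro s hs hsd
    rw [eq_of_prime_dvd_card_pgroup hPp hs hsd]; exact hpα
  have hStep2 := rankLE_one_alphaCore_centralizer' hG hU hM hH hneH hPM hPα' hCMH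
  have hC0cyc : IsCyclic ↥(St ⊓ Subgroup.centralizer (R : Set G)) := by
    rw [← hC0eq]
    apply isCyclic_of_isPGroup_of_pRankLE_one hG.1 (hStα.2.1.to_le inf_le_left)
    exact pRankLE_mono (inf_le_inf_right _ hStα.1) (hStep2 t ht)
  -- `C_St(Q₀) ≤ C₀`
  have h8a : St ⊓ Subgroup.centralizer (Q₀ : Set G) ≤ St ⊓ Subgroup.centralizer (P : Set G) := by
    intro x hx
    exact ⟨hx.1, hDP ⟨hασ (hStα.1 hx.1), hNQ (Subgroup.centralizer_le_normalizer _ hx.2)⟩⟩
  -- `Q₀` centralizes `C₀`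
  have hQC0 : Q₀ ≤ Subgroup.centralizer
      ((St ⊓ Subgroup.centralizer (P : Set G) : Subgroup G) : Set G) := by
    have h1 : ⁅Q₀, R⁆ ≤ Subgroup.centralizer
        ((St ⊓ Subgroup.centralizer (P : Set G) : Subgroup G) : Set G) := by
      rw [Subgroup.commutator_le]
      intro a ha b hb
      rw [Subgroup.mem_centralizer_iff]
      intro c hc
      have hb1 : ∀ z ∈ St ⊓ Subgroup.centralizer (P : Set G), Commute b z := by
        intro z hz
        have hz' : z ∈ St ⊓ Subgroup.centralizer (R : Set G) := by rw [← hC0eq]; exact hz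
        exact (Subgroup.mem_centralizer_iff.1 hz'.2) b hb
      have hc' : a⁻¹ * c * a ∈ St ⊓ Subgroup.centralizer (P : Set G) := by
        have h2 := (Subgroup.mem_normalizer_iff.1 (hQSt (Q₀.inv_mem ha)) c).1 hc.1
        have h3 := (Subgroup.mem_normalizer_iff.1
          (Subgroup.le_normalizer (hQP (Q₀.inv_mem ha))) c).1 hc.2
        rw [inv_inv] at h2 h3
        exact ⟨h2, h3⟩
      have hbc : Commute b c := hb1 c hc
      have hb2 : Commute b (a⁻¹ * c * a) := hb1 _ hc'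
      rw [commutatorElement_def]
      symm
      calc a * b * a⁻¹ * b⁻¹ * c = a * b * a⁻¹ * (b⁻¹ * c) := by group
        _ = a * b * a⁻¹ * (c * b⁻¹) := by rw [hbc.inv_left.eq]
        _ = a * (b * (a⁻¹ * c * a)) * a⁻¹ * b⁻¹ := by group
        _ = a * ((a⁻¹ * c * a) * b) * a⁻¹ * b⁻¹ := by rw [hb2.eq]
        _ = c * (a * b * a⁻¹ * b⁻¹) := by group
    rwa [hQR] at h1
  have h8b : St ⊓ Subgroup.centralizer (P : Set G) ≤ St ⊓ Subgroup.centralizer (Q₀ : Set G) := by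
    intro x hx
    refine Subgroup.mem_inf.2 ⟨hx.1, ?_⟩
    rw [Subgroup.mem_centralizer_iff]
    intro a ha
    exact ((Subgroup.mem_centralizer_iff.1 (hQC0 ha)) x hx).symm
  have h8 : St ⊓ Subgroup.centralizer (R : Set G) = St ⊓ Subgroup.centralizer (Q₀ : Set G) := by
    rw [← hC0eq]; exact le_antisymm h8b h8a
  -- Lemma F(b)
  have hsolvA : Group.IsSolvable ↥(Q₀ ⊔ R) :=
    Group.isSolvable_of_isSolvable_injective
      (Subgroup.inclusion_injective (sup_le hQM hRM : Q₀ ⊔ R ≤ M))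
  have hoddA : Odd (Nat.card ↥(Q₀ ⊔ R)) :=
    Odd.of_dvd_nat hG.1 (Subgroup.card_subgroup_dvd_card _)
  have hcopAt : (Nat.card ↥(Q₀ ⊔ R)).Coprime t := by
    rw [hcardA]
    apply Nat.Coprime.mul_left
    · obtain ⟨k, hk⟩ := IsPGroup.iff_card.1 hQq
      rw [hk]; exact Nat.Coprime.pow_left k ((Nat.coprime_primes hq ht).2 (Ne.symm htq))
    · rw [hRc]; exact (Nat.coprime_primes hrp ht).2 (Ne.symm htr)
  have hrQ : ¬ r ∣ Nat.card Q₀ := fun hd =>
    hqr (eq_of_prime_dvd_card_pgroup hQq hrp hd).symm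
  have hFb := Cfsg.Agent.Helper63.BG13F.lemmaF_b ht hrp St Q₀ R hStα.2.1 hRc hRSt hQSt hRQ hQR
    hsolvA hoddA hcopAt hrQ h8
  have hfin : St ⊓ Subgroup.centralizer (R : Set G) = St := inf_eq_left.2 hFb.2
  rw [hfin] at hC0cyc
  exact hStnc hC0cyc

end Cfsg.Agent.Helper23.BG13
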