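import Mathlib
import Cfsg.Agent.Helper13.FExtDefs
import Cfsg.Agent.Helper13.SpMax1

/-! (E2p) of helper13's WANTED #7889 (S5975): a non-scalar involution of `Sp_4(F)` has a support
of dimension 2. (helper23) -/

set_option autoImplicit false

namespace Cfsg.Agent.Helper23.FExtE2p

open Matrix Cfsg Cfsg.Geo
open Cfsg.Agent.Helper13.FExt

variable {F : Type*} [Field F]

/-- an orthogonal summand cannot be a line -/
theorem false_of_finrank_one {m : ℕ} (U U' : Submodule F (Fin m ⊕ Fin m → F))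
    (hsup : U ⊔ U' = ⊤) (horth : ∀ u ∈ U, ∀ u' ∈ U', Cfsg.sympForm m F u' u = 0)
    (h1 : Module.finrank F U = 1) : False := by
  obtain ⟨v, hv0, hv⟩ := finrank_eq_one_iff'.1 h1
  have hv0' : (v : Fin m ⊕ Fin m → F) ≠ 0 := fun h => hv0 (Subtype.ext h)
  obtain ⟨y, hy⟩ := Cfsg.Agent.Helper13.sympForm_nondeg_left hv0'
  have hyT : y ∈ U ⊔ U' := by rw [hsup]; trivial
  obtain ⟨u, hu, u', hu', rfl⟩ := Submodule.mem_sup.1 hyT
  obtain ⟨c, hc⟩ := hv ⟨u, hu⟩
  have hc' : c • (v : Fin m ⊕ Fin m → F) = u := congrArg Subtype.val hc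
  apply hy
  rw [Cfsg.Agent.Helper13.sympForm_add_left, ← hc', Cfsg.Agent.Helper13.sympForm_smul_left, Cfsg.Agent.Helper13.sympForm_self, mul_zero, zero_add]
  exact horth v v.2 u' hu'

/-- (E2') a non-scalar involution of `Sp_4(F)` has a support of dimension 2 -/
theorem finrank_supp_of_invol (h2 : (2 : F) ≠ 0) (x : GL (Fin 2 ⊕ Fin 2) F)
    (hx : x ∈ spGL 2 F) (hx2 : x ^ 2 = 1)
    (hns : ∀ z : F, (x : Matrix (Fin 2 ⊕ Fin 2) (Fin 2 ⊕ Fin 2) F) ≠
      z • (1 : Matrix (Fin 2 ⊕ Fin 2) (Fin 2 ⊕ Fin 2) F)) :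
    Module.finrank F (supp (x : Matrix (Fin 2 ⊕ Fin 2) (Fin 2 ⊕ Fin 2) F)) = 2 := by
  set A : Matrix (Fin 2 ⊕ Fin 2) (Fin 2 ⊕ Fin 2) F :=
    (x : Matrix (Fin 2 ⊕ Fin 2) (Fin 2 ⊕ Fin 2) F) with hA
  have hAA : A * A = 1 := by
    have := congrArg Units.val hx2
    rwa [pow_two, Units.val_mul, Units.val_one] at this
  have hpres : ∀ u v, Cfsg.sympForm 2 F (A *ᵥ u) (A *ᵥ v) = Cfsg.sympForm 2 F u v :=
    (Cfsg.Agent.Helper13.mem_spGL_iff x).1 hx
  have hAAv : ∀ v : Fin 2 ⊕ Fin 2 → F, A *ᵥ (A *ᵥ v) = v := by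
    intro v
    rw [Matrix.mulVec_mulVec, hAA, Matrix.one_mulVec]
  -- membership
  have hmemS : ∀ v, v ∈ supp A ↔ ∃ u, A *ᵥ u - u = v := by
    intro v
    simp only [supp, LinearMap.mem_range, Matrix.mulVecLin_apply, Matrix.sub_mulVec,
      Matrix.one_mulVec]
  have hmemK : ∀ v, v ∈ fixSp A ↔ A *ᵥ v = v := by
    intro v
    simp only [fixSp, LinearMap.mem_ker, Matrix.mulVecLin_apply, Matrix.sub_mulVec,
      Matrix.one_mulVec, sub_eq_zero]
  -- orthogonality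
  have horth : ∀ s ∈ supp A, ∀ k ∈ fixSp A, Cfsg.sympForm 2 F s k = 0 := by
    intro s hs k hk
    obtain ⟨u, rfl⟩ := (hmemS s).1 hs
    have hk' := (hmemK k).1 hk
    rw [Cfsg.Agent.Helper13.sympForm_sub_left]
    nth_rewrite 1 [← hk']
    rw [hpres, sub_self]
  have horth' : ∀ k ∈ fixSp A, ∀ s ∈ supp A, Cfsg.sympForm 2 F k s = 0 := by
    intro k hk s hs
    rw [Cfsg.Agent.Helper13.sympForm_swap, horth s hs k hk, neg_zero]
  -- the sum is everything
  have h2inv : (2 : F) * (2 : F)⁻¹ = 1 := mul_inv_cancel₀ h2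
  have hsup : supp A ⊔ fixSp A = ⊤ := by
    rw [eq_top_iff]
    intro y _
    rw [Submodule.mem_sup]
    refine ⟨A *ᵥ (-((2 : F)⁻¹ • y)) - (-((2 : F)⁻¹ • y)), (hmemS _).2 ⟨_, rfl⟩,
      (2 : F)⁻¹ • (A *ᵥ y + y), ?_, ?_⟩
    · rw [hmemK, Matrix.mulVec_smul, Matrix.mulVec_add, hAAv, add_comm]
    · rw [Matrix.mulVec_neg, Matrix.mulVec_smul]
      have : y = ((2 : F) * (2 : F)⁻¹) • y := by rw [h2inv, one_smul]
      nth_rewrite 5 [this]
      module
  have hsup' : fixSp A ⊔ supp A = ⊤ := by rw [sup_comm]; exact hsup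
  -- rank-nullity
  have hrn : Module.finrank F (supp A) + Module.finrank F (fixSp A) = 4 := by
    show Module.finrank F (LinearMap.range (A - 1).mulVecLin) +
      Module.finrank F (LinearMap.ker (A - 1).mulVecLin) = 4
    rw [LinearMap.finrank_range_add_finrank_ker, Module.finrank_fintype_fun_eq_card]
    rfl
  have hS1 : Module.finrank F (supp A) ≠ 1 := fun h =>
    false_of_finrank_one (supp A) (fixSp A) hsup (fun u hu u' hu' => horth' u' hu' u hu) h
  have hK1 : Module.finrank F (fixSp A) ≠ 1 := fun h =>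
    false_of_finrank_one (fixSp A) (supp A) hsup' (fun u hu u' hu' => horth u' hu' u hu) h
  have hS0 : Module.finrank F (supp A) ≠ 0 := by
    intro h
    have hbot : supp A = ⊥ := Submodule.finrank_eq_zero.1 h
    apply hns 1
    rw [one_smul]
    apply Cfsg.Agent.Helper13.matrix_eq_of_mulVec
    intro v
    have hv : A *ᵥ v - v ∈ supp A := (hmemS _).2 ⟨v, rfl⟩
    rw [hbot, Submodule.mem_bot, sub_eq_zero] at hv
    rw [hv, Matrix.one_mulVec]
  have hK0 : Module.finrank F (fixSp A) ≠ 0 := by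
    intro h
    have hbot : fixSp A = ⊥ := Submodule.finrank_eq_zero.1 h
    apply hns (-1)
    rw [neg_smul, one_smul]
    apply Cfsg.Agent.Helper13.matrix_eq_of_mulVec
    intro v
    have hv : A *ᵥ v + v ∈ fixSp A := by
      rw [hmemK, Matrix.mulVec_add, hAAv, add_comm]
    rw [hbot, Submodule.mem_bot] at hv
    rw [Matrix.neg_mulVec, Matrix.one_mulVec]
    exact eq_neg_of_add_eq_zero_left hv
  omega

end Cfsg.Agent.Helper23.FExtE2p
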