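import Mathlib
import Cfsg.Agent.Helper61.W2pDefs
import Cfsg.Agent.Helper82.BurnsideSum

/-! (PW) of helper61's WANTED #7019 (S0720, Wielandt degree 2p): `pc_pow`, `classInner_pc_pow`.
(helper23) -/

set_option autoImplicit false

namespace Cfsg.Agent.Helper23.W2p

open Cfsg Cfsg.Agent.Helper61.W2p
open scoped ComplexConjugate

section partB

variable {G : Type*} [Group G] [Fintype G] {Ω : Type*} [Fintype Ω] [MulAction G Ω] {p : ℕ}

/-- (PW) the permutation character is invariant under coprime power maps -/
theorem pc_pow (κ : ℕ) (hκ : κ.Coprime (Nat.card G)) (g : G) :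
    pc G Ω (g ^ κ) = pc G Ω g := by
  have hco : κ.Coprime (orderOf g) := Nat.Coprime.coprime_dvd_right (orderOf_dvd_natCard g) hκ
  obtain ⟨m, hm⟩ := exists_pow_eq_self_of_coprime hco
  have hset : MulAction.fixedBy Ω (g ^ κ) = MulAction.fixedBy Ω g := by
    ext a
    simp only [MulAction.mem_fixedBy]
    constructor
    · intro h
      have h2 : (g ^ κ) ^ m • a = a := by
        induction m with
        | zero => simp
        | succ m ih =>
          have : ∀ m : ℕ, (g ^ κ) ^ m • a = a := by
            intro m
            induction m with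
            | zero => simp
            | succ m ih => rw [pow_succ, mul_smul, h, ih]
          exact this _
      rwa [hm] at h2
    · intro h
      have : ∀ m : ℕ, g ^ m • a = a := by
        intro m
        induction m with
        | zero => simp
        | succ m ih => rw [pow_succ, mul_smul, h, ih]
      exact this κ
  show (Nat.card (MulAction.fixedBy Ω (g ^ κ)) : ℂ) = (Nat.card (MulAction.fixedBy Ω g) : ℂ)
  rw [hset]

/-- (PW) multiplicities in the permutation character are invariant under coprime power maps -/
theorem classInner_pc_pow (κ : ℕ) (hκ : κ.Coprime (Nat.card G)) (χ : G → ℂ) :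
    classInner (pc G Ω) (fun g => χ (g ^ κ)) = classInner (pc G Ω) χ := by
  classical
  unfold classInner
  congr 1
  have h1 : ∀ g : G, pc G Ω g * conj (χ (g ^ κ)) = pc G Ω (g ^ κ) * conj (χ (g ^ κ)) := by
    intro g
    rw [pc_pow κ hκ g]
  rw [Finset.sum_congr rfl (fun g _ => h1 g)]
  exact Cfsg.Agent.Helper82.sum_pow_coprime_eq Finset.univ κ hκ (fun g _ => Finset.mem_univ _)
    (fun g => pc G Ω g * conj (χ g))

end partB

end Cfsg.Agent.Helper23.W2p
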