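import Cfsg.Agent.Helper19.Stein.Defs

/-!
# (X1a) of board #4146: minimal right coset representatives in a group with the exchange
condition (for helper19's Steinberg character package)

`wl_inv`, `wl_mul_ne`, `exists_red_word_of_mem_WJ`, `wl_mul_of_minR`, `exists_minR`,
`minR_unique`, `eq_one_of_minR_univ`; plus the reusable `exch_right` (right-hand exchange),
`mul_wp_of_exch` / `wp_mul_of_exch_right` (deletion), `wl_mul_wp_of_min`.
-/

set_option autoImplicit false

namespace Cfsg.Agent.Helper23.SteinX1a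

open Cfsg.Agent.Helper6 Cfsg.Agent.Helper19.Stein

variable {W ι : Type*} [Group W] {f : ι → W}

theorem inv_f (h : ExchData f) (i : ι) : (f i)⁻¹ = f i :=
  inv_eq_of_mul_eq_one_left (h.inv i)

theorem wp_reverse (h : ExchData f) (l : List ι) : wp f l.reverse = (wp f l)⁻¹ := by
  induction l with
  | nil => simp
  | cons i l ih =>
    rw [List.reverse_cons, wp_append, wp_singleton, ih, wp_cons, mul_inv_rev, inv_f h]

theorem wl_inv_le (h : ExchData f) (w : W) : wl f w⁻¹ ≤ wl f w := by
  obtain ⟨l, hl, hlen⟩ := exists_red h.gen w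
  have := wl_le (f := f) (l := l.reverse) (w := w⁻¹) (by rw [wp_reverse h, hl])
  rw [List.length_reverse, hlen] at this
  exact this

theorem wl_inv (h : ExchData f) (w : W) : wl f w⁻¹ = wl f w :=
  le_antisymm (wl_inv_le h w) (by simpa using wl_inv_le h w⁻¹)

theorem wl_mul_ne (h : ExchData f) (i : ι) (w : W) : wl f (w * f i) ≠ wl f w := by
  intro e
  have h1 : wl f (f i * w⁻¹) = wl f (w * f i) := by
    rw [← wl_inv h (w * f i), mul_inv_rev, inv_f h]
  exact h.ne i w⁻¹ (by rw [h1, e, wl_inv h])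

/-- right-hand exchange condition -/
theorem exch_right (h : ExchData f) (i : ι) (l : List ι) (hr : Red f l)
    (hlt : wl f (wp f l * f i) < wl f (wp f l)) :
    ∃ l₁ z l₂, l = l₁ ++ z :: l₂ ∧ wp f l₂ * f i = f z * wp f l₂ := by
  have hr' : Red f l.reverse := by
    unfold Red at *
    rw [wp_reverse h, wl_inv h, hr, List.length_reverse]
  have hlt' : wl f (f i * wp f l.reverse) < wl f (wp f l.reverse) := by
    rw [wp_reverse h, wl_inv h]
    have e : f i * (wp f l)⁻¹ = (wp f l * f i)⁻¹ := by rw [mul_inv_rev, inv_f h]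
    rw [e, wl_inv h]
    exact hlt
  obtain ⟨m₁, z, m₂, hm, he⟩ := exch h i l.reverse hr' hlt'
  refine ⟨m₂.reverse, z, m₁.reverse, ?_, ?_⟩
  · have e := congrArg List.reverse hm
    rw [List.reverse_reverse] at e
    rw [e]
    simp
  · rw [wp_reverse h, eq_mul_inv_iff_mul_eq, mul_assoc, he, inv_mul_cancel_left]

/-- deletion (left version) -/
theorem mul_wp_of_exch (h : ExchData f) {i z : ι} {l₁ l₂ : List ι}
    (he : f i * wp f l₁ = wp f l₁ * f z) :
    f i * wp f (l₁ ++ z :: l₂) = wp f (l₁ ++ l₂) := by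
  rw [wp_append, wp_cons, ← mul_assoc, he, wp_append, mul_assoc, ← mul_assoc (f z), h.inv,
    one_mul]

/-- deletion (right version) -/
theorem wp_mul_of_exch_right (h : ExchData f) {i z : ι} {l₁ l₂ : List ι}
    (he : wp f l₂ * f i = f z * wp f l₂) :
    wp f (l₁ ++ z :: l₂) * f i = wp f (l₁ ++ l₂) := by
  rw [wp_append, wp_cons, mul_assoc, mul_assoc, he, ← mul_assoc (f z), h.inv, one_mul,
    wp_append]

theorem wp_mem_WJ {J : Set ι} {l : List ι} (hl : ∀ i ∈ l, i ∈ J) : wp f l ∈ WJ f J := by
  induction l with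
  | nil => rw [wp_nil]; exact (WJ f J).one_mem
  | cons i l ih =>
    rw [wp_cons]
    exact (WJ f J).mul_mem
      (Subgroup.subset_closure ⟨i, hl i List.mem_cons_self, rfl⟩)
      (ih fun j hj => hl j (List.mem_cons_of_mem _ hj))

theorem exists_word_of_mem_WJ (h : ExchData f) {J : Set ι} {v : W} (hv : v ∈ WJ f J) :
    ∃ l : List ι, (∀ i ∈ l, i ∈ J) ∧ wp f l = v := by
  unfold WJ at hv
  induction hv using Subgroup.closure_induction with
  | mem x hx =>
    obtain ⟨j, hj, rfl⟩ := hx
    exact ⟨[j], by simpa using hj, wp_singleton f j⟩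
  | one => exact ⟨[], by simp, wp_nil f⟩
  | mul x y _ _ hx hy =>
    obtain ⟨a, ha, rfl⟩ := hx
    obtain ⟨b, hb, rfl⟩ := hy
    refine ⟨a ++ b, ?_, wp_append f a b⟩
    intro i hi
    rcases List.mem_append.1 hi with h1 | h1
    · exact ha i h1
    · exact hb i h1
  | inv x _ hx =>
    obtain ⟨a, ha, rfl⟩ := hx
    exact ⟨a.reverse, fun i hi => ha i (List.mem_reverse.1 hi), wp_reverse h a⟩

/-- every word can be reduced using only its own letters -/
theorem exists_red_of_word (h : ExchData f) {J : Set ι} : ∀ l : List ι, (∀ i ∈ l, i ∈ J) →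
    ∃ l' : List ι, (∀ i ∈ l', i ∈ J) ∧ wp f l' = wp f l ∧ Red f l' := by
  intro l
  induction l with
  | nil =>
    intro _
    exact ⟨[], by simp, rfl, by unfold Red; simp [wl_one]⟩
  | cons i t ih =>
    intro hl
    obtain ⟨t', ht'J, ht', hred⟩ := ih (fun j hj => hl j (List.mem_cons_of_mem _ hj))
    have hiJ : i ∈ J := hl i List.mem_cons_self
    by_cases hR : Red f (i :: t')
    · refine ⟨i :: t', ?_, by rw [wp_cons, wp_cons, ht'], hR⟩
      intro j hj
      rcases List.mem_cons.1 hj with rfl | h1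
      · exact hiJ
      · exact ht'J j h1
    · have hlt : wl f (f i * wp f t') < wl f (wp f t') := by
        unfold Red at hR hred
        rw [wp_cons, List.length_cons] at hR
        have h1 := wl_mul_le h.gen i (wp f t')
        have h2 := h.ne i (wp f t')
        omega
      obtain ⟨l₁, z, l₂, rfl, he⟩ := exch h i t' hred hlt
      refine ⟨l₁ ++ l₂, ?_, ?_, ?_⟩
      · intro j hj
        apply ht'J
        rcases List.mem_append.1 hj with h1 | h1
        · simp [h1]
        · simp [h1]
      · rw [wp_cons, ← ht', mul_wp_of_exch h he]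
      · unfold Red at hred ⊢
        have h1 := wl_le_mul h i (wp f (l₁ ++ z :: l₂))
        have h2 := wl_le (f := f) (l := l₁ ++ l₂) (w := wp f (l₁ ++ l₂)) rfl
        rw [mul_wp_of_exch h he] at h1
        simp only [List.length_append, List.length_cons] at *
        omega

theorem exists_red_word_of_mem_WJ (h : ExchData f) {J : Set ι} {v : W} (hv : v ∈ WJ f J) :
    ∃ l : List ι, (∀ i ∈ l, i ∈ J) ∧ wp f l = v ∧ Red f l := by
  obtain ⟨l, hlJ, hl⟩ := exists_word_of_mem_WJ h hv
  obtain ⟨l', hl'J, hl', hred⟩ := exists_red_of_word h l hlJ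
  exact ⟨l', hl'J, hl'.trans hl, hred⟩

/-- an element of minimal length in the coset `w W_J` -/
theorem exists_min_coset (J : Set ι) (w : W) :
    ∃ v₀ ∈ WJ f J, ∀ v ∈ WJ f J, wl f (w * v₀) ≤ wl f (w * v) := by
  classical
  have hex : ∃ k, ∃ v ∈ WJ f J, wl f (w * v) = k := ⟨_, 1, (WJ f J).one_mem, rfl⟩
  obtain ⟨v₀, hv₀, hk⟩ := Nat.find_spec hex
  refine ⟨v₀, hv₀, fun v hv => ?_⟩
  rw [hk]
  exact Nat.find_min' hex ⟨v, hv, rfl⟩

/-- for `u` of minimal length in `u W_J` and a reduced `J`-word `l`: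
`ℓ(u · l) = ℓ(u) + |l|` -/
theorem wl_mul_wp_of_min (h : ExchData f) {J : Set ι} {u : W}
    (hu : ∀ v ∈ WJ f J, wl f u ≤ wl f (u * v)) :
    ∀ l : List ι, (∀ i ∈ l, i ∈ J) → Red f l → wl f (u * wp f l) = wl f u + l.length := by
  intro l
  induction l using List.reverseRecOn with
  | nil => intro _ _; simp
  | append_singleton l' s ih =>
    intro hJ hred
    have hJ' : ∀ i ∈ l', i ∈ J := fun i hi => hJ i (List.mem_append_left _ hi)
    have hsJ : s ∈ J := hJ s (by simp)
    have hred' : Red f l' := hred.init h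
    have ih' := ih hJ' hred'
    obtain ⟨m, hm, hmlen⟩ := exists_red h.gen u
    have hx : wp f (m ++ l') = u * wp f l' := by rw [wp_append, hm]
    have hredx : Red f (m ++ l') := by
      unfold Red
      rw [hx, ih', List.length_append, hmlen]
    rw [wp_append, wp_singleton, ← mul_assoc, List.length_append, List.length_singleton]
    have h1 := wl_mul_le' h.gen s (u * wp f l')
    have h2 := wl_mul_ne h s (u * wp f l')
    have h3 := wl_le_mul' h s (u * wp f l')
    by_contra hcon
    have hlt : wl f (wp f (m ++ l') * f s) < wl f (wp f (m ++ l')) := by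
      rw [hx]; omega
    obtain ⟨l₁, z, l₂, hsplit, he⟩ := exch_right h s (m ++ l') hredx hlt
    -- the deleted letter lies in `l'`
    have key1 : ∀ a' : List ι, l' = a' ++ z :: l₂ → False := by
      intro a' ha'
      have e : wp f (l' ++ [s]) = wp f (a' ++ l₂) := by
        rw [wp_append, wp_singleton, ha', wp_mul_of_exch_right h he]
      have h4 := wl_le (f := f) (l := a' ++ l₂) (w := wp f (l' ++ [s])) e.symm
      unfold Red at hred
      rw [hred, ha'] at h4
      simp only [List.length_append, List.length_cons, List.length_nil] at h4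
      omega
    -- the deleted letter lies in `m`
    have key2 : ∀ c'' : List ι, m = l₁ ++ z :: c'' → l₂ = c'' ++ l' → False := by
      intro c'' hmc hl₂
      have hv' : wp f l' * f s * (wp f l')⁻¹ ∈ WJ f J :=
        (WJ f J).mul_mem ((WJ f J).mul_mem (wp_mem_WJ hJ')
          (Subgroup.subset_closure ⟨s, hsJ, rfl⟩)) ((WJ f J).inv_mem (wp_mem_WJ hJ'))
      have e1 : wp f c'' * wp f l' * f s = f z * (wp f c'' * wp f l') := by
        rw [hl₂, wp_append] at he
        exact he
      have e2 : u * (wp f l' * f s * (wp f l')⁻¹) = wp f (l₁ ++ c'') := by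
        rw [← hm, hmc, wp_append, wp_cons, wp_append]
        calc wp f l₁ * (f z * wp f c'') * (wp f l' * f s * (wp f l')⁻¹)
            = wp f l₁ * f z * (wp f c'' * wp f l' * f s) * (wp f l')⁻¹ := by group
          _ = wp f l₁ * f z * (f z * (wp f c'' * wp f l')) * (wp f l')⁻¹ := by rw [e1]
          _ = wp f l₁ * (f z * f z) * wp f c'' := by group
          _ = wp f l₁ * wp f c'' := by rw [h.inv, mul_one]
      have h4 := hu _ hv'
      have h5 := wl_le (f := f) (l := l₁ ++ c'') (w := u * (wp f l' * f s * (wp f l')⁻¹)) e2.symm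
      rw [← hmlen, hmc] at h4
      simp only [List.length_append, List.length_cons] at h4 h5
      omega
    rcases List.append_eq_append_iff.1 hsplit with ⟨a', ha1, ha2⟩ | ⟨c', hc1, hc2⟩
    · exact key1 a' ha2
    · cases c' with
      | nil => exact key1 [] (by simpa using hc2.symm)
      | cons z' c'' =>
        rw [List.cons_append, List.cons.injEq] at hc2
        obtain ⟨rfl, hc2⟩ := hc2
        exact key2 c'' hc1 hc2

/-- an element without right descents in `J` has minimal length in its coset -/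
theorem min_of_minR (h : ExchData f) {J : Set ι} {w : W} (hw : MinR f J w) :
    ∀ v ∈ WJ f J, wl f w ≤ wl f (w * v) := by
  obtain ⟨v₀, hv₀, hmin⟩ := exists_min_coset (f := f) J w
  have hu : ∀ v ∈ WJ f J, wl f (w * v₀) ≤ wl f (w * v₀ * v) := by
    intro v hv
    rw [mul_assoc]
    exact hmin _ ((WJ f J).mul_mem hv₀ hv)
  obtain ⟨l, hlJ, hl, hred⟩ := exists_red_word_of_mem_WJ h ((WJ f J).inv_mem hv₀)
  have hwl : w = w * v₀ * wp f l := by rw [hl, mul_assoc, mul_inv_cancel, mul_one]
  have hlen := wl_mul_wp_of_min h hu l hlJ hred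
  rw [← hwl] at hlen
  rcases List.eq_nil_or_concat l with rfl | ⟨l', s, rfl⟩
  · rw [wp_nil, mul_one] at hwl
    intro v hv
    have := hu v hv
    rwa [← hwl] at this
  · exfalso
    rw [List.concat_eq_append] at *
    have hsJ : s ∈ J := hlJ s (by simp)
    have hJ' : ∀ i ∈ l', i ∈ J := fun i hi => hlJ i (List.mem_append_left _ hi)
    have h1 := wl_mul_wp_of_min h hu l' hJ' (hred.init h)
    have e : w * f s = w * v₀ * wp f l' := by
      conv_lhs => rw [hwl]
      rw [wp_append, wp_singleton, ← mul_assoc, mul_assoc _ (f s), h.inv, mul_one]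
    have h2 := hw s hsJ
    rw [e, h1, hlen] at h2
    simp only [List.length_append, List.length_cons, List.length_nil] at h2
    omega

theorem wl_mul_of_minR (h : ExchData f) {J : Set ι} {w v : W} (hw : MinR f J w)
    (hv : v ∈ WJ f J) : wl f (w * v) = wl f w + wl f v := by
  obtain ⟨l, hlJ, hl, hred⟩ := exists_red_word_of_mem_WJ h hv
  have := wl_mul_wp_of_min h (min_of_minR h hw) l hlJ hred
  unfold Red at hred
  rw [hl] at this hred
  rw [this, hred]

theorem exists_minR (h : ExchData f) (J : Set ι) (w : W) :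
    ∃ u v, MinR f J u ∧ v ∈ WJ f J ∧ w = u * v := by
  obtain ⟨v₀, hv₀, hmin⟩ := exists_min_coset (f := f) J w
  refine ⟨w * v₀, v₀⁻¹, ?_, (WJ f J).inv_mem hv₀, by rw [mul_assoc, mul_inv_cancel, mul_one]⟩
  intro j hj
  have h1 := hmin (v₀ * f j) ((WJ f J).mul_mem hv₀ (Subgroup.subset_closure ⟨j, hj, rfl⟩))
  rw [← mul_assoc] at h1
  exact lt_of_le_of_ne h1 (wl_mul_ne h j (w * v₀)).symm

theorem eq_one_of_wl_eq_zero (h : ExchData f) {v : W} (hv : wl f v = 0) : v = 1 := by
  obtain ⟨l, hl, hlen⟩ := exists_red h.gen v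
  rw [hv, List.length_eq_zero_iff] at hlen
  rw [← hl, hlen, wp_nil]

theorem minR_unique (h : ExchData f) {J : Set ι} {u u' : W} (hu : MinR f J u)
    (hu' : MinR f J u') (hc : u⁻¹ * u' ∈ WJ f J) : u = u' := by
  have h1 := wl_mul_of_minR h hu hc
  have h2 := wl_mul_of_minR h hu' ((WJ f J).inv_mem hc)
  rw [mul_inv_cancel_left] at h1
  have e : u' * (u⁻¹ * u')⁻¹ = u := by group
  rw [wl_inv h (u⁻¹ * u'), e] at h2
  have h3 : wl f (u⁻¹ * u') = 0 := by omega
  have h4 := eq_one_of_wl_eq_zero h h3
  rw [inv_mul_eq_one] at h4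
  exact h4

theorem eq_one_of_minR_univ (h : ExchData f) {w : W} (hw : MinR f Set.univ w) : w = 1 := by
  obtain ⟨l, hl, hlen⟩ := exists_red h.gen w
  rcases List.eq_nil_or_concat l with rfl | ⟨l', s, rfl⟩
  · rw [← hl, wp_nil]
  · exfalso
    rw [List.concat_eq_append] at *
    have h1 := hw s (Set.mem_univ s)
    have e : w * f s = wp f l' := by
      rw [← hl, wp_append, wp_singleton, mul_assoc, h.inv, mul_one]
    have h2 := wl_le (f := f) (l := l') (w := w * f s) e.symm
    simp only [List.length_append, List.length_cons, List.length_nil] at hlen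
    omega

end Cfsg.Agent.Helper23.SteinX1a
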