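import Mathlib
import Cfsg.Agent.Helper5.SuBN.Defs

/-!
# Piece (L2) of helper5's plan for S2546 (board #9144): making one more column upper triangular
-/

set_option autoImplicit false

namespace Cfsg.Agent.Helper23.SuBNL2

open Matrix Cfsg.Agent.Helper5.SuBN

variable {F : Type*} [Field F] {n : ℕ} {σ : F →+* F}

theorem exists_mul_mem_Pj_succ (c : F)
    (hred : ∀ (j : ℕ), j < n / 2 → ∀ v : Fin n → F, hermJ σ v v = 0 →
      (∀ a : Fin n, n - 1 - j < a.val → v a = 0) → (∃ a : Fin n, j ≤ a.val ∧ v a ≠ 0) →
      ∃ h ∈ Bsub n σ ⊔ Nsub n σ c, Fixj j h ∧ ∀ a : Fin n, j < a.val → (mat h *ᵥ v) a = 0)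
    (j : ℕ) (hj : j < n / 2) (g : UG n σ) (hg : g ∈ Pj σ j) :
    ∃ h ∈ Bsub n σ ⊔ Nsub n σ c, h * g ∈ Pj σ (j + 1) := by
  have hjn : j < n := by omega
  set jj : Fin n := ⟨j, hjn⟩ with hjj
  set v : Fin n → F := fun a => mat g a jj with hv
  by_cases hex : ∃ a : Fin n, j ≤ a.val ∧ v a ≠ 0
  · -- the column is not yet reduced
    have h1 : hermJ σ v v = 0 := by
      have h := unitary_rel g jj jj
      have hne : jj ≠ Fin.rev jj := by
        intro e
        have := congrArg Fin.val e
        rw [val_rev] at this
        simp only [hjj] at this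
        omega
      rw [if_neg hne] at h
      exact h
    have h2 : ∀ a : Fin n, n - 1 - j < a.val → v a = 0 := by
      intro a ha
      have hgi : g⁻¹ ∈ Pj σ j := inv_mem_Pj j g hg
      have e := inv_apply g⁻¹ a jj
      rw [inv_inv] at e
      have h0 : mat g⁻¹ (Fin.rev jj) (Fin.rev a) = 0 := by
        apply hgi
        · rw [val_rev]; have := a.2; omega
        · rw [Fin.lt_def, val_rev, val_rev]
          simp only [hjj]
          have := a.2; omega
      show mat g a jj = 0
      rw [e, h0, map_zero]
    obtain ⟨h, hh, hfix, hcol⟩ := hred j hj v h1 h2 hex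
    refine ⟨h, hh, ?_⟩
    intro a b hb hba
    rw [mat_mul, Matrix.mul_apply]
    by_cases hbj : b.val < j
    · apply Finset.sum_eq_zero
      intro i _
      by_cases hib : b < i
      · rw [hg i b hbj hib, mul_zero]
      · have hib' : i.val ≤ b.val := by rw [Fin.lt_def] at hib; omega
        rw [hfix a i (by omega), if_neg, zero_mul]
        rintro rfl
        rw [Fin.lt_def] at hba
        omega
    · have hbj' : b = jj := by
        apply Fin.ext
        simp only [hjj]
        omega
      subst hbj'
      have := hcol a (by rw [Fin.lt_def] at hba; simpa [hjj] using hba)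
      rw [Matrix.mulVec, dotProduct] at this
      exact this
  · -- nothing to do
    refine ⟨1, one_mem _, ?_⟩
    rw [one_mul]
    intro a b hb hba
    by_cases hbj : b.val < j
    · exact hg a b hbj hba
    · have hbj' : b = jj := by
        apply Fin.ext
        simp only [hjj]
        omega
      subst hbj'
      by_contra hne
      apply hex
      refine ⟨a, ?_, hne⟩
      rw [Fin.lt_def] at hba
      simp only [hjj] at hba
      omega

end Cfsg.Agent.Helper23.SuBNL2
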