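import Cfsg.Prelude.Def_OddOrderLocal
import Cfsg.Agent.Lib.Cores

set_option autoImplicit false

namespace Cfsg.Agent.Helper23

/-- The join of two normal Hall subgroups is a Hall subgroup. -/
theorem coprime_card_index_sup {M : Type*} [Group M] [Finite M] (A B : Subgroup M) [A.Normal]
    [B.Normal] (hA : (Nat.card A).Coprime A.index) (hB : (Nat.card B).Coprime B.index) :
    (Nat.card ↥(A ⊔ B)).Coprime (A ⊔ B).index := by
  by_contra hnc
  obtain ⟨q, hq, hq1, hq2⟩ := Nat.Prime.not_coprime_iff_dvd.mp hnc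
  have h1 : Nat.card (A ⊔ B : Subgroup M) = B.relIndex (A ⊔ B) * Nat.card B := by
    have := Subgroup.relIndex_mul_relIndex ⊥ B (A ⊔ B) bot_le le_sup_right
    rw [Subgroup.relIndex_bot_left, Subgroup.relIndex_bot_left] at this
    rw [← this, mul_comm]
  rw [h1, Subgroup.relIndex_sup_right] at hq1
  rcases (Nat.Prime.dvd_mul hq).mp hq1 with h | h
  · have h2 : q ∣ Nat.card A := h.trans (Subgroup.relIndex_dvd_card B A)
    have h3 : q ∣ A.index := hq2.trans (Subgroup.index_dvd_of_le le_sup_left)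
    exact hq.one_lt.ne' (Nat.eq_one_of_dvd_coprimes hA h2 h3)
  · have h3 : q ∣ B.index := hq2.trans (Subgroup.index_dvd_of_le le_sup_right)
    exact hq.one_lt.ne' (Nat.eq_one_of_dvd_coprimes hB h h3)

theorem fittingHall_coprime (M : Type*) [Group M] [Finite M] :
    (Nat.card (Cfsg.fittingHall M)).Coprime (Cfsg.fittingHall M).index := by
  unfold Cfsg.fittingHall
  refine (Cfsg.Agent.Lib.sSup_normal_induction
    (P := fun N : Subgroup M => (Nat.card N).Coprime N.index) ?_ ?_ _ ?_).2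
  · simp
  · intro A B hA hB h1 h2
    exact coprime_card_index_sup A B h1 h2
  · intro N hN
    exact ⟨hN.1, hN.2.2⟩

theorem le_fittingHall {M : Type*} [Group M] {N : Subgroup M} (hN : N.Normal)
    (hnil : Group.IsNilpotent N) (hc : (Nat.card N).Coprime N.index) : N ≤ Cfsg.fittingHall M :=
  le_sSup ⟨hN, hnil, hc⟩

/-- numerical data of `M_F` inside `G`. -/
theorem fittingHallOf_data {G : Type*} [Group G] [Finite G] (M : Subgroup G) :
    ∃ n m : ℕ, n.Coprime m ∧ (∀ h ∈ Cfsg.fittingHallOf M, h ^ n = 1) ∧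
      (∀ x ∈ M, x ^ m ∈ Cfsg.fittingHallOf M) ∧ (∀ x ∈ M, x ^ (n * m) = 1) ∧
      n = Nat.card (Cfsg.fittingHallOf M) ∧ n * m = Nat.card M := by
  refine ⟨Nat.card (Cfsg.fittingHall ↥M), (Cfsg.fittingHall ↥M).index, fittingHall_coprime ↥M,
    ?_, ?_, ?_, ?_, ?_⟩
  · intro h hh
    have h1 := Subgroup.orderOf_dvd_natCard _ hh
    have h2 : Nat.card ↥(Cfsg.fittingHallOf M) = Nat.card (Cfsg.fittingHall ↥M) := by
      unfold Cfsg.fittingHallOf
      rw [Subgroup.card_map_of_injective M.subtype_injective]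
    rw [h2] at h1
    exact orderOf_dvd_iff_pow_eq_one.mp h1
  · intro x hx
    exact ⟨⟨x, hx⟩ ^ (Cfsg.fittingHall ↥M).index, (Cfsg.fittingHall ↥M).pow_index_mem ⟨x, hx⟩, by simp⟩
  · intro x hx
    rw [Subgroup.card_mul_index]
    exact orderOf_dvd_iff_pow_eq_one.mp (Subgroup.orderOf_dvd_natCard _ hx)
  · unfold Cfsg.fittingHallOf
    rw [Subgroup.card_map_of_injective M.subtype_injective]
  · exact Subgroup.card_mul_index _

end Cfsg.Agent.Helper23
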