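import Cfsg.Prelude.Def_Balance

set_option autoImplicit false

namespace Cfsg.Agent.Helper23

/-! ### transport of the basic characteristic subgroups along isomorphisms -/

theorem map_sSup_of_mulEquiv {X Y : Type*} [Group X] [Group Y] (e : X ≃* Y)
    (PX : Subgroup X → Prop) (PY : Subgroup Y → Prop)
    (h1 : ∀ N, PX N → PY (N.map e.toMonoidHom))
    (h2 : ∀ N, PY N → PX (N.map e.symm.toMonoidHom)) :
    (sSup {N | PX N}).map e.toMonoidHom = sSup {N | PY N} := by
  apply le_antisymm
  · rw [Subgroup.map_le_iff_le_comap]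
    refine sSup_le fun N hN => ?_
    rw [← Subgroup.map_le_iff_le_comap]
    exact le_sSup (h1 N hN)
  · refine sSup_le fun N hN => ?_
    have h3 : N.map e.symm.toMonoidHom ≤ sSup {N | PX N} := le_sSup (h2 N hN)
    have h4 := Subgroup.map_mono (f := e.toMonoidHom) h3
    rw [Subgroup.map_map] at h4
    have h5 : e.toMonoidHom.comp e.symm.toMonoidHom = MonoidHom.id Y := by
      ext y; simp
    rwa [h5, Subgroup.map_id] at h4

theorem normal_map_mulEquiv {X Y : Type*} [Group X] [Group Y] (e : X ≃* Y) {N : Subgroup X}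
    (h : N.Normal) : (N.map e.toMonoidHom).Normal :=
  h.map e.toMonoidHom e.surjective

theorem card_map_mulEquiv {X Y : Type*} [Group X] [Group Y] (e : X ≃* Y) (N : Subgroup X) :
    Nat.card ↥(N.map e.toMonoidHom) = Nat.card ↥N :=
  Subgroup.card_map_of_injective e.injective

theorem pPrimeCore_map_mulEquiv {X Y : Type*} [Group X] [Group Y] (p : ℕ) (e : X ≃* Y) :
    (Cfsg.pPrimeCore p X).map e.toMonoidHom = Cfsg.pPrimeCore p Y := by
  unfold Cfsg.pPrimeCore
  apply map_sSup_of_mulEquiv e (fun N => N.Normal ∧ (Nat.card N).Coprime p)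
    (fun N => N.Normal ∧ (Nat.card N).Coprime p)
  · intro N hN
    exact ⟨normal_map_mulEquiv e hN.1, by rw [card_map_mulEquiv]; exact hN.2⟩
  · intro N hN
    exact ⟨normal_map_mulEquiv e.symm hN.1, by rw [card_map_mulEquiv]; exact hN.2⟩

theorem isPGroup_map_mulEquiv {X Y : Type*} [Group X] [Group Y] {p : ℕ} (e : X ≃* Y)
    {N : Subgroup X} (h : IsPGroup p ↥N) : IsPGroup p ↥(N.map e.toMonoidHom) :=
  h.map e.toMonoidHom

theorem pCore_map_mulEquiv {X Y : Type*} [Group X] [Group Y] (p : ℕ) (e : X ≃* Y) :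
    (Cfsg.pCore p X).map e.toMonoidHom = Cfsg.pCore p Y := by
  unfold Cfsg.pCore
  apply map_sSup_of_mulEquiv e (fun N => N.Normal ∧ IsPGroup p N)
    (fun N => N.Normal ∧ IsPGroup p N)
  · intro N hN
    exact ⟨normal_map_mulEquiv e hN.1, isPGroup_map_mulEquiv e hN.2⟩
  · intro N hN
    exact ⟨normal_map_mulEquiv e.symm hN.1, isPGroup_map_mulEquiv e.symm hN.2⟩

/-- the isomorphism of quotients by the `p'`-cores induced by an isomorphism -/
noncomputable def quotCoreEquiv {X Y : Type*} [Group X] [Group Y] (p : ℕ) (e : X ≃* Y) :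
    X ⧸ Cfsg.pPrimeCore p X ≃* Y ⧸ Cfsg.pPrimeCore p Y :=
  QuotientGroup.congr (Cfsg.pPrimeCore p X) (Cfsg.pPrimeCore p Y) e (pPrimeCore_map_mulEquiv p e)

theorem quotCoreEquiv_comp {X Y : Type*} [Group X] [Group Y] (p : ℕ) (e : X ≃* Y) :
    (quotCoreEquiv p e).toMonoidHom.comp (QuotientGroup.mk' (Cfsg.pPrimeCore p X)) =
      (QuotientGroup.mk' (Cfsg.pPrimeCore p Y)).comp e.toMonoidHom := by
  ext x
  simp only [quotCoreEquiv, MonoidHom.coe_comp, MulEquiv.coe_toMonoidHom, QuotientGroup.coe_mk',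
    Function.comp_apply]
  exact QuotientGroup.congr_mk _ _ e _ x

theorem map_mk'_map_mulEquiv {X Y : Type*} [Group X] [Group Y] (p : ℕ) (e : X ≃* Y)
    (K : Subgroup X) :
    (K.map e.toMonoidHom).map (QuotientGroup.mk' (Cfsg.pPrimeCore p Y)) =
      (K.map (QuotientGroup.mk' (Cfsg.pPrimeCore p X))).map (quotCoreEquiv p e).toMonoidHom := by
  rw [Subgroup.map_map, Subgroup.map_map, quotCoreEquiv_comp]

theorem map_center_mulEquiv' {X Y : Type*} [Group X] [Group Y] (e : X ≃* Y) :
    (Subgroup.center X).map e.toMonoidHom = Subgroup.center Y := by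
  ext y
  simp only [Subgroup.mem_map, Subgroup.mem_center_iff]
  constructor
  · rintro ⟨x, hx, rfl⟩ g
    obtain ⟨g', rfl⟩ := e.surjective g
    show e g' * e x = e x * e g'
    rw [← map_mul, ← map_mul, hx g']
  · intro hy
    refine ⟨e.symm y, fun g => ?_, by simp⟩
    apply e.injective
    simp [hy (e g)]

theorem isQuasisimple_of_mulEquiv' {X Y : Type*} [Group X] [Group Y] (e : X ≃* Y)
    (h : Cfsg.IsQuasisimple X) : Cfsg.IsQuasisimple Y := by
  obtain ⟨hp, hs⟩ := h
  refine ⟨?_, ?_⟩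
  · exact Group.IsPerfect.ofSurjective (f := e.toMonoidHom) e.surjective
  · have e' : X ⧸ Subgroup.center X ≃* Y ⧸ Subgroup.center Y :=
      QuotientGroup.congr (Subgroup.center X) (Subgroup.center Y) e (map_center_mulEquiv' e)
    exact e'.symm.isSimpleGroup

theorem isComponent_map_mulEquiv' {X Y : Type*} [Group X] [Group Y] (e : X ≃* Y) {K : Subgroup X}
    (hK : Cfsg.IsComponent K) : Cfsg.IsComponent (K.map e.toMonoidHom) :=
  ⟨hK.1.map e.surjective, isQuasisimple_of_mulEquiv' (e.subgroupMap K) hK.2⟩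

theorem map_symm_map_mulEquiv {X Y : Type*} [Group X] [Group Y] (e : X ≃* Y) (K : Subgroup X) :
    (K.map e.toMonoidHom).map e.symm.toMonoidHom = K := by
  rw [Subgroup.map_map]
  have : e.symm.toMonoidHom.comp e.toMonoidHom = MonoidHom.id X := by ext x; simp
  rw [this, Subgroup.map_id]

theorem map_map_symm_mulEquiv {X Y : Type*} [Group X] [Group Y] (e : X ≃* Y) (K : Subgroup Y) :
    (K.map e.symm.toMonoidHom).map e.toMonoidHom = K := by
  rw [Subgroup.map_map]
  have : e.toMonoidHom.comp e.symm.toMonoidHom = MonoidHom.id Y := by ext x; simp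
  rw [this, Subgroup.map_id]

theorem isPComponent_map_mulEquiv {X Y : Type*} [Group X] [Group Y] (p : ℕ) (e : X ≃* Y)
    {K : Subgroup X} (hK : Cfsg.IsPComponent p K) : Cfsg.IsPComponent p (K.map e.toMonoidHom) := by
  obtain ⟨h1, h2, h3⟩ := hK
  refine ⟨h1.map e.surjective, ?_, ?_⟩
  · rw [map_mk'_map_mulEquiv]
    exact isComponent_map_mulEquiv' _ h2
  · intro H hH hHK himg
    have hH' : (H.map e.symm.toMonoidHom).IsSubnormal := hH.map e.symm.surjective
    have hle : H.map e.symm.toMonoidHom ≤ K := by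
      have := Subgroup.map_mono (f := e.symm.toMonoidHom) hHK
      rwa [map_symm_map_mulEquiv] at this
    have himg' : (H.map e.symm.toMonoidHom).map (QuotientGroup.mk' (Cfsg.pPrimeCore p X)) =
        K.map (QuotientGroup.mk' (Cfsg.pPrimeCore p X)) := by
      have e1 := map_mk'_map_mulEquiv p e (H.map e.symm.toMonoidHom)
      rw [map_map_symm_mulEquiv, himg, map_mk'_map_mulEquiv] at e1
      exact (Subgroup.map_injective (quotCoreEquiv p e).injective e1).symm
    have := h3 _ hH' hle himg'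
    rw [← this, map_map_symm_mulEquiv]

theorem pLayer_map_mulEquiv {X Y : Type*} [Group X] [Group Y] (p : ℕ) (e : X ≃* Y) :
    (Cfsg.pLayer p X).map e.toMonoidHom = Cfsg.pLayer p Y := by
  unfold Cfsg.pLayer
  exact map_sSup_of_mulEquiv e (fun K => Cfsg.IsPComponent p K) (fun K => Cfsg.IsPComponent p K)
    (fun K hK => isPComponent_map_mulEquiv p e hK)
    (fun K hK => isPComponent_map_mulEquiv p e.symm hK)

theorem pLayer_characteristic (p : ℕ) (X : Type*) [Group X] : (Cfsg.pLayer p X).Characteristic :=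
  Subgroup.characteristic_iff_map_eq.mpr fun e => pLayer_map_mulEquiv p e

instance pLayer_normal (p : ℕ) (X : Type*) [Group X] : (Cfsg.pLayer p X).Normal :=
  haveI := pLayer_characteristic p X
  inferInstance

theorem pPrimePCore_map_mulEquiv {X Y : Type*} [Group X] [Group Y] (p : ℕ) (e : X ≃* Y) :
    (Cfsg.pPrimePCore p X).map e.toMonoidHom = Cfsg.pPrimePCore p Y := by
  unfold Cfsg.pPrimePCore
  rw [← pCore_map_mulEquiv p (quotCoreEquiv p e)]
  ext y
  simp only [Subgroup.mem_map, Subgroup.mem_comap, QuotientGroup.mk'_apply, MulEquiv.coe_toMonoidHom]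
  constructor
  · rintro ⟨x, hx, rfl⟩
    refine ⟨_, hx, ?_⟩
    have := DFunLike.congr_fun (quotCoreEquiv_comp p e) x
    simpa using this
  · rintro ⟨q, hq, hqy⟩
    refine ⟨e.symm y, ?_, by simp⟩
    have := DFunLike.congr_fun (quotCoreEquiv_comp p e) (e.symm y)
    simp only [MonoidHom.coe_comp, MulEquiv.coe_toMonoidHom, QuotientGroup.coe_mk',
      Function.comp_apply, MulEquiv.apply_symm_apply] at this
    rw [← hqy] at this
    have h2 := (quotCoreEquiv p e).injective this
    rw [h2]; exact hq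

instance pPrimePCore_normal (p : ℕ) (X : Type*) [Group X] : (Cfsg.pPrimePCore p X).Normal := by
  unfold Cfsg.pPrimePCore
  infer_instance

end Cfsg.Agent.Helper23
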