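import Mathlib

set_option autoImplicit false

/-!
The "diagonal" products `∏_{i<n} x^i l x^{-i}` (helper23).
-/

namespace Cfsg.Agent.Helper23

variable {G : Type*} [Group G]

/-- `diagProd x l n = ∏_{i<n} x^i l x^{-i}`, in increasing order of `i`. -/
def diagProd (x l : G) : ℕ → G
  | 0 => 1
  | n + 1 => diagProd x l n * (x ^ n * l * (x ^ n)⁻¹)

@[simp] theorem diagProd_zero (x l : G) : diagProd x l 0 = 1 := rfl

theorem diagProd_succ (x l : G) (n : ℕ) :
    diagProd x l (n + 1) = diagProd x l n * (x ^ n * l * (x ^ n)⁻¹) := rfl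

theorem diagProd_one (x : G) (n : ℕ) : diagProd x 1 n = 1 := by
  induction n with
  | zero => rfl
  | succ n ih => rw [diagProd_succ, ih]; simp

theorem diagProd_mem (x l : G) (K : Subgroup G) (n : ℕ)
    (h : ∀ i < n, x ^ i * l * (x ^ i)⁻¹ ∈ K) : diagProd x l n ∈ K := by
  induction n with
  | zero => exact K.one_mem
  | succ n ih =>
    rw [diagProd_succ]
    exact K.mul_mem (ih fun i hi => h i (Nat.lt_succ_of_lt hi)) (h n (Nat.lt_succ_self n))

/-- Shift: `δ_{n+1}(l) = l * x δ_n(l) x⁻¹`. -/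
theorem diagProd_succ' (x l : G) (n : ℕ) :
    diagProd x l (n + 1) = l * (x * diagProd x l n * x⁻¹) := by
  induction n with
  | zero => simp [diagProd_succ]
  | succ n ih =>
    conv_lhs => rw [diagProd_succ, ih]
    conv_rhs => rw [diagProd_succ]
    rw [pow_succ']
    group

/-- Conjugation by an element commuting with `x`. -/
theorem diagProd_conj (x l d : G) (hd : d * x = x * d) (n : ℕ) :
    d * diagProd x l n * d⁻¹ = diagProd x (d * l * d⁻¹) n := by
  induction n with
  | zero => simp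
  | succ n ih =>
    rw [diagProd_succ, diagProd_succ, ← ih]
    have hc : Commute d (x ^ n) := Commute.pow_right hd n
    have h1 : x ^ n * d = d * x ^ n := hc.symm
    have h2 : d⁻¹ * (x ^ n)⁻¹ = (x ^ n)⁻¹ * d⁻¹ := by
      rw [← mul_inv_rev, ← mul_inv_rev, h1]
    have e : x ^ n * (d * l * d⁻¹) * (x ^ n)⁻¹ = d * (x ^ n * l * (x ^ n)⁻¹) * d⁻¹ := by
      calc x ^ n * (d * l * d⁻¹) * (x ^ n)⁻¹ = (x ^ n * d) * l * (d⁻¹ * (x ^ n)⁻¹) := by group
        _ = (d * x ^ n) * l * ((x ^ n)⁻¹ * d⁻¹) := by rw [h1, h2]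
        _ = d * (x ^ n * l * (x ^ n)⁻¹) * d⁻¹ := by group
    rw [e]
    group

/-- Multiplicativity when the later factors of `l` commute with the earlier factors of `m`. -/
theorem diagProd_mul (x l m : G) (n : ℕ)
    (h : ∀ i j, i < j → j < n →
      Commute (x ^ j * l * (x ^ j)⁻¹) (x ^ i * m * (x ^ i)⁻¹)) :
    diagProd x (l * m) n = diagProd x l n * diagProd x m n := by
  induction n with
  | zero => simp
  | succ n ih =>
    rw [diagProd_succ, diagProd_succ, diagProd_succ,
      ih fun i j hij hj => h i j hij (Nat.lt_succ_of_lt hj)]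
    have hmem : diagProd x m n ∈ Subgroup.centralizer ({x ^ n * l * (x ^ n)⁻¹} : Set G) := by
      apply diagProd_mem
      intro i hi
      rw [Subgroup.mem_centralizer_iff]
      intro a ha
      rw [Set.mem_singleton_iff] at ha
      subst ha
      exact (h i n hi (Nat.lt_succ_self n)).eq
    have hc : x ^ n * l * (x ^ n)⁻¹ * diagProd x m n = diagProd x m n * (x ^ n * l * (x ^ n)⁻¹) :=
      Subgroup.mem_centralizer_iff.mp hmem _ rfl
    have e : x ^ n * (l * m) * (x ^ n)⁻¹ = (x ^ n * l * (x ^ n)⁻¹) * (x ^ n * m * (x ^ n)⁻¹) := by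
      group
    rw [e]
    calc diagProd x l n * diagProd x m n * (x ^ n * l * (x ^ n)⁻¹ * (x ^ n * m * (x ^ n)⁻¹))
        = diagProd x l n * (diagProd x m n * (x ^ n * l * (x ^ n)⁻¹)) * (x ^ n * m * (x ^ n)⁻¹) := by
          simp only [mul_assoc]
      _ = diagProd x l n * ((x ^ n * l * (x ^ n)⁻¹) * diagProd x m n) * (x ^ n * m * (x ^ n)⁻¹) := by
          rw [hc]
      _ = _ := by simp only [mul_assoc]

end Cfsg.Agent.Helper23
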