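import Mathlib
import Cfsg.Prelude.Def_Local
import Cfsg.Agent.Helper21.Radical
import Cfsg.Agent.Helper22.PComponent4
import Cfsg.Agent.Helper23.Conn
import Cfsg.Agent.Helper23.PComponent
import Cfsg.Agent.Helper23.Diag

set_option autoImplicit false
open scoped commutatorElement

/-!
The diagonal component of `C_G(x)` attached to a component `L` of `G` moved by the element `x` of
prime order `p` (helper23).
-/

namespace Cfsg.Agent.Helper23

open Cfsg Cfsg.Agent.Helper22

variable {G : Type*} [Group G]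

theorem isComponent_cj {L : Subgroup G} (hL : IsComponent L) (g : G) : IsComponent (cj g L) :=
  isComponent_map_mulEquiv' (MulAut.conj g) hL

theorem cj_eq_iff_mem_normalizer {L : Subgroup G} {g : G} :
    cj g L = L ↔ g ∈ Subgroup.normalizer (L : Set G) :=
  ⟨fun h => mem_normalizer_of_map_conj_eq h, fun h => map_conj_eq_of_mem_normalizer h⟩

variable {p : ℕ} [Fact p.Prime] {x : G} {L : Subgroup G}

/-- Powers of `x` of exponent prime to `p = |x|` do not normalize `L` either. -/
theorem cj_pow_ne (hx : orderOf x = p) (hxL : cj x L ≠ L) {i : ℕ} (hi : ¬ p ∣ i) :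
    cj (x ^ i) L ≠ L := by
  intro h
  apply hxL
  have hcop : i.Coprime (orderOf x) := by
    rw [hx]
    exact ((Nat.Prime.coprime_iff_not_dvd Fact.out).mpr hi).symm
  obtain ⟨m, hm⟩ := exists_pow_eq_self_of_coprime hcop
  have key : ∀ k : ℕ, cj ((x ^ i) ^ k) L = L := by
    intro k
    induction k with
    | zero => rw [pow_zero, cj_one]
    | succ k ih => rw [pow_succ, cj_mul, h, ih]
  rw [← hm]
  exact key m

theorem cj_pow_ne_cj_pow (hx : orderOf x = p) (hxL : cj x L ≠ L) {i j : ℕ} (hij : i < j)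
    (hj : j < p) : cj (x ^ i) L ≠ cj (x ^ j) L := by
  intro h
  have h1 : x ^ j = x ^ i * x ^ (j - i) := by
    rw [← pow_add]
    congr 1
    omega
  rw [h1, cj_mul] at h
  have h2 := congrArg (cj (x ^ i)⁻¹) h
  rw [cj_inv_cj, cj_inv_cj] at h2
  exact cj_pow_ne hx hxL (i := j - i) (Nat.not_dvd_of_pos_of_lt (by omega) (by omega)) h2.symm

theorem commute_of_mem_cj_pow (hx : orderOf x = p) (hL : IsComponent L) (hxL : cj x L ≠ L)
    {i j : ℕ} (hij : i < j) (hj : j < p) {a b : G} (ha : a ∈ cj (x ^ i) L)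
    (hb : b ∈ cj (x ^ j) L) : Commute a b := by
  have h := IsComponent.commutator_eq_bot_of_ne (isComponent_cj hL (x ^ i)) (isComponent_cj hL (x ^ j))
    (cj_pow_ne_cj_pow hx hxL hij hj)
  rw [Subgroup.commutator_eq_bot_iff_le_centralizer] at h
  exact (Subgroup.mem_centralizer_iff.mp (h ha) b hb).symm

/-- `cj (x^j) L` centralizes `L` for `0 < j < p`. -/
theorem cj_pow_le_centralizer (hx : orderOf x = p) (hL : IsComponent L) (hxL : cj x L ≠ L)
    {j : ℕ} (hj0 : 0 < j) (hj : j < p) : cj (x ^ j) L ≤ Subgroup.centralizer (L : Set G) := by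
  intro b hb
  rw [Subgroup.mem_centralizer_iff]
  intro a ha
  have ha' : a ∈ cj (x ^ 0) L := by rw [pow_zero, cj_one]; exact ha
  exact (commute_of_mem_cj_pow hx hL hxL hj0 hj ha' hb).eq

/-- `δ(l) = l * l'` with `l'` centralizing `L`. -/
theorem diagProd_eq_mul (hx : orderOf x = p) (hL : IsComponent L) (hxL : cj x L ≠ L)
    {l : G} (hl : l ∈ L) :
    ∃ l' ∈ Subgroup.centralizer (L : Set G), diagProd x l p = l * l' := by
  obtain ⟨n, hn⟩ : ∃ n, p = n + 1 := ⟨p - 1, by have := (Fact.out : p.Prime).pos; omega⟩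
  refine ⟨x * diagProd x l n * x⁻¹, ?_, ?_⟩
  · rw [diagProd_conj x l x rfl]
    apply diagProd_mem
    intro i hi
    have e : x ^ i * (x * l * x⁻¹) * (x ^ i)⁻¹ = x ^ (i + 1) * l * (x ^ (i + 1))⁻¹ := by
      rw [pow_succ]; group
    rw [e]
    exact cj_pow_le_centralizer hx hL hxL (Nat.succ_pos i) (by omega) (conj_mem_cj hl)
  · rw [hn, diagProd_succ']

/-- `δ(l)` centralizes `x`. -/
theorem diagProd_mem_centralizer (hx : orderOf x = p) (hL : IsComponent L) (hxL : cj x L ≠ L)
    {l : G} (hl : l ∈ L) : diagProd x l p ∈ Subgroup.centralizer ({x} : Set G) := by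
  obtain ⟨l', hl', h⟩ := diagProd_eq_mul hx hL hxL hl
  have hxp : x ^ p = 1 := by rw [← hx]; exact pow_orderOf_eq_one x
  have h1 : diagProd x l (p + 1) = diagProd x l p * l := by
    rw [diagProd_succ, hxp]; simp
  have h2 : diagProd x l (p + 1) = l * (x * diagProd x l p * x⁻¹) := diagProd_succ' x l p
  have hc : l * l' = l' * l := Subgroup.mem_centralizer_iff.mp hl' l hl
  have h3 : x * diagProd x l p * x⁻¹ = diagProd x l p := by
    have h4 : l * (x * diagProd x l p * x⁻¹) = l * diagProd x l p := by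
      rw [← h2, h1, h, mul_assoc, ← hc]
    exact mul_left_cancel h4
  rw [Subgroup.mem_centralizer_iff]
  intro y hy
  rw [Set.mem_singleton_iff] at hy
  subst hy
  calc y * diagProd y l p = (y * diagProd y l p * y⁻¹) * y := by group
    _ = diagProd y l p * y := by rw [h3]

theorem diagProd_mem_layer (hL : IsComponent L) {l : G} (hl : l ∈ L) (n : ℕ) :
    diagProd x l n ∈ layer G := by
  apply diagProd_mem
  intro i _
  exact IsComponent.le_layer (isComponent_cj hL (x ^ i)) (conj_mem_cj hl)

/-- The diagonal homomorphism `L → C_G(x)`, `l ↦ ∏_{i<p} x^i l x^{-i}`. -/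
def diagHom (hx : orderOf x = p) (hL : IsComponent L) (hxL : cj x L ≠ L) :
    ↥L →* ↥(Subgroup.centralizer ({x} : Set G)) where
  toFun l := ⟨diagProd x (l : G) p, diagProd_mem_centralizer hx hL hxL l.2⟩
  map_one' := Subtype.ext (diagProd_one x p)
  map_mul' l m := by
    apply Subtype.ext
    simp only [Subgroup.coe_mul]
    apply diagProd_mul
    intro i j hij hj
    exact (commute_of_mem_cj_pow hx hL hxL hij hj (conj_mem_cj m.2) (conj_mem_cj l.2)).symm

@[simp] theorem diagHom_coe (hx : orderOf x = p) (hL : IsComponent L) (hxL : cj x L ≠ L) (l : ↥L) :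
    ((diagHom hx hL hxL l : ↥(Subgroup.centralizer ({x} : Set G))) : G) = diagProd x (l : G) p := rfl

theorem ker_diagHom_le_center (hx : orderOf x = p) (hL : IsComponent L) (hxL : cj x L ≠ L) :
    (diagHom hx hL hxL).ker ≤ Subgroup.center ↥L := by
  intro l hl
  rw [MonoidHom.mem_ker] at hl
  have h0 : diagProd x (l : G) p = 1 := by
    have := congrArg Subtype.val hl
    simpa using this
  obtain ⟨l', hl', h⟩ := diagProd_eq_mul hx hL hxL l.2
  rw [h0] at h
  have h1 : (l : G) = l'⁻¹ := eq_inv_of_mul_eq_one_left h.symm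
  have h2 : (l : G) ∈ Subgroup.centralizer (L : Set G) := by
    rw [h1]; exact Subgroup.inv_mem _ hl'
  rw [Subgroup.mem_center_iff]
  intro g
  apply Subtype.ext
  simp only [Subgroup.coe_mul]
  exact Subgroup.mem_centralizer_iff.mp h2 g g.2

/-- The diagonal `Δ = δ(L)` is a component of `C_G(x)`. -/
theorem isComponent_range_diagHom (hx : orderOf x = p) (hL : IsComponent L) (hxL : cj x L ≠ L) :
    IsComponent (diagHom hx hL hxL).range := by
  constructor
  · -- subnormal: Δ ⊴ E(G) ∩ C ⊴ C
    have hle : (diagHom hx hL hxL).range ≤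
        (layer G).subgroupOf (Subgroup.centralizer ({x} : Set G)) := by
      rintro _ ⟨l, rfl⟩
      rw [Subgroup.mem_subgroupOf]
      exact diagProd_mem_layer hL l.2 p
    refine Subgroup.IsSubnormal.step _ _ hle (Subgroup.Normal.isSubnormal inferInstance) ?_
    constructor
    rintro ⟨n, hnE⟩ hn ⟨g, hgE⟩
    rw [Subgroup.mem_subgroupOf] at hn ⊢
    obtain ⟨l, hl⟩ := hn
    rw [Subgroup.mem_subgroupOf] at hgE
    have hgN : (g : G) ∈ Subgroup.normalizer (L : Set G) := IsComponent.layer_le_normalizer hL hgE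
    have hgl : (g : G) * l * (g : G)⁻¹ ∈ L := (Subgroup.mem_normalizer_iff.mp hgN l).mp l.2
    refine ⟨⟨(g : G) * l * (g : G)⁻¹, hgl⟩, ?_⟩
    apply Subtype.ext
    have hgx : (g : G) * x = x * (g : G) :=
      (Subgroup.mem_centralizer_iff.mp g.2 x rfl).symm
    have h1 : (n : G) = diagProd x (l : G) p := by
      have := congrArg Subtype.val hl
      simpa using this.symm
    simp only [diagHom_coe, Subgroup.coe_mul, Subgroup.coe_inv]
    rw [← diagProd_conj x l g hgx, h1]
  · have e := QuotientGroup.quotientKerEquivRange (diagHom hx hL hxL)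
    exact isQuasisimple_of_mulEquiv' e
      (isQuasisimple_quotient_of_le_center _ (ker_diagHom_le_center hx hL hxL) hL.2)

end Cfsg.Agent.Helper23
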