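import Mathlib
import Cfsg.Prelude.Def_Local
import Cfsg.Agent.Helper23.DiagComp

set_option autoImplicit false
open scoped commutatorElement

/-!
`O_{p'}(C_G(x))` centralizes every component `L` of `G` with `[L, x] ≠ L`, when `O_{p'}(G) = 1`
(helper23).
-/

namespace Cfsg.Agent.Helper23

open Cfsg Cfsg.Agent.Helper22

variable {G : Type*} [Group G]

/-- A component of a group with `O_{p'}(G) = 1` has order divisible by `p`. -/
theorem IsComponent.dvd_card_of_pPrimeCore_eq_bot [Finite G] {p : ℕ} [Fact p.Prime]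
    (hO : pPrimeCore p G = ⊥) {L : Subgroup G} (hL : IsComponent L) : p ∣ Nat.card ↥L := by
  by_contra h
  have h1 := le_pPrimeCore_of_isSubnormal hL.1 (coprime_card_of_not_dvd h)
  rw [hO, le_bot_iff] at h1
  exact IsComponent.ne_bot hL h1

/-- Elements of `centralizerPPrimeCore p x`. -/
theorem mem_centralizerPPrimeCore_iff {p : ℕ} {x w : G} :
    w ∈ centralizerPPrimeCore p x ↔ ∃ h : w ∈ Subgroup.centralizer ({x} : Set G),
      (⟨w, h⟩ : ↥(Subgroup.centralizer ({x} : Set G))) ∈
        pPrimeCore p ↥(Subgroup.centralizer ({x} : Set G)) := by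
  unfold centralizerPPrimeCore
  constructor
  · rintro ⟨w', hw', rfl⟩
    exact ⟨w'.2, hw'⟩
  · rintro ⟨h, hw⟩
    exact ⟨⟨w, h⟩, hw, rfl⟩

variable {p : ℕ} [Fact p.Prime] {x : G} {L : Subgroup G}

/-- Case of a component moved by `x`. -/
theorem commutator_centralizerPPrimeCore_eq_bot_of_cj_ne [Finite G] (hO : pPrimeCore p G = ⊥)
    (hx : orderOf x = p) (hL : IsComponent L) (hxL : cj x L ≠ L) :
    ⁅L, centralizerPPrimeCore p x⁆ = ⊥ := by
  set C := Subgroup.centralizer ({x} : Set G) with hC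
  have hΔ := isComponent_range_diagHom hx hL hxL
  have hWn : (diagHom hx hL hxL).range ≤ Subgroup.normalizer ((pPrimeCore p ↥C : Subgroup ↥C) : Set ↥C) := by
    rw [Subgroup.normalizer_eq_top]; exact le_top
  have hcopW : (Nat.card ↥(pPrimeCore p ↥C)).Coprime p := Cfsg.Agent.Lib.card_pPrimeCore_coprime p
  have hcomm : ⁅(diagHom hx hL hxL).range, pPrimeCore p ↥C⁆ = ⊥ := by
    rcases Cfsg.Agent.Helper21.IsComponent.le_or_commutator_eq_bot hΔ (pPrimeCore p ↥C) hWn with h | h
    · exfalso
      obtain ⟨y, ⟨a, hya⟩, hyc⟩ := exists_pElement_not_mem_center p hL.2.1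
        (IsComponent.dvd_card_of_pPrimeCore_eq_bot hO hL)
      apply hyc
      apply ker_diagHom_le_center hx hL hxL
      rw [MonoidHom.mem_ker]
      have hmem : diagHom hx hL hxL y ∈ pPrimeCore p ↥C := h ⟨y, rfl⟩
      have h1 : orderOf (diagHom hx hL hxL y) ∣ p ^ a := by
        apply orderOf_dvd_of_pow_eq_one
        rw [← map_pow, hya, map_one]
      have h2 : orderOf (diagHom hx hL hxL y) ∣ Nat.card ↥(pPrimeCore p ↥C) :=
        Subgroup.orderOf_dvd_natCard _ hmem
      have h3 : orderOf (diagHom hx hL hxL y) = 1 :=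
        Nat.eq_one_of_dvd_coprimes (Nat.Coprime.pow_right a hcopW) h2 h1
      exact orderOf_eq_one_iff.mp h3
    · exact h
  rw [Subgroup.commutator_eq_bot_iff_le_centralizer] at hcomm
  -- facts about elements of W
  have hWx : ∀ w ∈ centralizerPPrimeCore p x, w * x = x * w := by
    intro w hw
    obtain ⟨h, -⟩ := mem_centralizerPPrimeCore_iff.mp hw
    exact (Subgroup.mem_centralizer_iff.mp h x rfl).symm
  have hWδ : ∀ w ∈ centralizerPPrimeCore p x, ∀ l ∈ L,
      w * diagProd x l p = diagProd x l p * w := by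
    intro w hw l hl
    obtain ⟨h, hw'⟩ := mem_centralizerPPrimeCore_iff.mp hw
    have h1 := Subgroup.mem_centralizer_iff.mp (hcomm ⟨⟨l, hl⟩, rfl⟩) _ hw'
    have h2 := congrArg Subtype.val h1
    simpa using h2
  have hWord : ∀ w ∈ centralizerPPrimeCore p x, ¬ p ∣ orderOf w := by
    intro w hw
    obtain ⟨h, hw'⟩ := mem_centralizerPPrimeCore_iff.mp hw
    have h1 : orderOf (⟨w, h⟩ : ↥C) ∣ Nat.card ↥(pPrimeCore p ↥C) :=
      Subgroup.orderOf_dvd_natCard _ hw'
    rw [Subgroup.orderOf_mk] at h1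
    intro hp
    have h2 : p ∣ Nat.card ↥(pPrimeCore p ↥C) := dvd_trans hp h1
    exact not_dvd_of_coprime_card hcopW h2
  -- the commutator formula [m, l] = [m, δ l]
  have hcl : ∀ m ∈ L, ∀ l ∈ L, ⁅m, l⁆ = ⁅m, diagProd x l p⁆ := by
    intro m hm l hl
    obtain ⟨l', hl', h⟩ := diagProd_eq_mul hx hL hxL hl
    rw [h, commutatorElement_def, commutatorElement_def]
    have hc : m⁻¹ * l' = l' * m⁻¹ := Subgroup.mem_centralizer_iff.mp hl' _ (L.inv_mem hm)
    calc m * l * m⁻¹ * l⁻¹ = m * l * (m⁻¹ * l') * l'⁻¹ * l⁻¹ := by group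
      _ = m * l * (l' * m⁻¹) * l'⁻¹ * l⁻¹ := by rw [hc]
      _ = m * (l * l') * m⁻¹ * (l * l')⁻¹ := by group
  -- W normalizes L
  have hWN : ∀ w ∈ centralizerPPrimeCore p x, cj w L = L := by
    intro w hw
    by_contra hne
    have hL' : IsComponent (cj w L) := isComponent_cj hL w
    have hex : ∃ i < p, cj w L = cj (x ^ i) L := by
      by_contra hcon
      push Not at hcon
      have habel : ⁅L, L⁆ = ⊥ := by
        rw [Subgroup.commutator_eq_bot_iff_le_centralizer]
        intro m hm
        rw [Subgroup.mem_centralizer_iff]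
        intro l hl
        have h1 : ⁅m, l⁆ = 1 := by
          rw [hcl m hm l hl]
          have hδc : diagProd x l p ∈ Subgroup.centralizer ((cj w L : Subgroup G) : Set G) := by
            apply diagProd_mem
            intro i hi
            have h2 := IsComponent.commutator_eq_bot_of_ne (isComponent_cj hL (x ^ i)) hL'
              (hcon i hi).symm
            rw [Subgroup.commutator_eq_bot_iff_le_centralizer] at h2
            exact h2 (conj_mem_cj hl)
          have h3 : w * m * w⁻¹ * diagProd x l p = diagProd x l p * (w * m * w⁻¹) :=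
            Subgroup.mem_centralizer_iff.mp hδc _ (conj_mem_cj hm)
          have h4 : w * ⁅m, diagProd x l p⁆ * w⁻¹ = 1 := by
            have h5 := hWδ w hw l hl
            have h6 : w * diagProd x l p * w⁻¹ = diagProd x l p := by rw [h5]; group
            calc w * ⁅m, diagProd x l p⁆ * w⁻¹
                = ⁅w * m * w⁻¹, w * diagProd x l p * w⁻¹⁆ := by
                  simp only [commutatorElement_def]; group
              _ = ⁅w * m * w⁻¹, diagProd x l p⁆ := by rw [h6]
              _ = 1 := by rw [commutatorElement_eq_one_iff_mul_comm]; exact h3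
          have h7 : ⁅m, diagProd x l p⁆ = w⁻¹ * (w * ⁅m, diagProd x l p⁆ * w⁻¹) * w := by group
          rw [h7, h4]; group
        exact (commutatorElement_eq_one_iff_mul_comm.mp h1).symm
      rw [IsComponent.commutator_self hL] at habel
      exact IsComponent.ne_bot hL habel
    obtain ⟨i, hip, hi⟩ := hex
    have hi0 : i ≠ 0 := by
      rintro rfl
      rw [pow_zero, cj_one] at hi
      exact hne hi
    have hxw : ∀ n : ℕ, w ^ n * x ^ i = x ^ i * w ^ n := by
      intro n
      exact ((Commute.pow_right (hWx w hw) i).pow_left n).eq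
    have key : ∀ n : ℕ, cj (w ^ n) L = cj (x ^ (n * i)) L := by
      intro n
      induction n with
      | zero => simp [cj_one]
      | succ n ih =>
        rw [pow_succ, cj_mul, hi, ← cj_mul, hxw n, cj_mul, ih, ← cj_mul, ← pow_add]
        congr 2
        ring
    have h1 := key (orderOf w)
    rw [pow_orderOf_eq_one, cj_one] at h1
    have hnd : ¬ p ∣ orderOf w * i := by
      intro hd
      rcases (Nat.Prime.dvd_mul Fact.out).mp hd with h | h
      · exact hWord w hw h
      · exact Nat.not_dvd_of_pos_of_lt (Nat.pos_of_ne_zero hi0) hip h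
    exact cj_pow_ne hx hxL hnd h1.symm
  -- [W, L, L] = 1
  have h3 : ⁅⁅centralizerPPrimeCore p x, L⁆, L⁆ = ⊥ := by
    rw [Subgroup.commutator_eq_bot_iff_le_centralizer, Subgroup.commutator_le]
    intro w hw l hl
    have hwN : w ∈ Subgroup.normalizer (L : Set G) := cj_eq_iff_mem_normalizer.mp (hWN w hw)
    have ha : w * l * w⁻¹ ∈ L := (Subgroup.mem_normalizer_iff.mp hwN l).mp hl
    obtain ⟨l', hl', h⟩ := diagProd_eq_mul hx hL hxL hl
    have hb : w * l' * w⁻¹ ∈ Subgroup.centralizer (L : Set G) := by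
      rw [Subgroup.mem_centralizer_iff]
      intro g hg
      have hg' : w⁻¹ * g * w ∈ L := by
        have := (Subgroup.mem_normalizer_iff.mp (Subgroup.inv_mem _ hwN) g).mp hg
        simpa using this
      have hc := Subgroup.mem_centralizer_iff.mp hl' _ hg'
      calc g * (w * l' * w⁻¹) = w * ((w⁻¹ * g * w) * l') * w⁻¹ := by group
        _ = w * (l' * (w⁻¹ * g * w)) * w⁻¹ := by rw [hc]
        _ = w * l' * w⁻¹ * g := by group
    have hδ := hWδ w hw l hl
    rw [h] at hδ
    -- l⁻¹ * (w l w⁻¹) = l' * (w l' w⁻¹)⁻¹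
    have e1 : l⁻¹ * (w * l * w⁻¹) = l' * (w * l' * w⁻¹)⁻¹ := by
      have : w * (l * l') * w⁻¹ = l * l' := by rw [hδ]; group
      calc l⁻¹ * (w * l * w⁻¹) = l⁻¹ * (w * (l * l') * w⁻¹) * (w * l' * w⁻¹)⁻¹ := by group
        _ = l⁻¹ * (l * l') * (w * l' * w⁻¹)⁻¹ := by rw [this]
        _ = l' * (w * l' * w⁻¹)⁻¹ := by group
    have e2 : l⁻¹ * (w * l * w⁻¹) ∈ Subgroup.centralizer (L : Set G) := by
      rw [e1]
      exact Subgroup.mul_mem _ hl' (Subgroup.inv_mem _ hb)
    have e3 : ⁅w, l⁆ = l * (l⁻¹ * (w * l * w⁻¹)) * l⁻¹ := by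
      rw [commutatorElement_def]; group
    have e4 : l * (l⁻¹ * (w * l * w⁻¹)) = (l⁻¹ * (w * l * w⁻¹)) * l :=
      Subgroup.mem_centralizer_iff.mp e2 l hl
    rw [e3, e4, mul_assoc, mul_inv_cancel, mul_one]
    exact e2
  have h4 := Cfsg.Agent.Helper21.commutator_eq_bot_of_perfect (IsComponent.commutator_self hL) h3
  rw [Subgroup.commutator_comm]
  exact h4

end Cfsg.Agent.Helper23
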