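import Mathlib
import Cfsg.Agent.Helper71.QuotImage
import Cfsg.Agent.Helper50.DerivedKillsAction
import Cfsg.Agent.Helper97.MinimalAction

/-!
# Action of an odd-order coprime group on a small elementary abelian section (helper23)

Pure group theory used for B-G 14.2 (Lemma T of helper70's reduction, board #3506):

* `section_action`: `Q₀ ⊴ Q_s` with `Q_s / Q₀` elementary abelian of order at most `q²`, `E_s` a
  solvable group of odd order prime to `q` normalizing `Q_s` and `Q₀`.  Then `E_s'` acts trivially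
  on `Q_s / Q₀`, and if `Q_s = [Q_s, E_s]` then `C_{Q_s/Q₀}(E_s) = 1`.
* `le_commutator_sup_centralizer`: if `P ≤ E` has prime order `p` not dividing `|E'|` then
  `E = E' C_E(P)`.
-/

set_option autoImplicit false
set_option linter.unusedVariables false
set_option linter.unusedSectionVars false
set_option linter.style.haveILetI false

namespace Cfsg.Agent.Helper23.BG14

open Subgroup Cfsg.Agent.Helper71 Cfsg.Agent.Helper71.QI
open scoped commutatorElement

variable {G : Type*} [Group G]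

/-- images in `N_G(N)/N` commute with commutators -/
theorem img_commutator {N S T : Subgroup G} (hS : S ≤ normalizer (N : Set G))
    (hT : T ≤ normalizer (N : Set G)) : img N ⁅S, T⁆ = ⁅img N S, img N T⁆ := by
  unfold img
  rw [← Subgroup.map_commutator]
  congr 1
  apply Subgroup.map_injective (normalizer (N : Set G)).subtype_injective
  have hST : ⁅S, T⁆ ≤ normalizer (N : Set G) := by
    rw [Subgroup.commutator_le]
    intro s hs t ht
    exact (normalizer (N : Set G)).mul_mem ((normalizer (N : Set G)).mul_mem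
      ((normalizer (N : Set G)).mul_mem (hS hs) (hT ht)) ((normalizer (N : Set G)).inv_mem (hS hs)))
      ((normalizer (N : Set G)).inv_mem (hT ht))
  rw [Subgroup.map_commutator, Subgroup.map_subgroupOf_eq_of_le hS,
    Subgroup.map_subgroupOf_eq_of_le hT, Subgroup.map_subgroupOf_eq_of_le hST]

/-- the order of the image of `S ≥ N` in `N_G(N)/N` -/
theorem card_img_mul {N S : Subgroup G} [Finite G] (hS : S ≤ normalizer (N : Set G)) (hNS : N ≤ S) :
    Nat.card (img N S) * Nat.card N = Nat.card S := by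
  have hsurj := imgHom_surjective N hS
  have h1 : Nat.card ↥S = Nat.card ↥(imgHom N hS).ker * Nat.card ↥(img N S) := by
    rw [← Nat.card_congr (QuotientGroup.quotientKerEquivOfSurjective _ hsurj).toEquiv]
    rw [mul_comm]
    exact Subgroup.card_eq_card_quotient_mul_card_subgroup _
  have h2 : Nat.card ↥(imgHom N hS).ker = Nat.card N := by
    apply Nat.card_congr
    refine ⟨fun x => ⟨(x.1 : G), (imgHom_eq_one_iff N hS x.1).1 x.2⟩,
      fun n => ⟨⟨n.1, hNS n.2⟩, (imgHom_eq_one_iff N hS _).2 n.2⟩, fun x => rfl, fun n => rfl⟩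
  rw [h1, h2, mul_comm]

/-- **Action on a small section.** -/
theorem section_action [Finite G] {q : ℕ} [hq : Fact q.Prime] (hq2 : q ≠ 2)
    {Qs Q0 Es : Subgroup G} (hQ0 : Q0 ≤ Qs) (hQs : IsPGroup q Qs)
    (hQsN : Qs ≤ normalizer (Q0 : Set G)) (hEsQ0 : Es ≤ normalizer (Q0 : Set G))
    (hEsQs : Es ≤ normalizer (Qs : Set G))
    (hexp : ∀ x ∈ Qs, x ^ q ∈ Q0) (hab : ⁅Qs, Qs⁆ ≤ Q0)
    (hcard : Nat.card Qs ≤ q ^ 2 * Nat.card Q0)
    (hsolv : Group.IsSolvable ↥Es) (hodd : Odd (Nat.card Es)) (hcop : (Nat.card Es).Coprime q) :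
    (∀ e ∈ ⁅Es, Es⁆, ∀ y ∈ Qs, e * y * e⁻¹ * y⁻¹ ∈ Q0) ∧
    (⁅Qs, Es⁆ = Qs → ∀ y ∈ Qs, (∀ e ∈ Es, e * y * e⁻¹ * y⁻¹ ∈ Q0) → y ∈ Q0) := by
  classical
  have hqp : q.Prime := hq.out
  set V : Subgroup (Quo Q0) := img Q0 Qs with hV
  set Eb : Subgroup (Quo Q0) := img Q0 Es with hEb
  have hVq : IsPGroup q V := isPGroup_img hQs
  have hVcomm : ∀ a ∈ V, ∀ b ∈ V, a * b = b * a := by
    intro a ha b hb
    have h1 : ⁅a, b⁆ ∈ ⁅V, V⁆ := Subgroup.commutator_mem_commutator ha hb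
    rw [hV, ← img_commutator hQsN hQsN, img_eq_bot_of_le hab, Subgroup.mem_bot] at h1
    exact commutatorElement_eq_one_iff_mul_comm.1 h1
  have hVexp : ∀ a ∈ V, a ^ q = 1 := by
    intro a ha
    obtain ⟨s, hs, hsQ, rfl⟩ := mem_img.mp ha
    rw [← map_pow, proj_eq_one_iff]
    exact hexp s hsQ
  have hVcard : Nat.card V ≤ q ^ 2 := by
    have h1 := card_img_mul hQsN hQ0
    have h2 : Nat.card V * Nat.card Q0 ≤ q ^ 2 * Nat.card Q0 := by rw [h1]; exact hcard
    exact Nat.le_of_mul_le_mul_right h2 Nat.card_pos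
  have hVrk : Cfsg.PRankLE q 2 ↥V := by
    intro B hB hBe
    exact (Nat.card_le_card_of_injective _ (Subgroup.subtype_injective B)).trans hVcard
  have hEsurj := imgHom_surjective Q0 hEsQ0
  have hEbsolv : Group.IsSolvable ↥Eb := Group.isSolvable_of_surjective hEsurj
  have hEbdvd : Nat.card ↥Eb ∣ Nat.card ↥Es := Subgroup.card_dvd_of_surjective _ hEsurj
  have hEbodd : Odd (Nat.card ↥Eb) := Odd.of_dvd_nat hodd hEbdvd
  have hEbV : Eb ≤ normalizer (V : Set (Quo Q0)) := img_le_normalizer hEsQs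
  have hEbcop : (Nat.card ↥Eb).Coprime q := Nat.Coprime.coprime_dvd_left hEbdvd hcop
  -- membership of projections
  have hprojV : ∀ y (hy : y ∈ Qs), proj Q0 ⟨y, hQsN hy⟩ ∈ V := fun y hy =>
    mem_img.mpr ⟨y, hQsN hy, hy, rfl⟩
  have hprojE : ∀ e (he : e ∈ Es), proj Q0 ⟨e, hEsQ0 he⟩ ∈ Eb := fun e he =>
    mem_img.mpr ⟨e, hEsQ0 he, he, rfl⟩
  have hkey : ∀ (e y : G) (he : e ∈ normalizer (Q0 : Set G)) (hy : y ∈ normalizer (Q0 : Set G)),
      proj Q0 ⟨e, he⟩ * proj Q0 ⟨y, hy⟩ = proj Q0 ⟨y, hy⟩ * proj Q0 ⟨e, he⟩ →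
      e * y * e⁻¹ * y⁻¹ ∈ Q0 := by
    intro e y he hy h
    have h1 : proj Q0 (⟨e, he⟩ * ⟨y, hy⟩ * ⟨e, he⟩⁻¹ * ⟨y, hy⟩⁻¹) = 1 := by
      rw [map_mul, map_mul, map_mul, map_inv, map_inv, h]
      group
    rw [proj_eq_one_iff] at h1
    exact h1
  refine ⟨?_, ?_⟩
  · intro e he y hy
    have heN : e ∈ normalizer (Q0 : Set G) := by
      have : ⁅Es, Es⁆ ≤ normalizer (Q0 : Set G) := by
        rw [Subgroup.commutator_le]
        intro s hs t ht
        exact (normalizer (Q0 : Set G)).mul_mem ((normalizer (Q0 : Set G)).mul_mem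
          ((normalizer (Q0 : Set G)).mul_mem (hEsQ0 hs) (hEsQ0 ht))
          ((normalizer (Q0 : Set G)).inv_mem (hEsQ0 hs)))
          ((normalizer (Q0 : Set G)).inv_mem (hEsQ0 ht))
      exact this he
    have h1 : proj Q0 ⟨e, heN⟩ ∈ ⁅Eb, Eb⁆ := by
      rw [hEb, ← img_commutator hEsQ0 hEsQ0]
      exact mem_img.mpr ⟨e, heN, he, rfl⟩
    have h2 : (orderOf (proj Q0 ⟨e, heN⟩)).Coprime q := by
      have h3 : orderOf (proj Q0 ⟨e, heN⟩) ∣ Nat.card ↥Eb := by
        have heEs : e ∈ Es := by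
          have : ⁅Es, Es⁆ ≤ Es := by
            rw [Subgroup.commutator_le]
            intro s hs t ht
            exact Es.mul_mem (Es.mul_mem (Es.mul_mem hs ht) (Es.inv_mem hs)) (Es.inv_mem ht)
          exact this he
        have hmem : proj Q0 ⟨e, heN⟩ ∈ Eb := mem_img.mpr ⟨e, heN, heEs, rfl⟩
        have := orderOf_dvd_natCard (⟨_, hmem⟩ : ↥Eb)
        rwa [Subgroup.orderOf_mk] at this
      exact Nat.Coprime.coprime_dvd_left h3 hEbcop
    have h4 := Cfsg.Agent.Helper50.commutator_centralizes_of_rank_two hq2 Eb V hEbsolv hEbodd hEbV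
      hVq hVrk _ h1 h2 _ (hprojV y hy)
    exact hkey e y heN (hQsN hy) h4
  · intro hcomm y hy hfix
    have hVE : ⁅V, Eb⁆ = V := by
      rw [hV, hEb, ← img_commutator hQsN hEsQ0, hcomm]
    have hcopVE : (Nat.card ↥Eb).Coprime (Nat.card ↥V) := by
      obtain ⟨n, hn⟩ := hVq.exists_card_eq
      rw [hn]; exact Nat.Coprime.pow_right n hEbcop
    have h1 := Cfsg.Agent.Helper97.inf_centralizer_le_commutator_of_commutator_eq hEbV hcopVE hVE
    have h2 : ⁅V, V⁆ = ⊥ := by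
      rw [hV, ← img_commutator hQsN hQsN, img_eq_bot_of_le hab]
    rw [h2] at h1
    have h3 : proj Q0 ⟨y, hQsN hy⟩ ∈ V ⊓ centralizer (Eb : Set (Quo Q0)) := by
      refine Subgroup.mem_inf.2 ⟨hprojV y hy, ?_⟩
      rw [Subgroup.mem_centralizer_iff]
      intro b hb
      obtain ⟨e, heN, he, rfl⟩ := mem_img.mp hb
      have h4 := hfix e he
      have h5 : proj Q0 (⟨e, heN⟩ * ⟨y, hQsN hy⟩ * ⟨e, heN⟩⁻¹ * ⟨y, hQsN hy⟩⁻¹) = 1 := by
        rw [proj_eq_one_iff]; exact h4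
      rw [map_mul, map_mul, map_mul, map_inv, map_inv] at h5
      have h6 : proj Q0 ⟨e, heN⟩ * proj Q0 ⟨y, hQsN hy⟩ =
          (proj Q0 ⟨e, heN⟩ * proj Q0 ⟨y, hQsN hy⟩ * (proj Q0 ⟨e, heN⟩)⁻¹ *
            (proj Q0 ⟨y, hQsN hy⟩)⁻¹) * (proj Q0 ⟨y, hQsN hy⟩ * proj Q0 ⟨e, heN⟩) := by group
      rw [h6, h5, one_mul]
    have h7 := h1 h3
    rw [Subgroup.mem_bot, proj_eq_one_iff] at h7
    exact h7

end Cfsg.Agent.Helper23.BG14
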