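import Mathlib
import Cfsg.Agent.Helper23.BG14A
import Cfsg.Agent.Helper23.BG13G

/-!
# B-G 14.2, Lemma T of helper70's reduction (board #3506) (helper23)

* `exists_mul_commutator_centralizer`: `P ≤ E` of prime order `p ∤ |E'|` : `E = E' C_E(P)`.
-/

set_option autoImplicit false
set_option linter.unusedVariables false
set_option linter.unusedSectionVars false
set_option linter.style.haveILetI false

namespace Cfsg.Agent.Helper23.BG14

open Cfsg Cfsg.Agent.Helper29 Cfsg.Agent.Helper29.BG10 Cfsg.Agent.Helper29.BG11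
open Cfsg.Agent.Helper23.BG13
open scoped commutatorElement

variable {G : Type*} [Group G] [Finite G]

/-- If `P ≤ E` has prime order `p` and `p ∤ |E'|` then `E = E' C_E(P)`. -/
theorem exists_mul_commutator_centralizer {p : ℕ} [hp : Fact p.Prime] {Es P : Subgroup G}
    (hPE : P ≤ Es) (hPc : Nat.card P = p) (hpD : ¬ p ∣ Nat.card ↥⁅Es, Es⁆) :
    ∀ e ∈ Es, ∃ d ∈ ⁅Es, Es⁆, ∃ c ∈ Es ⊓ Subgroup.centralizer (P : Set G), e = d * c := by
  classical
  have hpp : p.Prime := hp.out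
  set D : Subgroup G := ⁅Es, Es⁆ with hD
  have hDE : D ≤ Es := by
    rw [hD, Subgroup.commutator_le]
    intro s hs t ht
    exact Es.mul_mem (Es.mul_mem (Es.mul_mem hs ht) (Es.inv_mem hs)) (Es.inv_mem ht)
  have hEsD : Es ≤ Subgroup.normalizer (D : Set G) :=
    le_normalizer_commutator Subgroup.le_normalizer Subgroup.le_normalizer
  have hPD : P ≤ Subgroup.normalizer (D : Set G) := hPE.trans hEsD
  have hPp : IsPGroup p P := IsPGroup.of_card (n := 1) (by rw [hPc, pow_one])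
  have hdisj : D ⊓ P = ⊥ := by
    apply Subgroup.inf_eq_bot_of_coprime
    rw [hPc]
    exact ((Nat.Prime.coprime_iff_not_dvd hpp).2 hpD).symm
  have hcardY := Cfsg.Agent.Helper23.card_sup_of_disjoint_of_le_normalizer hdisj hPD
  set Y : Subgroup G := D ⊔ P with hY
  have hYE : Y ≤ Es := sup_le hDE hPE
  have hrel : ∀ P' : Subgroup G, P' ≤ Y → Nat.card P' = p → ¬ p ∣ P'.relIndex Y := by
    intro P' hP'Y hP'c
    have h1 := Cfsg.Agent.Helper31.relIndex_mul_card' hP'Y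
    rw [hcardY, hP'c, hPc] at h1
    have h2 : P'.relIndex Y = Nat.card D := Nat.eq_of_mul_eq_mul_right hpp.pos h1
    rw [h2]; exact hpD
  have hPSyl : IsSylowIn p P Y := ⟨le_sup_right, hPp, hrel P le_sup_right hPc⟩
  have hPcomm : ∀ a ∈ P, ∀ b ∈ P, a * b = b * a := by
    haveI : Fact (Nat.card P).Prime := by rw [hPc]; exact hp
    haveI : IsCyclic ↥P := isCyclic_of_prime_card (p := Nat.card P) rfl
    intro a ha b hb
    have := (IsCyclic.isMulCommutative (α := ↥P)).is_comm.comm ⟨a, ha⟩ ⟨b, hb⟩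
    exact congrArg Subtype.val this
  intro e he
  have hcjY : BG10.cj e P ≤ Y := by
    intro x hx
    rw [BG10.mem_cj] at hx
    have h1 : x = (e * (e⁻¹ * x * e) * e⁻¹ * (e⁻¹ * x * e)⁻¹) * (e⁻¹ * x * e) := by group
    rw [h1]
    refine Y.mul_mem (le_sup_left (a := D) ?_) (le_sup_right (b := P) hx)
    have h2 : e * (e⁻¹ * x * e) * e⁻¹ * (e⁻¹ * x * e)⁻¹ = ⁅e, e⁻¹ * x * e⁆ := by
      rw [commutatorElement_def]
    rw [h2]
    exact Subgroup.commutator_mem_commutator he (hPE hx)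
  have hcjSyl : IsSylowIn p (BG10.cj e P) Y :=
    ⟨hcjY, BG10.isPGroup_cj hPp, hrel _ hcjY (by rw [BG10.card_cj, hPc])⟩
  obtain ⟨y, hyY, hy⟩ := hPSyl.exists_cj_eq hcjSyl
  rw [← BG10.cj_mul] at hy
  have hnN : y * e ∈ Subgroup.normalizer (P : Set G) := mem_normalizer_of_cj_eq hy
  obtain ⟨d, hd, x, hx, rfl⟩ := (Cfsg.Agent.Helper23.mem_sup_iff_of_le_normalizer hPD).1 hyY
  have hnE : d * x * e ∈ Es := Es.mul_mem (Es.mul_mem (hDE hd) (hPE hx)) he
  have hnC : d * x * e ∈ Subgroup.centralizer (P : Set G) := by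
    rw [Subgroup.mem_centralizer_iff]
    intro z hz
    have h1 : (d * x * e) * z * (d * x * e)⁻¹ ∈ P := (Subgroup.mem_normalizer_iff.1 hnN z).1 hz
    have h2 : (d * x * e) * z * (d * x * e)⁻¹ * z⁻¹ ∈ D ⊓ P := by
      refine Subgroup.mem_inf.2 ⟨?_, P.mul_mem h1 (P.inv_mem hz)⟩
      have h3 : (d * x * e) * z * (d * x * e)⁻¹ * z⁻¹ = ⁅d * x * e, z⁆ := by
        rw [commutatorElement_def]
      rw [h3]
      exact Subgroup.commutator_mem_commutator hnE (hPE hz)
    rw [hdisj, Subgroup.mem_bot] at h2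
    have h4 : (d * x * e) * z = ((d * x * e) * z * (d * x * e)⁻¹ * z⁻¹) * (z * (d * x * e)) := by
      group
    rw [h4, h2, one_mul]
  refine ⟨x⁻¹ * d⁻¹ * x, ?_, x⁻¹ * (d * x * e), ?_, by group⟩
  · have h1 := (Subgroup.mem_normalizer_iff.1 (hPD (P.inv_mem hx)) d⁻¹).1 (D.inv_mem hd)
    rwa [inv_inv] at h1
  · refine Subgroup.mem_inf.2 ⟨Es.mul_mem (Es.inv_mem (hPE hx)) hnE, ?_⟩
    apply Subgroup.mul_mem _ _ hnC
    rw [Subgroup.mem_centralizer_iff]
    intro z hz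
    exact hPcomm z hz x⁻¹ (P.inv_mem hx)

end Cfsg.Agent.Helper23.BG14
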