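import Mathlib
import Cfsg.Agent.Helper23.BG14B
import Cfsg.Agent.Helper71.BGHall
import Cfsg.Agent.Helper1.CoprimeSylow
import Cfsg.Agent.Helper1.CoprimeAction
import Cfsg.Agent.Helper48.CoprimeGen
import Cfsg.Agent.S0026
import Cfsg.Agent.S1403
import Cfsg.Agent.S1414
import Cfsg.Agent.S1417
import Cfsg.Agent.S1418
import Cfsg.Agent.S1426
import Cfsg.Agent.S1427
import Cfsg.Agent.S1428

/-!
# B-G 14.2, Lemma T of helper70's reduction (board #3506) (helper23)

* `isComplIn_cj_of_mem`, `exists_normal_qcompl_card`, `commutator_sylow_eq`: auxiliary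
* `exists_compl_normalizing`: a complement `Es ≥ P` of `M_σ` in `M` normalizing a given
  `P`-invariant Sylow `q`-subgroup `Qs` of `M_σ`
* `lemma_T`: the transfer trick `C_Qs(P) ≤ Q0`.
-/

set_option autoImplicit false
set_option linter.unusedVariables false
set_option linter.unusedSectionVars false
set_option linter.style.haveILetI false

namespace Cfsg.Agent.Helper23.BG14

open Cfsg Cfsg.Agent.Helper29 Cfsg.Agent.Helper29.BG10 Cfsg.Agent.Helper29.BG11
open Cfsg.Agent.Helper23.BG13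
open scoped commutatorElement

variable {G : Type*} [Group G] [Finite G]

omit [Finite G] in
/-- conjugating a complement of a normal subgroup by an element of the ambient group -/
theorem isComplIn_cj_of_mem {A B M : Subgroup G} (h : Cfsg.IsComplIn A B M) {c : G} (hc : c ∈ M)
    (hMB : M ≤ Subgroup.normalizer (B : Set G)) : Cfsg.IsComplIn (BG10.cj c A) B M := by
  have hcB : BG10.cj c B = B := cj_eq_of_mem_normalizer (hMB hc)
  have hcM : BG10.cj c M = M := BG10.cj_eq_self_of_mem hc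
  refine ⟨?_, h.2.1, ?_, ?_⟩
  · have := BG10.cj_mono (g := c) h.1
    rwa [hcM] at this
  · rw [← hcB, ← BG11.cj_inf, h.2.2.1, BG11.cj_bot]
  · intro m hm
    have hm' : c⁻¹ * m * c ∈ M := M.mul_mem (M.mul_mem (M.inv_mem hc) hm) hc
    obtain ⟨a, ha, b, hb, hab⟩ := h.2.2.2 _ hm'
    refine ⟨c * a * c⁻¹, BG10.conj_mem_cj ha, c * b * c⁻¹, ?_, ?_⟩
    · exact (Subgroup.mem_normalizer_iff.1 (hMB hc) b).1 hb
    · calc m = c * (c⁻¹ * m * c) * c⁻¹ := by group
        _ = c * (a * b) * c⁻¹ := by rw [hab]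
        _ = c * a * c⁻¹ * (c * b * c⁻¹) := by group

/-- the normal `q`-complement of `K`, with its order -/
theorem exists_normal_qcompl_card {q : ℕ} [Fact q.Prime] {H K : Subgroup G}
    (hHK : H ≤ Subgroup.normalizer (K : Set G))
    (h : Cfsg.HasNormalPComplement q ↥K) :
    ∃ N : Subgroup G, N ≤ K ∧ H ≤ Subgroup.normalizer (N : Set G) ∧ ¬ q ∣ Nat.card N ∧
      (∀ P : Subgroup G, P ≤ K → (Nat.card P).Coprime q → P ≤ N) ∧
      ∃ k : ℕ, Nat.card N * q ^ k = Nat.card K := by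
  have hq : q.Prime := Fact.out
  obtain ⟨N, hNK, hHN, hqN, hall⟩ := exists_normal_qcompl hHK h
  refine ⟨N, hNK, hHN, hqN, hall, ?_⟩
  obtain ⟨P, N₀, hN₀, hc⟩ := h
  have hcard : Nat.card N₀ * Nat.card (P : Subgroup ↥K) = Nat.card ↥K := hc.card_mul_card
  obtain ⟨k, hk⟩ := IsPGroup.iff_card.1 P.isPGroup'
  rw [hk] at hcard
  refine ⟨k, ?_⟩
  have hNq : ¬ q ∣ Nat.card N₀ := by
    intro hd
    have h1 : (P : Subgroup ↥K).index = Nat.card N₀ := by
      have h2 := Subgroup.card_mul_index (P : Subgroup ↥K)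
      rw [← hcard, hk, mul_comm (Nat.card N₀)] at h2
      exact Nat.eq_of_mul_eq_mul_left (pow_pos hq.pos k) h2
    exact P.not_dvd_index (h1 ▸ hd)
  set N' : Subgroup G := N₀.map K.subtype with hN'
  have hN'c : Nat.card N' = Nat.card N₀ := Subgroup.card_map_of_injective K.subtype_injective
  have hN'N : N' ≤ N := by
    apply hall N' (Subgroup.map_subtype_le _)
    rw [hN'c]
    exact (Nat.Prime.coprime_iff_not_dvd hq).2 hNq |>.symm
  have h1 : Nat.card N ∣ Nat.card N₀ * q ^ k := by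
    rw [hcard]; exact Subgroup.card_dvd_of_le hNK
  have h2 : (Nat.card N).Coprime (q ^ k) :=
    Nat.Coprime.pow_right k ((Nat.Prime.coprime_iff_not_dvd hq).2 hqN).symm
  have h3 : Nat.card N ∣ Nat.card N₀ := h2.dvd_of_dvd_mul_right h1
  have h4 : Nat.card N₀ ∣ Nat.card N := by
    rw [← hN'c]; exact Subgroup.card_dvd_of_le hN'N
  rw [Nat.dvd_antisymm h3 h4]
  exact hcard

omit [Finite G] in
/-- if `K = O Qs` with `O` normal and `[K,Es] = K` then `[Qs,Es] = Qs` -/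
theorem commutator_sylow_eq {K O Qs Es : Subgroup G} (hOK : O ≤ K) (hQK : Qs ≤ K)
    (hKO : K ≤ Subgroup.normalizer (O : Set G)) (hEsO : Es ≤ Subgroup.normalizer (O : Set G))
    (hEsQ : Es ≤ Subgroup.normalizer (Qs : Set G)) (hdisj : O ⊓ Qs = ⊥) (hsup : K ≤ O ⊔ Qs)
    (hKE : ⁅K, Es⁆ = K) : ⁅Qs, Es⁆ = Qs := by
  have hCQ : ⁅Qs, Es⁆ ≤ Qs := Subgroup.le_normalizer_iff_commutator_le_left.mp hEsQ
  refine le_antisymm hCQ ?_
  set C : Subgroup G := ⁅Qs, Es⁆ with hC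
  have hQsO : Qs ≤ Subgroup.normalizer (O : Set G) := hQK.trans hKO
  have hCO : C ≤ Subgroup.normalizer (O : Set G) := hCQ.trans hQsO
  have hmemL : ∀ x : G, x ∈ O ⊔ C ↔ ∃ o ∈ O, ∃ c ∈ C, x = o * c :=
    fun x => Cfsg.Agent.Helper23.mem_sup_iff_of_le_normalizer hCO
  have hKL : ⁅K, Es⁆ ≤ O ⊔ C := by
    rw [Subgroup.commutator_le]
    intro m hm e he
    obtain ⟨o, ho, s, hs, rfl⟩ := (Cfsg.Agent.Helper23.mem_sup_iff_of_le_normalizer hQsO).1 (hsup hm)
    have h1 : ⁅o * s, e⁆ = o * (⁅s, e⁆ * (e * o⁻¹ * e⁻¹)) := by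
      simp only [commutatorElement_def]; group
    rw [h1]
    refine (O ⊔ C).mul_mem (le_sup_left (a := O) ho) ((O ⊔ C).mul_mem (le_sup_right (b := C) ?_)
      (le_sup_left (a := O) ?_))
    · exact Subgroup.commutator_mem_commutator hs he
    · exact (Subgroup.mem_normalizer_iff.1 (hEsO he) o⁻¹).1 (O.inv_mem ho)
  rw [hKE] at hKL
  intro x hx
  obtain ⟨o, ho, c, hc, hxoc⟩ := (hmemL x).1 (hKL (hQK hx))
  have ho' : o ∈ O ⊓ Qs := by
    refine Subgroup.mem_inf.2 ⟨ho, ?_⟩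
    have : o = x * c⁻¹ := by rw [hxoc]; group
    rw [this]
    exact Qs.mul_mem hx (Qs.inv_mem (hCQ hc))
  rw [hdisj, Subgroup.mem_bot] at ho'
  rw [hxoc, ho', one_mul]
  exact hc

/-- a complement `Es ≥ P` of `M_σ` in `M` normalizing the `P`-invariant Sylow `q`-subgroup `Qs`
of `M_σ` -/
theorem exists_compl_normalizing (hG : Cfsg.IsMinSimpleOddOrder G) (hU : UniquenessThm G)
    {M : Subgroup G} (hM : IsCoatom M) {P : Subgroup G} (hPM : P ≤ M)
    (hPσ : ∀ r : ℕ, r.Prime → r ∣ Nat.card P → r ∉ Cfsg.sigma M) {q : ℕ} [Fact q.Prime]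
    {Qs : Subgroup G} (hQs : IsSylowIn q Qs (Cfsg.sigmaCore M))
    (hPQs : P ≤ Subgroup.normalizer (Qs : Set G)) :
    ∃ Es : Subgroup G, Cfsg.IsComplIn Es (Cfsg.sigmaCore M) M ∧ P ≤ Es ∧
      Es ≤ Subgroup.normalizer (Qs : Set G) := by
  obtain ⟨E₁, hE₁, hPE₁⟩ :=
    Cfsg.Agent.Helper71.BGHall.exists_isComplIn_sigmaCore_ge hG hU hM hPM hPσ
  have hctx := Cfsg.Agent.Helper68.BG12.eCtx_of hG hU hM hE₁
  have hMN := BG11.le_normalizer_sigmaCore M
  have hE₁N : E₁ ≤ Subgroup.normalizer ((Cfsg.sigmaCore M : Subgroup G) : Set G) :=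
    hctx.le.trans hMN
  have hcop : (Nat.card E₁).Coprime (Nat.card (Cfsg.sigmaCore M)) :=
    Nat.coprime_of_dvd fun k hk hkm hkn =>
      hctx.not_sigma_of_dvd k hk hkm (hctx.sigma_of_dvd k hk hkn)
  haveI := hctx.solvable
  obtain ⟨Q₁, hQ₁⟩ := Cfsg.Agent.Helper1.exists_invariant_sylow E₁ (Cfsg.sigmaCore M) hE₁N hcop
    (Or.inl hctx.solvable) q
  obtain ⟨Q₂, hQ₂⟩ := BG11.IsSylowIn.exists_sylow hQs
  have hcopP : (Nat.card P).Coprime (Nat.card (Cfsg.sigmaCore M)) :=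
    Nat.Coprime.coprime_dvd_left (Subgroup.card_dvd_of_le hPE₁) hcop
  have hPsolv : Group.IsSolvable ↥P :=
    Group.isSolvable_of_isSolvable_injective (Subgroup.inclusion_injective hPE₁)
  obtain ⟨c, hc, hconj⟩ := Cfsg.Agent.Helper1.invariant_sylow_conj P (Cfsg.sigmaCore M)
    (hPE₁.trans hE₁N) hcopP (Or.inl hPsolv) q Q₁ Q₂ (hPE₁.trans hQ₁) (by rw [hQ₂]; exact hPQs)
  have hconj' : BG10.cj c ((Q₁ : Subgroup ↥(Cfsg.sigmaCore M)).map (Cfsg.sigmaCore M).subtype)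
      = Qs := by
    rw [← hQ₂, ← hconj]; rfl
  have hcM : c ∈ M := hE₁.2.1 (Subgroup.mem_inf.1 hc).1
  refine ⟨BG10.cj c E₁, isComplIn_cj_of_mem hE₁ hcM hMN, ?_, ?_⟩
  · have h1 : BG10.cj c P = P := BG10.cj_eq_self_of_mem_centralizer (Subgroup.mem_inf.1 hc).2
    rw [← h1]
    exact BG10.cj_mono hPE₁
  · rw [← hconj', BG10.normalizer_cj]
    exact BG10.cj_mono hQ₁

/-- **Lemma T** (helper70, board #3506): the transfer trick. `p ∈ τ₁(M)`, `P ≤ M` of order `p`,
`q ∈ σ(M) ∖ β(M)`, `Qs` a `P`-invariant Sylow `q`-subgroup of `M_σ`, `Q0 ≤ Qs` normalized by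
`N_M(Qs)` with `Qs/Q0` elementary abelian of order at most `q²`.  Then `C_Qs(P) ≤ Q0`. -/
theorem lemma_T (hG : Cfsg.IsMinSimpleOddOrder G) {M : Subgroup G} (hM : IsCoatom M)
    {p : ℕ} [hpf : Fact p.Prime] (hp : p ∈ Cfsg.tau1 M) {P : Subgroup G} (hPM : P ≤ M)
    (hPc : Nat.card P = p) {q : ℕ} [hqf : Fact q.Prime] (hq : q ∈ Cfsg.sigma M)
    (hqβ : q ∉ Cfsg.beta M) {Qs : Subgroup G} (hQs : IsSylowIn q Qs (Cfsg.sigmaCore M))
    (hPQs : P ≤ Subgroup.normalizer (Qs : Set G)) {Q0 : Subgroup G} (hQ0 : Q0 ≤ Qs)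
    (hNQ0 : M ⊓ Subgroup.normalizer (Qs : Set G) ≤ Subgroup.normalizer (Q0 : Set G))
    (hexp : ∀ x ∈ Qs, x ^ q ∈ Q0) (hab : ⁅Qs, Qs⁆ ≤ Q0)
    (hcard : Nat.card Qs ≤ q ^ 2 * Nat.card Q0) :
    Qs ⊓ Subgroup.centralizer (P : Set G) ≤ Q0 := by
  classical
  have hU : UniquenessThm G := fun K hK hK2 hK3 => Cfsg.Agent.S1403.result hG K hK hK2 hK3
  have hpp : p.Prime := hpf.out
  have hqp : q.Prime := hqf.out
  have hp' := hp
  obtain ⟨-, hpσ, hpM, hpD, hpr1⟩ := hp'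
  have hq' := hq
  obtain ⟨-, hqM, -⟩ := hq'
  have hPσ : ∀ r : ℕ, r.Prime → r ∣ Nat.card P → r ∉ Cfsg.sigma M := by
    intro r hr hrd
    rw [hPc] at hrd
    rw [(Nat.prime_dvd_prime_iff_eq hr hpp).1 hrd]; exact hpσ
  obtain ⟨Es, hEs, hPEs, hEsQs⟩ := exists_compl_normalizing hG hU hM hPM hPσ hQs hPQs
  have hctx := Cfsg.Agent.Helper68.BG12.eCtx_of hG hU hM hEs
  have hEsM : Es ≤ M := hctx.le
  have hEsQ0 : Es ≤ Subgroup.normalizer (Q0 : Set G) :=
    fun e he => hNQ0 (Subgroup.mem_inf.2 ⟨hEsM he, hEsQs he⟩)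
  have hQsM : Qs ≤ M := hQs.1.trans hEs.2.1
  have hQsQ0 : Qs ≤ Subgroup.normalizer (Q0 : Set G) :=
    fun x hx => hNQ0 (Subgroup.mem_inf.2 ⟨hQsM hx, Subgroup.le_normalizer hx⟩)
  have hoddM : Odd (Nat.card M) := hctx.odd_card_M
  have hq2 : q ≠ 2 := by
    rintro rfl
    exact (Nat.not_even_iff_odd.2 hoddM) (even_iff_two_dvd.2 hqM)
  have hcopq : (Nat.card Es).Coprime q := by
    rw [Nat.coprime_comm]
    exact (Nat.Prime.coprime_iff_not_dvd hqp).2 (fun hd => hctx.not_sigma_of_dvd q hqp hd hq)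
  haveI hEsolv : Group.IsSolvable ↥Es := hctx.solvable
  obtain ⟨F1, F2⟩ := section_action hq2 hQ0 hQs.2.1 hQsQ0 hEsQ0 hEsQs hexp hab hcard hEsolv
    hctx.odd_card hcopq
  have hMN := BG11.le_normalizer_sigmaCore M
  -- `[Qs, Es] = Qs`
  have hg2 : ⁅Qs, Es⁆ = Qs := by
    have h1426 := (Cfsg.Agent.S1426.result hG M hM Es hEs).2.1
    have hnpc : Cfsg.HasNormalPComplement q ↥(Cfsg.sigmaCore M) :=
      ((Cfsg.Agent.S1414.result hG M hM).2.2.2.2 q hqp hqM hqβ).2.1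
    obtain ⟨O, hOK, hMO, hqO, hall, k, hk⟩ := exists_normal_qcompl_card hMN hnpc
    obtain ⟨j, hj⟩ := IsPGroup.iff_card.1 hQs.2.1
    have hcopO : (Nat.card O).Coprime q := by
      rw [Nat.coprime_comm]; exact (Nat.Prime.coprime_iff_not_dvd hqp).2 hqO
    have hdisj : O ⊓ Qs = ⊥ := by
      apply Subgroup.inf_eq_bot_of_coprime
      rw [hj]; exact Nat.Coprime.pow_right j hcopO
    have hrel := Cfsg.Agent.Helper31.relIndex_mul_card' hQs.1
    rw [← hk, hj] at hrel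
    have hjk : q ^ j = q ^ k := by
      apply Nat.dvd_antisymm
      · have h1 : q ^ j ∣ Nat.card O * q ^ k := ⟨Qs.relIndex (Cfsg.sigmaCore M), by rw [← hrel, mul_comm]⟩
        exact (Nat.Coprime.pow_left j hcopO.symm).dvd_of_dvd_mul_left h1
      · have h1 : q ^ k ∣ Qs.relIndex (Cfsg.sigmaCore M) * q ^ j := ⟨Nat.card O, by rw [hrel, mul_comm]⟩
        have h2 : (q ^ k).Coprime (Qs.relIndex (Cfsg.sigmaCore M)) :=
          Nat.Coprime.pow_left k ((Nat.Prime.coprime_iff_not_dvd hqp).2 hQs.2.2)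
        exact h2.dvd_of_dvd_mul_left h1
    have hQsO : Qs ≤ Subgroup.normalizer (O : Set G) := hQsM.trans hMO
    have hcs := Cfsg.Agent.Helper23.card_sup_of_disjoint_of_le_normalizer hdisj hQsO
    have hsupeq : O ⊔ Qs = Cfsg.sigmaCore M := by
      apply Subgroup.eq_of_le_of_card_ge (sup_le hOK hQs.1)
      rw [hcs, hj, hjk, hk]
    exact commutator_sylow_eq hOK hQs.1 (hEs.2.1.trans hMO) (hEsM.trans hMO) hEsQs hdisj
      (le_of_eq hsupeq.symm) h1426
  set T : Subgroup G := Qs ⊓ Subgroup.centralizer (P : Set G) with hT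
  set F : Subgroup G := Es ⊓ Subgroup.centralizer (P : Set G) with hF
  have hTD : T ≤ Cfsg.sigmaCore M ⊓ Subgroup.centralizer (P : Set G) := inf_le_inf_right _ hQs.1
  have hTQs : T ≤ Qs := inf_le_left
  have hFEs : F ≤ Es := inf_le_left
  -- a nontrivial element `c` of prime order `r` of `F` centralizes `T`
  have hprime : ∀ (r : ℕ), r.Prime → ∀ c ∈ F, orderOf c = r → ∀ t ∈ T, c * t = t * c := by
    intro r hr c hcF hcr t ht
    have hRc : Nat.card (Subgroup.zpowers c) = r := by rw [Nat.card_zpowers, hcr]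
    have hRF : Subgroup.zpowers c ≤ Es ⊓ Subgroup.centralizer (P : Set G) :=
      (Subgroup.zpowers_le).2 hcF
    have h1428 := Cfsg.Agent.S1428.result hG M hM Es hEs p hp P hPEs hPc (Subgroup.zpowers c) hRF
      (by rw [hRc]; exact hr)
    have htR := (Subgroup.mem_inf.1 (h1428 (hTD ht))).2
    exact (Subgroup.mem_centralizer_iff.1 htR) c (Subgroup.mem_zpowers c)
  -- Step A
  have stepA : ∀ (r : ℕ) [Fact r.Prime], ∀ x ∈ F, (∃ k : ℕ, x ^ r ^ k = 1) →
      ∀ t ∈ T, x * t * x⁻¹ * t⁻¹ ∈ Q0 := by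
    intro r hrf x hxF hxk t ht
    have hr : r.Prime := hrf.out
    obtain ⟨k₀, hk₀⟩ := hxk
    obtain ⟨k, -, hk⟩ := (Nat.dvd_prime_pow hr).1 (orderOf_dvd_of_pow_eq_one hk₀)
    by_cases hx1 : x = 1
    · subst hx1
      simp only [one_mul, inv_one, mul_one, mul_inv_cancel]
      exact Q0.one_mem
    have hk0 : k ≠ 0 := by
      rintro rfl
      rw [pow_zero] at hk
      exact hx1 (orderOf_eq_one_iff.1 hk)
    set y : G := x ^ r ^ (k - 1) with hy
    have hyo : orderOf y = r := by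
      rw [hy, orderOf_pow_of_dvd (pow_ne_zero _ hr.ne_zero) (by rw [hk]; exact pow_dvd_pow r (Nat.sub_le k 1)),
        hk, Nat.pow_div (Nat.sub_le k 1) hr.pos]
      have : k - (k - 1) = 1 := by omega
      rw [this, pow_one]
    have hyF : y ∈ F := F.pow_mem hxF _
    have hty : y * t = t * y := hprime r hr y hyF hyo t ht
    have hxEs : x ∈ Es := hFEs hxF
    by_cases hr1 : Cfsg.PRankLE r 1 ↥M
    · -- cyclic Sylow `r`-subgroup of `Es`
      have hxp : IsPGroup r ↥(Subgroup.zpowers (⟨x, hxEs⟩ : ↥Es)) := by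
        apply IsPGroup.of_card (n := k)
        rw [Nat.card_zpowers, Subgroup.orderOf_mk, hk]
      obtain ⟨S, hS⟩ := hxp.exists_le_sylow
      have hxS : (⟨x, hxEs⟩ : ↥Es) ∈ (S : Subgroup ↥Es) := hS (Subgroup.mem_zpowers _)
      set S' : Subgroup G := (S : Subgroup ↥Es).map Es.subtype with hS'
      have hS'Es : S' ≤ Es := Subgroup.map_subtype_le _
      have hS'p : IsPGroup r ↥S' := S.isPGroup'.map _
      have hS'c : IsCyclic ↥S' :=
        isCyclic_of_isPGroup_of_pRankLE_one hG.1 hS'p (pRankLE_mono (hS'Es.trans hEsM) hr1)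
      have hSc : IsCyclic ↥(S : Subgroup ↥Es) := by
        haveI := hS'c
        exact isCyclic_of_surjective
          ((S : Subgroup ↥Es).equivMapOfInjective Es.subtype Es.subtype_injective).symm.toMonoidHom
          ((S : Subgroup ↥Es).equivMapOfInjective Es.subtype Es.subtype_injective).symm.surjective
      have hS1 : (S : Subgroup ↥Es) ≠ ⊥ := by
        intro hb
        rw [hb, Subgroup.mem_bot] at hxS
        exact hx1 (congrArg Subtype.val hxS)
      have h1427 := Cfsg.Agent.S1427.result hG M hM Es hEs r S hS1 hSc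
      have hxS' : x ∈ S' := ⟨⟨x, hxEs⟩, hxS, rfl⟩
      have hyS' : y ∈ S' := S'.pow_mem hxS' _
      have hy1 : y ≠ 1 := by
        intro h
        rw [h, orderOf_one] at hyo
        exact hr.one_lt.ne hyo
      have h1 := h1427 x hxS' hx1
      have h2 := h1427 y hyS' hy1
      have htM : t ∈ Cfsg.sigmaCore M := hQs.1 (hTQs ht)
      have hty' : t ∈ Cfsg.sigmaCore M ⊓ Subgroup.centralizer ({y} : Set G) := by
        refine Subgroup.mem_inf.2 ⟨htM, ?_⟩
        rw [Subgroup.mem_centralizer_iff]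
        intro h hh
        rw [Set.mem_singleton_iff.1 hh]
        exact hty
      rw [h2, ← h1] at hty'
      have hxt : x * t = t * x :=
        (Subgroup.mem_centralizer_iff.1 (Subgroup.mem_inf.1 hty').2) x (Set.mem_singleton x)
      have : x * t * x⁻¹ * t⁻¹ = 1 := by rw [hxt]; group
      rw [this]
      exact Q0.one_mem
    · -- `r ∈ τ₂(M)`
      have hrEs : r ∣ Nat.card Es := by
        have h1 : orderOf x ∣ Nat.card Es := by
          have := orderOf_dvd_natCard (⟨x, hxEs⟩ : ↥Es)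
          rwa [Subgroup.orderOf_mk] at this
        rw [hk] at h1
        exact (dvd_pow_self r hk0).trans h1
      have hrσ : r ∉ Cfsg.sigma M := hctx.not_sigma_of_dvd r hr hrEs
      have hr2 : Cfsg.PRankLE r 2 ↥M := by
        by_contra h
        exact hrσ (hctx.alpha_sub ⟨hr, h⟩)
      have hτ2 : r ∈ Cfsg.tau2 M := ⟨hr, hrσ, hr2, hr1⟩
      obtain ⟨A, hAEs, hAe, hAc⟩ :=
        Cfsg.Agent.Helper71.BGHall.exists_elementaryAbelian_sq_le_compl hctx hrσ hr2 hr1
      have h1418 := (Cfsg.Agent.S1418.result hG M hM Es hEs r hτ2 A ⟨hAEs, hAe, hAc⟩).1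
      have h1417 := (Cfsg.Agent.S1417.result hG M hM r hτ2 A
        ⟨hAEs.trans hEsM, hAe, hAc⟩).2.2.2.1
      have hrq : r ≠ q := by
        rintro rfl
        exact hrσ hq
      have hrp : r ≠ p := by
        rintro rfl
        exact hr1 hpr1
      have hPA : P ≤ Subgroup.normalizer (A : Set G) := hPEs.trans h1418.1
      have hcopPA : (Nat.card P).Coprime (Nat.card A) := by
        rw [hPc, hAc]
        exact Nat.Coprime.pow_right 2 ((Nat.coprime_primes hpp hr).2 (Ne.symm hrp))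
      have hPsolv : Group.IsSolvable ↥P :=
        Group.isSolvable_of_isSolvable_injective (Subgroup.inclusion_injective hPEs)
      have h26 := Cfsg.Agent.S0026.result P A hPA hcopPA (Or.inl hPsolv)
      have hAcomm : ∀ a ∈ A, ∀ b ∈ A, a * b = b * a := by
        intro a ha b hb
        haveI := hAe.1
        have := (inferInstance : IsMulCommutative ↥A).is_comm.comm ⟨a, ha⟩ ⟨b, hb⟩
        exact congrArg Subtype.val this
      have hXN : A ⊓ Subgroup.centralizer (P : Set G) ≤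
          Subgroup.normalizer ((⁅A, P⁆ : Subgroup G) : Set G) :=
        le_normalizer_commutator (inf_le_left.trans Subgroup.le_normalizer)
          (inf_le_right.trans (Subgroup.centralizer_le_normalizer _))
      have hDE : ⁅Es, Es⁆ ≤ Es := by
        rw [Subgroup.commutator_le]
        intro s hs t ht
        exact Es.mul_mem (Es.mul_mem (Es.mul_mem hs ht) (Es.inv_mem hs)) (Es.inv_mem ht)
      have hAT : ∀ a ∈ A, ∀ t' ∈ T, a * t' * a⁻¹ * t'⁻¹ ∈ Q0 := by
        intro a ha t' ht'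
        have ha' : a ∈ ⁅A, P⁆ ⊔ (A ⊓ Subgroup.centralizer (P : Set G)) := by rw [h26]; exact ha
        obtain ⟨d, hd, c, hc, rfl⟩ :=
          (Cfsg.Agent.Helper23.mem_sup_iff_of_le_normalizer hXN).1 ha'
        have hdD : d ∈ ⁅Es, Es⁆ := Subgroup.commutator_mono hAEs hPEs hd
        have hct : c * t' = t' * c := by
          by_cases hc1 : c = 1
          · rw [hc1, one_mul, mul_one]
          · have hcA : c ∈ A := (Subgroup.mem_inf.1 hc).1
            have hco : orderOf c = r := by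
              have h1 : orderOf c ∣ r := orderOf_dvd_of_pow_eq_one (hAe.2 c hcA)
              rcases (Nat.dvd_prime hr).1 h1 with h | h
              · exact absurd (orderOf_eq_one_iff.1 h) hc1
              · exact h
            exact hprime r hr c (Subgroup.mem_inf.2 ⟨hAEs hcA, (Subgroup.mem_inf.1 hc).2⟩) hco t' ht'
        have h1 : d * c * t' * (d * c)⁻¹ * t'⁻¹ = d * t' * d⁻¹ * t'⁻¹ := by
          have : d * c * t' * (d * c)⁻¹ * t'⁻¹ = d * (c * t') * c⁻¹ * d⁻¹ * t'⁻¹ := by group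
          rw [this, hct]; group
        rw [h1]
        exact F1 d hdD t' (hTQs ht')
      have hAsolv : Group.IsSolvable ↥A :=
        Group.isSolvable_of_isSolvable_injective (Subgroup.inclusion_injective hAEs)
      obtain ⟨j, hj⟩ := IsPGroup.iff_card.1 (hQs.2.1.to_le hQ0)
      have hcopAQ0 : (Nat.card A).Coprime (Nat.card Q0) := by
        rw [hAc, hj]
        exact Nat.Coprime.pow _ _ ((Nat.coprime_primes hr hqp).2 hrq)
      have htQ0 : t ∈ Q0 := by
        obtain ⟨d, hd, hdt⟩ := Cfsg.Agent.Helper1.exists_mem_coset_centralizer A Q0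
          (hAEs.trans hEsQ0) hcopAQ0 (Or.inl hAsolv) t
          (fun a ha => ⟨a * t * a⁻¹ * t⁻¹, hAT a ha t ht, by group⟩)
        have h1 : d * t ∈ Cfsg.sigmaCore M ⊓ Subgroup.centralizer (A : Set G) :=
          Subgroup.mem_inf.2 ⟨hQs.1 (Qs.mul_mem (hQ0 hd) (hTQs ht)), hdt⟩
        rw [h1417, Subgroup.mem_bot] at h1
        have h2 : t = d⁻¹ := eq_inv_of_mul_eq_one_right h1
        rw [h2]
        exact Q0.inv_mem hd
      exact Q0.mul_mem ((Subgroup.mem_normalizer_iff.1 (hEsQ0 hxEs) t).1 htQ0) (Q0.inv_mem htQ0)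
  -- Step B: `F` acts trivially on `T` modulo `Q0`
  let K₀ : Subgroup G :=
    { carrier := {c | c ∈ F ∧ ∀ t ∈ T, c * t * c⁻¹ * t⁻¹ ∈ Q0}
      one_mem' := ⟨F.one_mem, fun t ht => by
        simp only [one_mul, inv_one, mul_one, mul_inv_cancel]; exact Q0.one_mem⟩
      mul_mem' := by
        rintro a b ⟨haF, ha⟩ ⟨hbF, hb⟩
        refine ⟨F.mul_mem haF hbF, fun t ht => ?_⟩
        have h1 : a * b * t * (a * b)⁻¹ * t⁻¹ =
            a * (b * t * b⁻¹ * t⁻¹) * a⁻¹ * (a * t * a⁻¹ * t⁻¹) := by group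
        rw [h1]
        exact Q0.mul_mem ((Subgroup.mem_normalizer_iff.1 (hEsQ0 (hFEs haF)) _).1 (hb t ht))
          (ha t ht)
      inv_mem' := by
        rintro a ⟨haF, ha⟩
        refine ⟨F.inv_mem haF, fun t ht => ?_⟩
        have h1 : a⁻¹ * t * a⁻¹⁻¹ * t⁻¹ = a⁻¹ * (a * t * a⁻¹ * t⁻¹)⁻¹ * a⁻¹⁻¹ := by group
        rw [h1]
        exact (Subgroup.mem_normalizer_iff.1 (hEsQ0 (Es.inv_mem (hFEs haF))) _).1
          (Q0.inv_mem (ha t ht)) }
  have hK₀F : K₀ ≤ F := fun c hc => hc.1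
  have hFK : F ≤ K₀ := by
    apply Cfsg.Agent.Helper48.le_of_forall_sylow_le hK₀F
    intro r hrf
    obtain ⟨S⟩ : Nonempty (Sylow r ↥F) := inferInstance
    refine ⟨S, ?_⟩
    rintro z ⟨s, hs, rfl⟩
    refine ⟨s.2, ?_⟩
    obtain ⟨k, hk⟩ := S.isPGroup' ⟨s, hs⟩
    have hk' : (s : G) ^ r ^ k = 1 := by
      have := congrArg (fun u : ↥(S : Subgroup ↥F) => ((u : ↥F) : G)) hk
      simpa using this
    exact stepA r (s : G) s.2 ⟨k, hk'⟩
  -- conclusion
  have hpD' : ¬ p ∣ Nat.card ↥⁅Es, Es⁆ := fun hd =>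
    hpD (hd.trans (Subgroup.card_dvd_of_le (Subgroup.commutator_mono hEsM hEsM)))
  have hDE : ⁅Es, Es⁆ ≤ Es := by
    rw [Subgroup.commutator_le]
    intro s hs t ht
    exact Es.mul_mem (Es.mul_mem (Es.mul_mem hs ht) (Es.inv_mem hs)) (Es.inv_mem ht)
  intro t ht
  apply F2 hg2 t (hTQs ht)
  intro e he
  obtain ⟨d, hd, c, hc, rfl⟩ := exists_mul_commutator_centralizer hPEs hPc hpD' e he
  have h1 : d * c * t * (d * c)⁻¹ * t⁻¹ =
      d * (c * t * c⁻¹ * t⁻¹) * d⁻¹ * (d * t * d⁻¹ * t⁻¹) := by group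
  rw [h1]
  refine Q0.mul_mem ?_ (F1 d hd t (hTQs ht))
  exact (Subgroup.mem_normalizer_iff.1 (hEsQ0 (hDE hd)) _).1 ((hFK hc).2 t ht)

end Cfsg.Agent.Helper23.BG14
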