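import Mathlib
import Cfsg.Agent.Helper23.BG14C
import Cfsg.Agent.Helper10.Card

/-!
# Pure group theory for STEP I of helper70's reduction of B-G 14.2 (board #3506) (helper23)

* `center_of_card_cube'`: nonabelian groups of order `p³`
* `central_product_facts`: the group `P₁ ∘ P₂` of S1412 modulo its centre
* `powHom`, `powHom_range_le`, ...: the `q`-th power map of an abelian `q`-group
* `abelian_fixed_points_trivial`
-/

set_option autoImplicit false
set_option linter.unusedVariables false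
set_option linter.unusedSectionVars false
set_option linter.style.haveILetI false

namespace Cfsg.Agent.Helper23.BG14

open Cfsg Cfsg.Agent.Helper29 Cfsg.Agent.Helper29.BG10 Cfsg.Agent.Helper29.BG11
open Cfsg.Agent.Helper23.BG13
open scoped commutatorElement

variable {G : Type*} [Group G]

/-- In a noncommutative group of order `p ^ 3` the centre has order `p` and contains the
commutators. (copy of `Helper87.center_of_card_cube`, to keep the import graph small) -/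
theorem center_of_card_cube' {P : Type*} [Group P] {p : ℕ} [Fact p.Prime]
    (hcard : Nat.card P = p ^ 3) (hnab : ¬ ∀ a b : P, a * b = b * a) :
    Nat.card (Subgroup.center P) = p ∧ ∀ a b : P, ⁅a, b⁆ ∈ Subgroup.center P := by
  have hp : p.Prime := Fact.out
  have : Finite P := Nat.finite_of_card_ne_zero (by rw [hcard]; exact pow_ne_zero _ hp.ne_zero)
  obtain ⟨k, hk0, hk⟩ := IsPGroup.card_center_eq_prime_pow hcard (by norm_num)
  have hZdvd : Nat.card (Subgroup.center P) ∣ p ^ 3 := hcard ▸ Subgroup.card_subgroup_dvd_card _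
  have hk3 : k ≤ 3 := by
    rw [hk] at hZdvd
    exact (Nat.pow_dvd_pow_iff_le_right hp.one_lt).1 hZdvd
  have hk1 : k = 1 := by
    have h3 : k ≠ 3 := by
      rintro rfl
      have htop : Subgroup.center P = ⊤ := by
        rw [← Subgroup.card_eq_iff_eq_top, hk, hcard]
      apply hnab
      intro a b
      have : b ∈ Subgroup.center P := htop ▸ Subgroup.mem_top b
      exact (Subgroup.mem_center_iff.1 this) a
    have h2 : k ≠ 2 := by
      rintro rfl
      have hidx : (Subgroup.center P).index = p := by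
        have h := Subgroup.card_mul_index (Subgroup.center P)
        rw [hk, hcard] at h
        have : p ^ 2 * (Subgroup.center P).index = p ^ 2 * p := by rw [h]; ring
        exact Nat.eq_of_mul_eq_mul_left (pow_pos hp.pos 2) this
      have hcardQ : Nat.card (P ⧸ Subgroup.center P) = p := hidx
      have : IsCyclic (P ⧸ Subgroup.center P) := isCyclic_of_prime_card hcardQ
      apply hnab
      have hc := MonoidHom.isMulCommutative_of_isCyclic_of_ker_le_center
        (QuotientGroup.mk' (Subgroup.center P)) (by rw [QuotientGroup.ker_mk'])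
      exact hc.is_comm.comm
    omega
  subst hk1
  rw [pow_one] at hk
  have hidx : (Subgroup.center P).index = p ^ 2 := by
    have h := Subgroup.card_mul_index (Subgroup.center P)
    rw [hk, hcard] at h
    have : p * (Subgroup.center P).index = p * p ^ 2 := by rw [h]; ring
    exact Nat.eq_of_mul_eq_mul_left hp.pos this
  have hcardQ : Nat.card (P ⧸ Subgroup.center P) = p ^ 2 := hidx
  have hQc : IsMulCommutative (P ⧸ Subgroup.center P) :=
    IsPGroup.isMulCommutative_of_card_eq_prime_sq hcardQ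
  have hcomle : commutator P ≤ Subgroup.center P :=
    Subgroup.Normal.quotient_commutative_iff_commutator_le.1 hQc
  exact ⟨hk, fun a b => hcomle (Subgroup.commutator_mem_commutator (Subgroup.mem_top a) (Subgroup.mem_top b))⟩

theorem commutatorElement_mul_left_of_comm {a b y : G} (h : b * y = y * b) :
    ⁅a * b, y⁆ = ⁅a, y⁆ := by
  simp only [commutatorElement_def, mul_inv_rev]
  have h1 : a * b * y * (b⁻¹ * a⁻¹) * y⁻¹ = a * (b * y * b⁻¹) * a⁻¹ * y⁻¹ := by group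
  rw [h1, h]; group

theorem commutatorElement_mul_right_of_comm {a a' b' : G} (h : b' * a = a * b') :
    ⁅a, a' * b'⁆ = ⁅a, a'⁆ := by
  simp only [commutatorElement_def, mul_inv_rev]
  have h1 : a * (a' * b') * a⁻¹ * (b'⁻¹ * a'⁻¹) = a * a' * (b' * a⁻¹ * b'⁻¹) * a'⁻¹ := by group
  rw [h1]
  have h2 : b' * a⁻¹ * b'⁻¹ = a⁻¹ := by
    have h3 : b' * a⁻¹ = a⁻¹ * b' := by
      calc b' * a⁻¹ = a⁻¹ * (a * b') * a⁻¹ := by group
        _ = a⁻¹ * (b' * a) * a⁻¹ := by rw [h]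
        _ = a⁻¹ * b' := by group
    rw [h3]; group
  rw [h2]

/-- the central product `P₁ ∘ P₂` of S1412, modulo its centre -/
theorem central_product_facts [Finite G] {q : ℕ} [hq : Fact q.Prime] {Qs P₁ P₂ : Subgroup G}
    (hsup : P₁ ⊔ P₂ = Qs) (hcomm : ∀ a ∈ P₁, ∀ b ∈ P₂, a * b = b * a)
    (hna : ¬ IsMulCommutative P₁) (hc3 : Nat.card P₁ = q ^ 3)
    (hexp : Monoid.exponent P₁ = q) (hP₂ : IsCyclic P₂)
    (hΩ : Subgroup.closure {x : G | x ∈ P₂ ∧ x ^ q = 1} =
      P₁ ⊓ Subgroup.centralizer (P₁ : Set G)) :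
    (∀ x ∈ Qs, x ^ q ∈ Qs ⊓ Subgroup.centralizer (Qs : Set G)) ∧
    ⁅Qs, Qs⁆ ≤ Qs ⊓ Subgroup.centralizer (Qs : Set G) ∧
    Nat.card Qs ≤ q ^ 2 * Nat.card ↥(Qs ⊓ Subgroup.centralizer (Qs : Set G)) ∧
    ∀ X : Subgroup G, X ≤ Qs ⊓ Subgroup.centralizer (Qs : Set G) → Nat.card X = q →
      X ≤ ⁅Qs, Qs⁆ := by
  classical
  have hqp := hq.out
  set Z : Subgroup G := Qs ⊓ Subgroup.centralizer (Qs : Set G) with hZ
  set Z₁ : Subgroup G := P₁ ⊓ Subgroup.centralizer (P₁ : Set G) with hZ₁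
  have hP₁Q : P₁ ≤ Qs := hsup ▸ le_sup_left
  have hP₂Q : P₂ ≤ Qs := hsup ▸ le_sup_right
  have hP₂C : P₂ ≤ Subgroup.centralizer (P₁ : Set G) := fun b hb =>
    Subgroup.mem_centralizer_iff.2 (fun a ha => hcomm a ha b hb)
  have hP₂N : P₂ ≤ Subgroup.normalizer (P₁ : Set G) :=
    hP₂C.trans (Subgroup.centralizer_le_normalizer _)
  have hmemQ : ∀ x ∈ Qs, ∃ a ∈ P₁, ∃ b ∈ P₂, x = a * b := by
    intro x hx
    rw [← hsup] at hx
    exact (Cfsg.Agent.Helper23.mem_sup_iff_of_le_normalizer hP₂N).1 hx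
  have hP₂comm : ∀ b ∈ P₂, ∀ b' ∈ P₂, b * b' = b' * b := by
    intro b hb b' hb'
    have := (IsCyclic.isMulCommutative (α := ↥P₂)).is_comm.comm ⟨b, hb⟩ ⟨b', hb'⟩
    exact congrArg Subtype.val this
  have hP₂Z : P₂ ≤ Z := by
    intro b hb
    refine Subgroup.mem_inf.2 ⟨hP₂Q hb, Subgroup.mem_centralizer_iff.2 ?_⟩
    intro h hh
    obtain ⟨a, ha, b', hb', rfl⟩ := hmemQ h hh
    calc a * b' * b = a * (b' * b) := mul_assoc _ _ _
      _ = a * (b * b') := by rw [hP₂comm b' hb' b hb]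
      _ = (a * b) * b' := (mul_assoc _ _ _).symm
      _ = (b * a) * b' := by rw [hcomm a ha b hb]
      _ = b * (a * b') := mul_assoc _ _ _
  have hZ₁Z : Z₁ ≤ Z := by
    intro z hz
    obtain ⟨hz1, hz2⟩ := Subgroup.mem_inf.1 hz
    refine Subgroup.mem_inf.2 ⟨hP₁Q hz1, Subgroup.mem_centralizer_iff.2 ?_⟩
    intro h hh
    obtain ⟨a, ha, b', hb', rfl⟩ := hmemQ h hh
    calc a * b' * z = a * (b' * z) := mul_assoc _ _ _
      _ = a * (z * b') := by rw [hcomm z hz1 b' hb']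
      _ = (a * z) * b' := (mul_assoc _ _ _).symm
      _ = (z * a) * b' := by rw [(Subgroup.mem_centralizer_iff.1 hz2) a ha]
      _ = z * (a * b') := mul_assoc _ _ _
  have hZP₁ : ∀ a ∈ P₁, a ∈ Z → a ∈ Z₁ := by
    intro a ha haZ
    refine Subgroup.mem_inf.2 ⟨ha, ?_⟩
    exact Subgroup.centralizer_le (by exact_mod_cast hP₁Q) (Subgroup.mem_inf.1 haZ).2
  have hnab : ¬ ∀ a b : ↥P₁, a * b = b * a := fun h => hna ⟨⟨h⟩⟩
  obtain ⟨hcen, hcomc⟩ := center_of_card_cube' hc3 hnab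
  have hZ₁map : Z₁ = (Subgroup.center ↥P₁).map P₁.subtype := by
    ext x
    constructor
    · intro hx
      obtain ⟨hx1, hx2⟩ := Subgroup.mem_inf.1 hx
      refine ⟨⟨x, hx1⟩, Subgroup.mem_center_iff.2 (fun g => Subtype.ext ?_), rfl⟩
      exact (Subgroup.mem_centralizer_iff.1 hx2) g g.2
    · rintro ⟨y, hy, rfl⟩
      refine Subgroup.mem_inf.2 ⟨y.2, Subgroup.mem_centralizer_iff.2 (fun a ha => ?_)⟩
      exact congrArg Subtype.val ((Subgroup.mem_center_iff.1 hy) ⟨a, ha⟩)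
  have hZ₁c : Nat.card Z₁ = q := by
    rw [hZ₁map, Subgroup.card_map_of_injective P₁.subtype_injective, hcen]
  have hcomP₁ : ∀ a ∈ P₁, ∀ a' ∈ P₁, ⁅a, a'⁆ ∈ Z₁ := by
    intro a ha a' ha'
    rw [hZ₁map]
    exact ⟨⁅⟨a, ha⟩, ⟨a', ha'⟩⁆, hcomc _ _, rfl⟩
  have hZ₁P₂ : Z₁ ≤ P₂ := by
    rw [← hΩ, Subgroup.closure_le]
    intro x hx
    exact hx.1
  refine ⟨?_, ?_, ?_, ?_⟩
  · intro x hx
    obtain ⟨a, ha, b, hb, rfl⟩ := hmemQ x hx
    have h1 : (a * b) ^ q = a ^ q * b ^ q := Commute.mul_pow (hcomm a ha b hb) q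
    have h2 : a ^ q = 1 := by
      have := Monoid.pow_exponent_eq_one (⟨a, ha⟩ : ↥P₁)
      rw [hexp] at this
      exact congrArg Subtype.val this
    rw [h1, h2, one_mul]
    exact hP₂Z (P₂.pow_mem hb q)
  · rw [Subgroup.commutator_le]
    intro x hx y hy
    obtain ⟨a, ha, b, hb, rfl⟩ := hmemQ x hx
    obtain ⟨a', ha', b', hb', rfl⟩ := hmemQ y hy
    have hbc := Subgroup.mem_centralizer_iff.1 (Subgroup.mem_inf.1 (hP₂Z hb)).2
    have hb'c := Subgroup.mem_centralizer_iff.1 (Subgroup.mem_inf.1 (hP₂Z hb')).2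
    rw [commutatorElement_mul_left_of_comm (hbc _ hy).symm,
      commutatorElement_mul_right_of_comm (hb'c a (hP₁Q ha)).symm]
    exact hZ₁Z (hcomP₁ a ha a' ha')
  · have h1 := Cfsg.Agent.Helper10.card_sup_mul_card_inf P₂ P₁ hP₂N
    rw [sup_comm, hsup, hc3] at h1
    have h2 : q ≤ Nat.card ↥(P₂ ⊓ P₁) := by
      rw [← hZ₁c]
      exact Subgroup.card_le_of_le (le_inf hZ₁P₂ inf_le_left)
    have h3 : Nat.card P₂ ≤ Nat.card Z := Subgroup.card_le_of_le hP₂Z
    have h4 : Nat.card Qs * q ≤ (q ^ 2 * Nat.card Z) * q := by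
      calc Nat.card Qs * q ≤ Nat.card Qs * Nat.card ↥(P₂ ⊓ P₁) := Nat.mul_le_mul_left _ h2
        _ = Nat.card P₂ * q ^ 3 := h1
        _ ≤ Nat.card Z * q ^ 3 := Nat.mul_le_mul_right _ h3
        _ = (q ^ 2 * Nat.card Z) * q := by ring
    exact Nat.le_of_mul_le_mul_right h4 hqp.pos
  · intro X hXZ hXc
    have hZP₂ : Z ≤ P₂ := by
      intro z hz
      obtain ⟨a, ha, b, hb, rfl⟩ := hmemQ z (Subgroup.mem_inf.1 hz).1
      have haZ : a ∈ Z := by
        have : a = a * b * b⁻¹ := by group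
        rw [this]
        exact Z.mul_mem hz (Z.inv_mem (hP₂Z hb))
      exact P₂.mul_mem (hZ₁P₂ (hZP₁ a ha haZ)) hb
    have hXZ₁ : X ≤ Z₁ := by
      intro x hx
      rw [← hΩ]
      apply Subgroup.subset_closure
      refine ⟨hZP₂ (hXZ hx), ?_⟩
      have := pow_card_eq_one' (G := ↥X) (x := ⟨x, hx⟩)
      rw [hXc] at this
      exact congrArg Subtype.val this
    have hXeq : X = Z₁ := by
      apply Subgroup.eq_of_le_of_card_ge hXZ₁
      rw [hZ₁c, hXc]
    have hDZ₁ : ⁅P₁, P₁⁆ ≤ Z₁ := by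
      rw [Subgroup.commutator_le]
      intro a ha a' ha'
      exact hcomP₁ a ha a' ha'
    have hD1 : Nat.card ↥⁅P₁, P₁⁆ ≠ 1 := by
      intro h
      have hbot : ⁅P₁, P₁⁆ = ⊥ := Subgroup.card_eq_one.1 h
      apply hnab
      intro a b
      have h1 : ⁅(a : G), (b : G)⁆ ∈ ⁅P₁, P₁⁆ := Subgroup.commutator_mem_commutator a.2 b.2
      rw [hbot, Subgroup.mem_bot] at h1
      exact Subtype.ext (commutatorElement_eq_one_iff_mul_comm.1 h1)
    have hDc : Nat.card ↥⁅P₁, P₁⁆ = q := by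
      have h1 : Nat.card ↥⁅P₁, P₁⁆ ∣ q := by
        rw [← hZ₁c]; exact Subgroup.card_dvd_of_le hDZ₁
      rcases (Nat.dvd_prime hqp).1 h1 with h | h
      · exact absurd h hD1
      · exact h
    have hDeq : ⁅P₁, P₁⁆ = Z₁ := by
      apply Subgroup.eq_of_le_of_card_ge hDZ₁
      rw [hZ₁c, hDc]
    rw [hXeq, ← hDeq]
    exact Subgroup.commutator_mono hP₁Q hP₁Q

theorem le_normalizer_of_conj_mem {P Ω : Subgroup G}
    (h : ∀ a ∈ P, ∀ z ∈ Ω, a * z * a⁻¹ ∈ Ω) : P ≤ Subgroup.normalizer (Ω : Set G) := by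
  intro a ha
  rw [Subgroup.mem_normalizer_iff]
  intro z
  refine ⟨h a ha z, fun hz => ?_⟩
  have := h a⁻¹ (P.inv_mem ha) _ hz
  have h2 : a⁻¹ * (a * z * a⁻¹) * a⁻¹⁻¹ = z := by group
  rwa [h2] at this

/-- the `q`-th power map of a commutative subgroup -/
def powHom (q : ℕ) (Qs : Subgroup G) [hc : IsMulCommutative Qs] : ↥Qs →* G where
  toFun x := (x : G) ^ q
  map_one' := by simp
  map_mul' x y := by
    have h : (x : G) * (y : G) = (y : G) * (x : G) := congrArg Subtype.val (hc.is_comm.comm x y)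
    simpa using Commute.mul_pow h q

theorem powHom_apply (q : ℕ) (Qs : Subgroup G) [IsMulCommutative Qs] (x : ↥Qs) :
    powHom q Qs x = (x : G) ^ q := rfl

theorem powHom_range_le (q : ℕ) (Qs : Subgroup G) [IsMulCommutative Qs] :
    (powHom q Qs).range ≤ Qs := by
  rintro _ ⟨x, rfl⟩
  rw [powHom_apply]
  exact Qs.pow_mem x.2 q

theorem powHom_normalizer (q : ℕ) (Qs : Subgroup G) [IsMulCommutative Qs] :
    Subgroup.normalizer (Qs : Set G) ≤ Subgroup.normalizer ((powHom q Qs).range : Set G) := by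
  apply le_normalizer_of_conj_mem
  rintro a ha _ ⟨x, rfl⟩
  refine ⟨⟨a * x * a⁻¹, (Subgroup.mem_normalizer_iff.1 ha x).1 x.2⟩, ?_⟩
  rw [powHom_apply, powHom_apply]
  simp only [conj_pow]

theorem powHom_card [Finite G] {q : ℕ} [hq : Fact q.Prime] (Qs : Subgroup G) [IsMulCommutative Qs]
    (hr : Cfsg.PRankLE q 2 ↥Qs) : Nat.card Qs ≤ q ^ 2 * Nat.card (powHom q Qs).range := by
  have h1 := Subgroup.card_eq_card_quotient_mul_card_subgroup (powHom q Qs).ker
  have h2 : Nat.card (↥Qs ⧸ (powHom q Qs).ker) = Nat.card (powHom q Qs).range :=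
    Nat.card_congr (QuotientGroup.quotientKerEquivRange (powHom q Qs)).toEquiv
  have h3 : Nat.card (powHom q Qs).ker ≤ q ^ 2 := by
    apply hr
    · infer_instance
    · intro a ha
      have h4 : ((a : ↥Qs) : G) ^ q = 1 := by
        have := (MonoidHom.mem_ker).1 ha
        rwa [powHom_apply] at this
      exact Subtype.ext (by rw [Subgroup.coe_pow, h4]; rfl)
  rw [h1, h2, mul_comm]
  exact Nat.mul_le_mul_right _ h3

/-- if the fixed points of a coprime operator group on an abelian `q`-group `Qs` consist of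
`q`-th powers, they are trivial -/
theorem abelian_fixed_points_trivial [Finite G] {q : ℕ} [hq : Fact q.Prime] {Qs P : Subgroup G}
    [hc : IsMulCommutative Qs] (hQs : IsPGroup q Qs)
    (hPQs : P ≤ Subgroup.normalizer (Qs : Set G)) (hcop : (Nat.card P).Coprime q)
    (hPsolv : Group.IsSolvable ↥P)
    (hle : Qs ⊓ Subgroup.centralizer (P : Set G) ≤ (powHom q Qs).range) :
    Qs ⊓ Subgroup.centralizer (P : Set G) = ⊥ := by
  classical
  have hqp := hq.out
  have hcommQ : ∀ a ∈ Qs, ∀ b ∈ Qs, a * b = b * a := fun a ha b hb =>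
    congrArg Subtype.val (hc.is_comm.comm ⟨a, ha⟩ ⟨b, hb⟩)
  set C : Subgroup G := Qs ⊓ Subgroup.centralizer (P : Set G) with hC
  let Ω : Subgroup G :=
    { carrier := {z | z ∈ Qs ∧ z ^ q = 1}
      one_mem' := ⟨Qs.one_mem, one_pow _⟩
      mul_mem' := by
        rintro a b ⟨ha, ha'⟩ ⟨hb, hb'⟩
        refine ⟨Qs.mul_mem ha hb, ?_⟩
        rw [Commute.mul_pow (hcommQ a ha b hb) q, ha', hb', one_mul]
      inv_mem' := by
        rintro a ⟨ha, ha'⟩
        exact ⟨Qs.inv_mem ha, by rw [inv_pow, ha', inv_one]⟩ }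
  have hΩQ : Ω ≤ Qs := fun z hz => hz.1
  have hPΩ : P ≤ Subgroup.normalizer (Ω : Set G) := by
    apply le_normalizer_of_conj_mem
    rintro a ha z ⟨hz, hz'⟩
    refine ⟨(Subgroup.mem_normalizer_iff.1 (hPQs ha) z).1 hz, ?_⟩
    rw [conj_pow, hz']; group
  have hcopΩ : (Nat.card P).Coprime (Nat.card Ω) := by
    obtain ⟨j, hj⟩ := IsPGroup.iff_card.1 (hQs.to_le hΩQ)
    rw [hj]
    exact Nat.Coprime.pow_right j hcop
  have key : ∀ c ∈ C, ∃ w ∈ C, w ^ q = c := by
    intro c hc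
    obtain ⟨y, hy⟩ := hle hc
    rw [powHom_apply] at hy
    have hcP := Subgroup.mem_centralizer_iff.1 (Subgroup.mem_inf.1 hc).2
    obtain ⟨d, hd, hdy⟩ := Cfsg.Agent.Helper1.exists_mem_coset_centralizer P Ω hPΩ hcopΩ
      (Or.inl hPsolv) (y : G) (by
        intro a ha
        have hconj : a * (y : G) * a⁻¹ ∈ Qs := (Subgroup.mem_normalizer_iff.1 (hPQs ha) y).1 y.2
        refine ⟨a * (y : G) * a⁻¹ * (y : G)⁻¹, ⟨Qs.mul_mem hconj (Qs.inv_mem y.2), ?_⟩, by group⟩
        rw [Commute.mul_pow (hcommQ _ hconj _ (Qs.inv_mem y.2)) q, conj_pow, inv_pow, hy,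
          hcP a ha]
        group)
    refine ⟨d * (y : G), Subgroup.mem_inf.2 ⟨Qs.mul_mem (hΩQ hd) y.2, hdy⟩, ?_⟩
    rw [Commute.mul_pow (hcommQ d (hΩQ hd) _ y.2) q, hd.2, one_mul, hy]
  have key2 : ∀ n : ℕ, ∀ c ∈ C, ∃ w ∈ C, w ^ q ^ n = c := by
    intro n
    induction n with
    | zero => intro c hc; exact ⟨c, hc, by simp⟩
    | succ n ih =>
      intro c hc
      obtain ⟨w, hw, hwc⟩ := ih c hc
      obtain ⟨v, hv, hvw⟩ := key w hw
      refine ⟨v, hv, ?_⟩
      rw [pow_succ, mul_comm, pow_mul, hvw, hwc]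
  obtain ⟨e, he⟩ := IsPGroup.iff_card.1 (hQs.to_le (inf_le_left : C ≤ Qs))
  rw [eq_bot_iff]
  intro c hc
  obtain ⟨w, hw, hwc⟩ := key2 e c hc
  have h1 := pow_card_eq_one' (G := ↥C) (x := ⟨w, hw⟩)
  rw [he] at h1
  have h2 : w ^ q ^ e = 1 := congrArg Subtype.val h1
  rw [Subgroup.mem_bot, ← hwc, h2]

end Cfsg.Agent.Helper23.BG14
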