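import Mathlib
import Cfsg.Agent.Helper23.BG14D
import Cfsg.Agent.Helper63.BG1215
import Cfsg.Agent.Helper64.BG13W
import Cfsg.Agent.Helper64.BG1217D
import Cfsg.Agent.Helper53.Conj
import Cfsg.Agent.Helper31.BGTrans
import Cfsg.Agent.S1408
import Cfsg.Agent.S1412
import Cfsg.Agent.S1416
import Cfsg.Agent.S1423
import Cfsg.Agent.S1453

/-!
# STEP I of helper70's reduction of B-G 14.2 (= B-G 13.6, `cent_cent_Msigma_tau1_uniq`) (helper23)

`M` maximal, `p ∈ τ₁(M)`, `P ≤ M` of order `p`, `X ≤ C_{M_σ}(P)` of prime order: `M` is the only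
maximal subgroup containing `N_G(X)`.
-/

set_option autoImplicit false
set_option linter.unusedVariables false
set_option linter.unusedSectionVars false
set_option linter.style.haveILetI false

namespace Cfsg.Agent.Helper23.BG14

open Cfsg Cfsg.Agent.Helper29 Cfsg.Agent.Helper29.BG10 Cfsg.Agent.Helper29.BG11
open Cfsg.Agent.Helper23.BG13
open scoped commutatorElement

variable {G : Type*} [Group G] [Finite G]

omit [Finite G] in
theorem isSolvable_of_card_eq_prime {P : Subgroup G} {p : ℕ} [hp : Fact p.Prime]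
    (hPc : Nat.card P = p) : Group.IsSolvable ↥P := by
  haveI : IsCyclic ↥P := isCyclic_of_prime_card hPc
  letI := IsCyclic.commGroup (α := ↥P)
  infer_instance

/-- a Sylow `q`-subgroup of `M_σ` as a Sylow subgroup of `G` -/
theorem exists_sylow_eq (hG : Cfsg.IsMinSimpleOddOrder G) (hU : UniquenessThm G)
    {M : Subgroup G} (hM : IsCoatom M) {q : ℕ} [hqf : Fact q.Prime] (hq : q ∈ Cfsg.sigma M)
    {Qs : Subgroup G} (hQs : IsSylowIn q Qs (Cfsg.sigmaCore M)) :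
    ∃ S : Sylow q G, (S : Subgroup G) = Qs := by
  have hQsM : IsSylowIn q Qs M := (BG11.isSylowIn_sigmaCore_iff hG hU hM hq).1 hQs
  have hQsG : IsSylowIn q Qs ⊤ := Cfsg.Agent.Helper63.BG12.isSylowIn_top_of_sigma hG hU hM hq hQsM
  have hidx : ¬ q ∣ Qs.index := by
    have := hQsG.2.2
    rwa [Subgroup.relIndex_top_right] at this
  exact ⟨hQs.2.1.toSylow hidx, IsPGroup.toSylow_coe _ _⟩

/-- STEP I, case (i), `Qs` abelian: `C_Qs(P) = 1` -/
theorem stepI_abelian (hG : Cfsg.IsMinSimpleOddOrder G) {M : Subgroup G} (hM : IsCoatom M)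
    {p : ℕ} [hpf : Fact p.Prime] (hp : p ∈ Cfsg.tau1 M) {P : Subgroup G} (hPM : P ≤ M)
    (hPc : Nat.card P = p) {q : ℕ} [hqf : Fact q.Prime] (hq : q ∈ Cfsg.sigma M)
    (hr2 : Cfsg.PRankLE q 2 ↥M) {Qs : Subgroup G} (hQs : IsSylowIn q Qs (Cfsg.sigmaCore M))
    (hPQs : P ≤ Subgroup.normalizer (Qs : Set G)) (hcomm : IsMulCommutative Qs) :
    Qs ⊓ Subgroup.centralizer (P : Set G) = ⊥ := by
  have hU : UniquenessThm G := fun K hK hK2 hK3 => Cfsg.Agent.S1403.result hG K hK hK2 hK3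
  have hqβ : q ∉ Cfsg.beta M := fun h => h.1.2 hr2
  have hQsM : Qs ≤ M := hQs.1.trans (BG11.sigmaCore_le M)
  have hle := lemma_T hG hM hp hPM hPc hq hqβ hQs hPQs (powHom_range_le q Qs)
    (inf_le_right.trans (powHom_normalizer q Qs))
    (fun x hx => ⟨⟨x, hx⟩, rfl⟩)
    (by
      rw [Subgroup.commutator_le]
      intro a ha b hb
      have : ⁅a, b⁆ = 1 := commutatorElement_eq_one_iff_mul_comm.2
        (congrArg Subtype.val (hcomm.is_comm.comm ⟨a, ha⟩ ⟨b, hb⟩))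
      rw [this]; exact Subgroup.one_mem _)
    (powHom_card Qs (pRankLE_mono hQsM hr2))
  have hpq : p ≠ q := by
    rintro rfl
    exact hp.2.1 hq
  have hcop : (Nat.card P).Coprime q := by
    rw [hPc]; exact (Nat.coprime_primes hpf.out hqf.out).2 hpq
  exact abelian_fixed_points_trivial hQs.2.1 hPQs hcop (isSolvable_of_card_eq_prime hPc) hle

omit [Finite G] in
/-- the normalizer of `Q` normalizes `Z(Q)` -/
theorem normalizer_le_normalizer_center (Q : Subgroup G) :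
    Subgroup.normalizer (Q : Set G) ≤
      Subgroup.normalizer ((Q ⊓ Subgroup.centralizer (Q : Set G) : Subgroup G) : Set G) := by
  apply le_normalizer_of_conj_mem
  intro g hg z hz
  obtain ⟨hz1, hz2⟩ := Subgroup.mem_inf.1 hz
  refine Subgroup.mem_inf.2 ⟨(Subgroup.mem_normalizer_iff.1 hg z).1 hz1, ?_⟩
  rw [Subgroup.mem_centralizer_iff]
  intro h hh
  have hh' : g⁻¹ * h * g ∈ Q := by
    have := (Subgroup.mem_normalizer_iff.1 (Subgroup.inv_mem _ hg) h).1 hh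
    rwa [inv_inv] at this
  have h1 := (Subgroup.mem_centralizer_iff.1 hz2) _ hh'
  calc h * (g * z * g⁻¹) = g * ((g⁻¹ * h * g) * z) * g⁻¹ := by group
    _ = g * (z * (g⁻¹ * h * g)) * g⁻¹ := by rw [h1]
    _ = g * z * g⁻¹ * h := by group

/-- STEP I, case (i), `Qs` nonabelian: `X ≤ (M_σ)'` -/
theorem stepI_nonabelian (hG : Cfsg.IsMinSimpleOddOrder G) {M : Subgroup G} (hM : IsCoatom M)
    {p : ℕ} [hpf : Fact p.Prime] (hp : p ∈ Cfsg.tau1 M) {P : Subgroup G} (hPM : P ≤ M)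
    (hPc : Nat.card P = p) {q : ℕ} [hqf : Fact q.Prime] (hq : q ∈ Cfsg.sigma M)
    (hr2 : Cfsg.PRankLE q 2 ↥M) {Qs : Subgroup G} (hQs : IsSylowIn q Qs (Cfsg.sigmaCore M))
    (hPQs : P ≤ Subgroup.normalizer (Qs : Set G)) (hna : ¬ IsMulCommutative Qs)
    {X : Subgroup G} (hXle : X ≤ Qs ⊓ Subgroup.centralizer (P : Set G)) (hXc : Nat.card X = q) :
    X ≤ ⁅Cfsg.sigmaCore M, Cfsg.sigmaCore M⁆ := by
  have hU : UniquenessThm G := fun K hK hK2 hK3 => Cfsg.Agent.S1403.result hG K hK hK2 hK3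
  have hqβ : q ∉ Cfsg.beta M := fun h => h.1.2 hr2
  have hQsM : Qs ≤ M := hQs.1.trans (BG11.sigmaCore_le M)
  obtain ⟨S, hS⟩ := exists_sylow_eq hG hU hM hq hQs
  have hrS : Cfsg.PRankLE q 2 ↥(S : Subgroup G) := by
    rw [hS]; exact pRankLE_mono hQsM hr2
  rcases Cfsg.Agent.S1412.result hG q S hrS with h | ⟨P₁, P₂, hsup, hcomm, hna₁, hc3, hexp, hP₂, hΩ⟩
  · rw [hS] at h
    exact absurd h hna
  rw [hS] at hsup
  obtain ⟨f1, f2, f3, f4⟩ := central_product_facts hsup hcomm hna₁ hc3 hexp hP₂ hΩ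
  have hle := lemma_T hG hM hp hPM hPc hq hqβ hQs hPQs inf_le_left
    (inf_le_right.trans (normalizer_le_normalizer_center Qs)) f1 f2 f3
  exact (f4 X (hXle.trans hle) hXc).trans (Subgroup.commutator_mono hQs.1 hQs.1)

omit [Finite G] in
/-- transfer of a maximal elementary abelian subgroup of `T ≤ G` to the group `↥T` -/
theorem elemAb_subgroupOf {q : ℕ} {T A' : Subgroup G} (hA'T : A' ≤ T)
    (hA'e : Cfsg.IsElementaryAbelian q A') (hA'c : Nat.card A' = q ^ 2)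
    (hmax : ∀ B' : Subgroup G, B' ≤ T → Cfsg.IsElementaryAbelian q B' → A' ≤ B' → B' = A') :
    Cfsg.IsElementaryAbelian q (A'.subgroupOf T) ∧ Nat.card (A'.subgroupOf T) = q ^ 2 ∧
      ∀ B : Subgroup ↥T, Cfsg.IsElementaryAbelian q B → A'.subgroupOf T ≤ B →
        B = A'.subgroupOf T := by
  refine ⟨⟨⟨⟨?_⟩⟩, ?_⟩, ?_, ?_⟩
  · rintro ⟨a, ha⟩ ⟨b, hb⟩
    apply Subtype.ext
    apply Subtype.ext
    have := hA'e.1.is_comm.comm (⟨(a : G), Subgroup.mem_subgroupOf.mp ha⟩ : ↥A')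
      ⟨(b : G), Subgroup.mem_subgroupOf.mp hb⟩
    have h2 : (a : G) * (b : G) = (b : G) * (a : G) := congrArg Subtype.val this
    exact h2
  · intro a ha
    apply Subtype.ext
    have := hA'e.2 (a : G) (Subgroup.mem_subgroupOf.mp ha)
    rw [Subgroup.coe_pow, this]; rfl
  · rw [← hA'c]
    exact Nat.card_congr (Subgroup.subgroupOfEquivOfLe hA'T).toEquiv
  · intro B hB hEB
    have h1 : B.map T.subtype = A' := by
      apply hmax _ (Subgroup.map_subtype_le _) (Cfsg.Agent.Helper23.isElementaryAbelian_map _ hB)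
      intro a ha
      exact ⟨⟨a, hA'T ha⟩, hEB (Subgroup.mem_subgroupOf.2 ha), rfl⟩
    ext x
    rw [Subgroup.mem_subgroupOf, ← h1]
    constructor
    · intro hx; exact ⟨x, hx, rfl⟩
    · rintro ⟨y, hy, hyx⟩
      have : y = x := Subtype.ext hyx
      rwa [← this]

/-- packaging of S1453 (applied twice) -/
theorem s1453_pack {R : Type*} [Group R] [Finite R] (q : ℕ) [Fact q.Prime] (hq2 : q ≠ 2)
    (hR : IsPGroup q R) (hr : ¬ Cfsg.PRankLE q 2 R)
    (E : Subgroup R) (hE : Cfsg.IsElementaryAbelian q E) (hE2 : Nat.card E = q ^ 2)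
    (hEmax : ∀ B : Subgroup R, Cfsg.IsElementaryAbelian q B → E ≤ B → B = E) :
    ∃ W T0 : Subgroup R, Cfsg.IsElementaryAbelian q W ∧ Nat.card W = q ^ 2 ∧
      T0 = Subgroup.centralizer (W : Set R) ∧ T0.Characteristic ∧ T0.index = q ∧
      ((∀ B : Subgroup R, Cfsg.IsElementaryAbelian q B → W ≤ B → B = W) → False) := by
  obtain ⟨-, -, ⟨r3e, r3c⟩, r4, r5⟩ := Cfsg.Agent.S1453.result q hq2 hR hr E hE hE2 hEmax
  refine ⟨_, _, r3e, r3c, rfl, r4, r5, ?_⟩
  intro hWmax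
  obtain ⟨r1', -⟩ := Cfsg.Agent.S1453.result q hq2 hR hr _ r3e r3c hWmax
  apply r1'
  intro w hw
  rw [Subgroup.mem_centralizer_iff]
  intro h hh
  exact congrArg Subtype.val (r3e.1.is_comm.comm ⟨h, hh⟩ ⟨w, hw⟩)

/-- a non-ideal prime of rank at least `3`: a given Sylow subgroup has a maximal elementary
abelian subgroup of order `q²` -/
theorem exists_max_elemAb_of_not_ideal {q : ℕ} [hqf : Fact q.Prime] (hrG : ¬ Cfsg.PRankLE q 2 G)
    (hni : ¬ Cfsg.IsIdealPrime q G) (S : Sylow q G) :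
    ∃ A' : Subgroup G, A' ≤ (S : Subgroup G) ∧ Cfsg.IsElementaryAbelian q A' ∧
      Nat.card A' = q ^ 2 ∧
      ∀ B' : Subgroup G, B' ≤ (S : Subgroup G) → Cfsg.IsElementaryAbelian q B' → A' ≤ B' →
        B' = A' := by
  classical
  have hqp := hqf.out
  have h1 : ∃ (S₀ : Sylow q G) (A : Subgroup G), A ≤ (S₀ : Subgroup G) ∧
      Cfsg.IsElementaryAbelian q A ∧ Nat.card A = q ^ 2 ∧
      ¬ ∃ B : Subgroup G, B ≤ (S₀ : Subgroup G) ∧ Cfsg.IsElementaryAbelian q B ∧ A < B := by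
    by_contra hcon
    apply hni
    refine ⟨hqp, hrG, fun S₀ A hA hAe hAc => ?_⟩
    by_contra h2
    exact hcon ⟨S₀, A, hA, hAe, hAc, h2⟩
  obtain ⟨S₀, A, hAS₀, hAe, hAc, hAmax⟩ := h1
  obtain ⟨g, hg⟩ := MulAction.exists_smul_eq G S₀ S
  have hS : (S : Subgroup G) = BG10.cj g (S₀ : Subgroup G) := by
    rw [← hg]; rfl
  refine ⟨BG10.cj g A, ?_, isElementaryAbelian_cj hAe g, by rw [BG10.card_cj, hAc], ?_⟩
  · rw [hS]; exact BG10.cj_mono hAS₀
  · intro B' hB'S hB'e hAB'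
    have hB0 : BG10.cj g⁻¹ B' ≤ (S₀ : Subgroup G) :=
      BG10.cj_le_iff.2 (by rw [inv_inv, ← hS]; exact hB'S)
    have hAB0 : A ≤ BG10.cj g⁻¹ B' := BG10.cj_le_iff.1 hAB'
    have heq : A = BG10.cj g⁻¹ B' := by
      by_contra hne
      exact hAmax ⟨_, hB0, isElementaryAbelian_cj hB'e g⁻¹, lt_of_le_of_ne hAB0 hne⟩
    rw [heq, BG10.cj_cj_inv]

/-- STEP I, case (ii): `q ∈ α(M) ∖ β(M)` -/
theorem stepI_alpha (hG : Cfsg.IsMinSimpleOddOrder G) {M : Subgroup G} (hM : IsCoatom M)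
    {p : ℕ} [hpf : Fact p.Prime] (hp : p ∈ Cfsg.tau1 M) {P : Subgroup G} (hPM : P ≤ M)
    (hPc : Nat.card P = p) {q : ℕ} [hqf : Fact q.Prime] (hq : q ∈ Cfsg.sigma M)
    (hqα : ¬ Cfsg.PRankLE q 2 ↥M) (hqβ : q ∉ Cfsg.beta M)
    {Qs : Subgroup G} (hQs : IsSylowIn q Qs (Cfsg.sigmaCore M))
    (hPQs : P ≤ Subgroup.normalizer (Qs : Set G))
    {X : Subgroup G} (hXle : X ≤ Qs ⊓ Subgroup.centralizer (P : Set G)) (hX1 : X ≠ ⊥)
    {L : Subgroup G} (hL : IsCoatom L) (hNX : Subgroup.normalizer (X : Set G) ≤ L) : L = M := by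
  classical
  have hU : UniquenessThm G := fun K hK hK2 hK3 => Cfsg.Agent.S1403.result hG K hK hK2 hK3
  have hqp := hqf.out
  have hQsM' : Qs ≤ M := hQs.1.trans (BG11.sigmaCore_le M)
  have hQsM : IsSylowIn q Qs M := (BG11.isSylowIn_sigmaCore_iff hG hU hM hq).1 hQs
  have hq2 : q ≠ 2 := by
    rintro rfl
    have hodd : Odd (Nat.card M) := Odd.of_dvd_nat hG.1 (Subgroup.card_subgroup_dvd_card M)
    exact (Nat.not_even_iff_odd.2 hodd) (even_iff_two_dvd.2 hq.2.1)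
  obtain ⟨S, hS⟩ := exists_sylow_eq hG hU hM hq hQs
  have hni : ¬ Cfsg.IsIdealPrime q G := fun h => hqβ ⟨⟨hqp, hqα⟩, h⟩
  have hrG : ¬ Cfsg.PRankLE q 2 G := by
    intro h
    obtain ⟨A, -, hAe, hAc⟩ := (Cfsg.Agent.Helper23.not_pRankLE_subgroup_iff q 2 M).1 hqα
    exact absurd (h A hAe.1 hAe.2) (not_le.2 hAc)
  obtain ⟨A', hA'S, hA'e, hA'c, hA'max⟩ := exists_max_elemAb_of_not_ideal hrG hni S
  rw [hS] at hA'S hA'max
  obtain ⟨hE1, hE2, hE3⟩ := elemAb_subgroupOf hA'S hA'e hA'c hA'max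
  have hRp : IsPGroup q ↥Qs := hQs.2.1
  have hrR : ¬ Cfsg.PRankLE q 2 ↥Qs := fun h => hqα (BG10.pRankLE_of_isSylowIn hQsM h)
  obtain ⟨W, T0, hWe, hWc, hT0, hT0char, hT0idx, hWmax⟩ :=
    s1453_pack q hq2 hRp hrR _ hE1 hE2 hE3
  haveI : T0.Characteristic := hT0char
  haveI : T0.Normal := Subgroup.normal_of_characteristic T0
  have hexp : ∀ x ∈ Qs, x ^ q ∈ T0.map Qs.subtype := by
    intro x hx
    have := Subgroup.pow_index_mem T0 (⟨x, hx⟩ : ↥Qs)
    rw [hT0idx] at this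
    exact ⟨_, this, rfl⟩
  have hab : ⁅Qs, Qs⁆ ≤ T0.map Qs.subtype := by
    rw [← Subgroup.map_subtype_commutator]
    apply Subgroup.map_mono
    have hcq : Nat.card (↥Qs ⧸ T0) = q := hT0idx
    haveI : IsCyclic (↥Qs ⧸ T0) := isCyclic_of_prime_card hcq
    have hQc : IsMulCommutative (↥Qs ⧸ T0) := IsCyclic.isMulCommutative
    exact Subgroup.Normal.quotient_commutative_iff_commutator_le.1 hQc
  have hcard : Nat.card Qs ≤ q ^ 2 * Nat.card (T0.map Qs.subtype) := by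
    rw [Subgroup.card_map_of_injective Qs.subtype_injective, ← Subgroup.card_mul_index T0, hT0idx,
      mul_comm]
    exact Nat.mul_le_mul_right _ (Nat.le_self_pow (by norm_num) q)
  have hle := lemma_T hG hM hp hPM hPc hq hqβ hQs hPQs (Subgroup.map_subtype_le _)
    (inf_le_right.trans (Cfsg.Agent.Helper53.char_map_normalizer_le Qs T0 hT0char)) hexp hab hcard
  have hXT0 : X ≤ T0.map Qs.subtype := hXle.trans hle
  have hWgC : W.map Qs.subtype ≤ Subgroup.centralizer (X : Set G) := by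
    rintro _ ⟨w, hw, rfl⟩
    rw [Subgroup.mem_centralizer_iff]
    intro x hx
    obtain ⟨t, ht, rfl⟩ := hXT0 hx
    have ht' : t ∈ Subgroup.centralizer (W : Set ↥Qs) := by rw [← hT0]; exact ht
    exact (congrArg Subtype.val ((Subgroup.mem_centralizer_iff.1 ht') w hw)).symm
  have hWgL : W.map Qs.subtype ≤ L :=
    (hWgC.trans (Subgroup.centralizer_le_normalizer _)).trans hNX
  have hXq : IsPGroup q X := hQs.2.1.to_le (hXle.trans inf_le_left)
  have hXM : X ≤ M := (hXle.trans inf_le_left).trans hQsM'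
  by_contra hne
  by_cases hqL : q ∈ Cfsg.sigma L
  · have hW' : Cfsg.Agent.Helper23.BG13.NilpHallSigma G :=
      fun L hL => (Cfsg.Agent.S1414.result hG L hL).2.2.2.1
    have hβ : Cfsg.Agent.Helper64.BG1217D.BetaHall G :=
      fun L hL => (Cfsg.Agent.S1414.result hG L hL).1
    have h1416 : Cfsg.Agent.Helper23.BG13.H1416 G :=
      fun L hL q _ A hAL hAe hAc => (Cfsg.Agent.S1416.result hG L hL q A ⟨hAL, hAe, hAc⟩).1
    exact hqβ ((Cfsg.Agent.Helper64.BG1217D.lemma_12_17_d3 hG hU h1416 hW' hβ hM hL hne hq hXq hX1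
      hXM hNX hqL).1 q ⟨hqp, hqα⟩)
  · have hWge : Cfsg.IsElementaryAbelian q (W.map Qs.subtype) :=
      Cfsg.Agent.Helper23.isElementaryAbelian_map _ hWe
    have hWgc : Nat.card (W.map Qs.subtype) = q ^ 2 := by
      rw [Subgroup.card_map_of_injective Qs.subtype_injective, hWc]
    have hr1L : ¬ Cfsg.PRankLE q 1 ↥L :=
      (Cfsg.Agent.Helper23.not_pRankLE_subgroup_iff q 1 L).2 ⟨_, hWgL, hWge, by
        rw [hWgc]; exact Nat.pow_lt_pow_right hqp.one_lt (by norm_num)⟩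
    have hr2L : Cfsg.PRankLE q 2 ↥L := by
      by_contra h
      exact hqL (BG10.alpha_subset_sigma hG hU hL ⟨hqp, h⟩)
    have h1408 := (Cfsg.Agent.S1408.result hG L hL q hqL hr2L hr1L).2 _ hWgL hWge hWgc
    apply hWmax
    intro B hB hWB
    have := h1408 (B.map Qs.subtype) (Cfsg.Agent.Helper23.isElementaryAbelian_map _ hB)
      (Subgroup.map_mono hWB)
    exact Subgroup.map_injective Qs.subtype_injective this

/-- **STEP I** (= B-G 13.6, `cent_cent_Msigma_tau1_uniq`): `M` maximal, `p ∈ τ₁(M)`, `P ≤ M` of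
order `p`, `X ≤ C_{M_σ}(P)` of prime order.  Then `N_G(X) ≤ M` and `M` is the only maximal subgroup
containing `N_G(X)`. -/
theorem step_I (hG : Cfsg.IsMinSimpleOddOrder G) {M : Subgroup G} (hM : IsCoatom M)
    {p : ℕ} [hpf : Fact p.Prime] (hp : p ∈ Cfsg.tau1 M) {P : Subgroup G} (hPM : P ≤ M)
    (hPc : Nat.card P = p) {X : Subgroup G}
    (hX : X ≤ Cfsg.sigmaCore M ⊓ Subgroup.centralizer (P : Set G)) (hXc : (Nat.card X).Prime) :
    Subgroup.normalizer (X : Set G) ≤ M ∧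
      ∀ L : Subgroup G, IsCoatom L → Subgroup.normalizer (X : Set G) ≤ L → L = M := by
  classical
  have hU : UniquenessThm G := fun K hK hK2 hK3 => Cfsg.Agent.S1403.result hG K hK hK2 hK3
  haveI : IsSimpleGroup G := hG.2.1
  have hpp := hpf.out
  obtain ⟨q, hqdef⟩ : ∃ q, q = Nat.card X := ⟨_, rfl⟩
  have hXq' : Nat.card X = q := hqdef.symm
  have hqp : q.Prime := hqdef ▸ hXc
  haveI hqf : Fact q.Prime := ⟨hqp⟩
  have hX1 : X ≠ ⊥ := by
    intro h
    rw [h, Subgroup.card_bot] at hXq'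
    exact hqp.one_lt.ne hXq'
  have hXσ : X ≤ Cfsg.sigmaCore M := hX.trans inf_le_left
  have hXM : X ≤ M := hXσ.trans (BG11.sigmaCore_le M)
  have hq : q ∈ Cfsg.sigma M :=
    BG11.primes_sigmaCore M q hqp (hXq' ▸ Subgroup.card_dvd_of_le hXσ)
  have huniq : ∀ L : Subgroup G, IsCoatom L → Subgroup.normalizer (X : Set G) ≤ L → L = M := by
    intro L hL hNX
    by_cases hqβ : q ∈ Cfsg.beta M
    · obtain ⟨S⟩ : Nonempty (Sylow q ↥(Cfsg.sigmaCore M)) := inferInstance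
      have := (Cfsg.Agent.S1423.result hG M hM q hq X hXM hXq' S (Or.inl hqβ)).1.2
      exact this L hL ((Subgroup.centralizer_le_normalizer _).trans hNX)
    · have hpσ := hp.2.1
      have hcopP : (Nat.card P).Coprime (Nat.card (Cfsg.sigmaCore M)) := by
        rw [hPc]
        exact (Nat.Prime.coprime_iff_not_dvd hpp).2 (fun hd => hpσ (BG11.primes_sigmaCore M p hpp hd))
      have hPN : P ≤ Subgroup.normalizer ((Cfsg.sigmaCore M : Subgroup G) : Set G) :=
        hPM.trans (BG11.le_normalizer_sigmaCore M)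
      have hXq : IsPGroup q X := IsPGroup.of_card (n := 1) (by rw [pow_one, hXq'])
      have hPX : P ≤ Subgroup.normalizer (X : Set G) :=
        (Subgroup.le_centralizer_iff.1 (hX.trans inf_le_right)).trans
          (Subgroup.centralizer_le_normalizer _)
      obtain ⟨Qs, hQs, hXQs, hPQs⟩ := Cfsg.Agent.Helper64.BG13W.exists_invariant_sylow_ge P
        (Cfsg.sigmaCore M) X hPN hcopP (Or.inl (isSolvable_of_card_eq_prime hPc)) q hXq hXσ hPX
      have hXle : X ≤ Qs ⊓ Subgroup.centralizer (P : Set G) := le_inf hXQs (hX.trans inf_le_right)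
      by_cases hr2 : Cfsg.PRankLE q 2 ↥M
      · by_cases hcomm : IsMulCommutative Qs
        · have h1 := stepI_abelian hG hM hp hPM hPc hq hr2 hQs hPQs hcomm
          rw [h1] at hXle
          exact absurd (le_bot_iff.1 hXle) hX1
        · have hXd := stepI_nonabelian hG hM hp hPM hPc hq hr2 hQs hPQs hcomm hXle hXq'
          obtain ⟨S⟩ : Nonempty (Sylow q ↥(Cfsg.sigmaCore M)) := inferInstance
          have := (Cfsg.Agent.S1423.result hG M hM q hq X hXM hXq' S (Or.inr hXd)).1.2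
          exact this L hL ((Subgroup.centralizer_le_normalizer _).trans hNX)
      · exact stepI_alpha hG hM hp hPM hPc hq hr2 hqβ hQs hPQs hXle hX1 hL hNX
  refine ⟨?_, huniq⟩
  have hXtop : X ≠ ⊤ := by
    intro h
    rw [h] at hXM
    exact hM.1 (top_le_iff.1 hXM)
  have hNtop : Subgroup.normalizer (X : Set G) ≠ ⊤ :=
    Cfsg.Agent.Helper31.bgt_normalizer_ne_top_of_simple hX1 hXtop
  obtain ⟨L, hL, hNL⟩ := (eq_top_or_exists_le_coatom _).resolve_left hNtop
  rw [← huniq L hL hNL]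
  exact hNL

end Cfsg.Agent.Helper23.BG14
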