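import Mathlib
import Cfsg.Agent.Helper23.BG14E
import Cfsg.Agent.Helper23.BG13D
import Cfsg.Agent.S1422

/-!
# (T6) of helper70's reduction of B-G 14.2 (board #3506) (helper23)

`M` maximal, `p ∈ τ₁(M)`, `P ≤ M` of order `p`, `D = C_{M_σ}(P)`, `q ∣ |D|`, `Qs` a Sylow
`q`-subgroup of `M_σ`: `Qs` lies in a unique maximal subgroup and `Qs ≰ D`.
-/

set_option autoImplicit false
set_option linter.unusedVariables false
set_option linter.unusedSectionVars false
set_option linter.style.haveILetI false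

namespace Cfsg.Agent.Helper23.BG14

open Cfsg Cfsg.Agent.Helper29 Cfsg.Agent.Helper29.BG10 Cfsg.Agent.Helper29.BG11
open Cfsg.Agent.Helper23.BG13
open scoped commutatorElement

variable {G : Type*} [Group G] [Finite G]

/-- STEP I, case (i), `Qs` nonabelian of rank at most two: `C_Qs(P) ≤ Z(Qs)` -/
theorem cent_le_center_of_nonabelian (hG : Cfsg.IsMinSimpleOddOrder G) {M : Subgroup G}
    (hM : IsCoatom M) {p : ℕ} [hpf : Fact p.Prime] (hp : p ∈ Cfsg.tau1 M) {P : Subgroup G}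
    (hPM : P ≤ M) (hPc : Nat.card P = p) {q : ℕ} [hqf : Fact q.Prime] (hq : q ∈ Cfsg.sigma M)
    (hr2 : Cfsg.PRankLE q 2 ↥M) {Qs : Subgroup G} (hQs : IsSylowIn q Qs (Cfsg.sigmaCore M))
    (hPQs : P ≤ Subgroup.normalizer (Qs : Set G)) (hna : ¬ IsMulCommutative Qs) :
    Qs ⊓ Subgroup.centralizer (P : Set G) ≤ Qs ⊓ Subgroup.centralizer (Qs : Set G) := by
  have hU : UniquenessThm G := fun K hK hK2 hK3 => Cfsg.Agent.S1403.result hG K hK hK2 hK3
  have hqβ : q ∉ Cfsg.beta M := fun h => h.1.2 hr2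
  have hQsM : Qs ≤ M := hQs.1.trans (BG11.sigmaCore_le M)
  obtain ⟨S, hS⟩ := exists_sylow_eq hG hU hM hq hQs
  have hrS : Cfsg.PRankLE q 2 ↥(S : Subgroup G) := by
    rw [hS]; exact pRankLE_mono hQsM hr2
  rcases Cfsg.Agent.S1412.result hG q S hrS with h | ⟨P₁, P₂, hsup, hcomm, hna₁, hc3, hexp, hP₂, hΩ⟩
  · rw [hS] at h
    exact absurd h hna
  rw [hS] at hsup
  obtain ⟨f1, f2, f3, f4⟩ := central_product_facts hsup hcomm hna₁ hc3 hexp hP₂ hΩ
  exact lemma_T hG hM hp hPM hPc hq hqβ hQs hPQs inf_le_left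
    (inf_le_right.trans (normalizer_le_normalizer_center Qs)) f1 f2 f3

omit [Finite G] in
theorem isMulCommutative_cj {Q : Subgroup G} (h : IsMulCommutative Q) (c : G) :
    IsMulCommutative (BG10.cj c Q) := by
  refine ⟨⟨?_⟩⟩
  rintro ⟨x, hx⟩ ⟨y, hy⟩
  apply Subtype.ext
  have hx' := BG10.mem_cj.1 hx
  have hy' := BG10.mem_cj.1 hy
  have hc : (c⁻¹ * x * c) * (c⁻¹ * y * c) = (c⁻¹ * y * c) * (c⁻¹ * x * c) :=
    congrArg Subtype.val (h.is_comm.comm ⟨_, hx'⟩ ⟨_, hy'⟩)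
  show x * y = y * x
  have e1 : x * y = c * ((c⁻¹ * x * c) * (c⁻¹ * y * c)) * c⁻¹ := by group
  have e2 : y * x = c * ((c⁻¹ * y * c) * (c⁻¹ * x * c)) * c⁻¹ := by group
  rw [e1, e2, hc]

/-- **(T6)**: `q ∣ |C_{M_σ}(P)|`, `Qs` a Sylow `q`-subgroup of `M_σ`: `Qs` lies in a unique maximal
subgroup and is not contained in `C_{M_σ}(P)`. -/
theorem t6 (hG : Cfsg.IsMinSimpleOddOrder G) {M : Subgroup G} (hM : IsCoatom M)
    {p : ℕ} [hpf : Fact p.Prime] (hp : p ∈ Cfsg.tau1 M) {P : Subgroup G} (hPM : P ≤ M)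
    (hPc : Nat.card P = p) {q : ℕ} [hqf : Fact q.Prime]
    (hqD : q ∣ Nat.card ↥(Cfsg.sigmaCore M ⊓ Subgroup.centralizer (P : Set G)))
    {Qs : Subgroup G} (hQs : IsSylowIn q Qs (Cfsg.sigmaCore M)) :
    Cfsg.InUniqueMaximal Qs ∧ ¬ Qs ≤ Cfsg.sigmaCore M ⊓ Subgroup.centralizer (P : Set G) := by
  classical
  have hU : UniquenessThm G := fun K hK hK2 hK3 => Cfsg.Agent.S1403.result hG K hK hK2 hK3
  have hpp := hpf.out
  have hqp := hqf.out
  have hq : q ∈ Cfsg.sigma M :=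
    BG11.primes_sigmaCore M q hqp (hqD.trans (Subgroup.card_dvd_of_le inf_le_left))
  have hQsM' : Qs ≤ M := hQs.1.trans (BG11.sigmaCore_le M)
  have hQsM : IsSylowIn q Qs M := (BG11.isSylowIn_sigmaCore_iff hG hU hM hq).1 hQs
  have hPQs_of_le : Qs ≤ Subgroup.centralizer (P : Set G) →
      P ≤ Subgroup.normalizer (Qs : Set G) := fun h =>
    (Subgroup.le_centralizer_iff.1 h).trans (Subgroup.centralizer_le_normalizer _)
  by_cases hr2 : Cfsg.PRankLE q 2 ↥M
  · -- a subgroup `X` of order `q` of `D` and a `P`-invariant Sylow subgroup containing it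
    obtain ⟨x, hx⟩ := exists_prime_orderOf_dvd_card'
      (G := ↥(Cfsg.sigmaCore M ⊓ Subgroup.centralizer (P : Set G))) q hqD
    set X : Subgroup G := Subgroup.zpowers (x : G) with hXdef
    have hXc : Nat.card X = q := by rw [Nat.card_zpowers, Subgroup.orderOf_coe, hx]
    have hXD : X ≤ Cfsg.sigmaCore M ⊓ Subgroup.centralizer (P : Set G) := by
      rw [Subgroup.zpowers_le]; exact x.2
    have hX1 : X ≠ ⊥ := by
      intro h
      rw [h, Subgroup.card_bot] at hXc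
      exact hqp.one_lt.ne hXc
    have hXσ : X ≤ Cfsg.sigmaCore M := hXD.trans inf_le_left
    have hpσ := hp.2.1
    have hcopP : (Nat.card P).Coprime (Nat.card (Cfsg.sigmaCore M)) := by
      rw [hPc]
      exact (Nat.Prime.coprime_iff_not_dvd hpp).2 (fun hd => hpσ (BG11.primes_sigmaCore M p hpp hd))
    have hPN : P ≤ Subgroup.normalizer ((Cfsg.sigmaCore M : Subgroup G) : Set G) :=
      hPM.trans (BG11.le_normalizer_sigmaCore M)
    have hXq : IsPGroup q X := IsPGroup.of_card (n := 1) (by rw [pow_one, hXc])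
    have hPX : P ≤ Subgroup.normalizer (X : Set G) :=
      (Subgroup.le_centralizer_iff.1 (hXD.trans inf_le_right)).trans
        (Subgroup.centralizer_le_normalizer _)
    obtain ⟨Qs₁, hQs₁, hXQs₁, hPQs₁⟩ := Cfsg.Agent.Helper64.BG13W.exists_invariant_sylow_ge P
      (Cfsg.sigmaCore M) X hPN hcopP (Or.inl (isSolvable_of_card_eq_prime hPc)) q hXq hXσ hPX
    have hna : ¬ IsMulCommutative Qs := by
      intro hc
      obtain ⟨n, -, hn⟩ := hQs₁.exists_cj_eq hQs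
      have hc₁ : IsMulCommutative Qs₁ := hn ▸ isMulCommutative_cj hc n
      have h1 := stepI_abelian hG hM hp hPM hPc hq hr2 hQs₁ hPQs₁ hc₁
      have h2 : X ≤ Qs₁ ⊓ Subgroup.centralizer (P : Set G) := le_inf hXQs₁ (hXD.trans inf_le_right)
      rw [h1] at h2
      exact hX1 (le_bot_iff.1 h2)
    refine ⟨Cfsg.Agent.S1422.result hG q Qs hQs.2.1 hna, ?_⟩
    intro hle
    have hQsC : Qs ≤ Subgroup.centralizer (P : Set G) := hle.trans inf_le_right
    have h1 := cent_le_center_of_nonabelian hG hM hp hPM hPc hq hr2 hQs (hPQs_of_le hQsC) hna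
    apply hna
    refine ⟨⟨?_⟩⟩
    rintro ⟨a, ha⟩ ⟨b, hb⟩
    apply Subtype.ext
    have h2 := (Subgroup.mem_inf.1 (h1 (Subgroup.mem_inf.2 ⟨hb, hQsC hb⟩))).2
    exact (Subgroup.mem_centralizer_iff.1 h2) a ha
  · have hrQs : ¬ Cfsg.PRankLE q 2 ↥Qs := fun h => hr2 (BG10.pRankLE_of_isSylowIn hQsM h)
    refine ⟨uniq_of_uniquenessThm hG hU Qs hQs.2.1 hrQs, ?_⟩
    intro hle
    have hQsC : Qs ≤ Subgroup.centralizer (P : Set G) := hle.trans inf_le_right
    have hQsα : Qs ≤ Cfsg.alphaCore M :=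
      le_alphaCore_of_isPGroup hG hU hM ⟨hqp, hr2⟩ hQs.2.1 hQsM'
    have h1 := rankLE_one_alphaCore_centralizer hG hU hM hp hPc hPM q hqp
    have h2 : Cfsg.PRankLE q 1 ↥Qs := pRankLE_mono (le_inf hQsα hQsC) h1
    exact hrQs (pRankLE_succ h2)

end Cfsg.Agent.Helper23.BG14
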