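import Mathlib
import Cfsg.Agent.Helper23.BG14F
import Cfsg.Agent.Helper70.BG14N0
import Cfsg.Agent.Helper54.BG14K1

/-!
# `StepI G`, `T6 G`, `K1 G` in helper70's statement shapes (Helper70/BG14N0.lean) (helper23)
-/

set_option autoImplicit false

namespace Cfsg.Agent.Helper23.BG14

open Cfsg

variable {G : Type*} [Group G] [Finite G]

/-- STEP I in helper70's shape -/
theorem stepI_prop (hG : Cfsg.IsMinSimpleOddOrder G) : Cfsg.Agent.Helper70.BG14.StepI G := by
  intro M E hM hE p hp P hPE hPc X hX hXc L hL hNX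
  haveI : Fact p.Prime := ⟨hp.1⟩
  exact (step_I hG hM hp (hPE.trans hE.1) hPc hX hXc).2 L hL hNX

/-- STEP I in helper54's shape (the same Prop, stated in `Helper54/BG14K1.lean`) -/
theorem stepI_prop54 (hG : Cfsg.IsMinSimpleOddOrder G) : Cfsg.Agent.Helper54.BG14K1.StepI G := by
  intro M E hM hE p hp P hPE hPc X hX hXc L hL hNX
  haveI : Fact p.Prime := ⟨hp.1⟩
  exact (step_I hG hM hp (hPE.trans hE.1) hPc hX hXc).2 L hL hNX

/-- (T6) in helper70's shape -/
theorem t6_prop (hG : Cfsg.IsMinSimpleOddOrder G) : Cfsg.Agent.Helper70.BG14.T6 G := by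
  intro M E hM hE p hp P hPE hPc q hq hqD Q hQ
  haveI : Fact p.Prime := ⟨hp.1⟩
  haveI : Fact q.Prime := ⟨hq⟩
  exact t6 hG hM hp (hPE.trans hE.1) hPc hqD hQ

/-- (K1) in helper54's shape, unconditionally -/
theorem k1_prop54 (hG : Cfsg.IsMinSimpleOddOrder G) : Cfsg.Agent.Helper54.BG14K1.K1 G :=
  Cfsg.Agent.Helper54.BG14K1.k1 hG (stepI_prop54 hG)

/-- (K1) in helper70's shape, unconditionally -/
theorem k1_prop (hG : Cfsg.IsMinSimpleOddOrder G) : Cfsg.Agent.Helper70.BG14.K1 G := by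
  intro M E hM hE p hp P hPE hPc hD H hH hNP
  exact k1_prop54 hG M E hM hE p hp P hPE hPc hD H hH hNP

end Cfsg.Agent.Helper23.BG14
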