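import Cfsg.Agent.Helper74.A7Defs
import Cfsg.Agent.Helper79.CharComplete
import Cfsg.Agent.Helper89.TwoPH

/-!
# Piece (KILLD) of helper74's plan for S0984 (board #9405): the degree pattern `(1, 15, 20, 4, 4)`
of the principal 7-block is impossible (exterior square of `θ₁`)
-/

set_option autoImplicit false

namespace Cfsg.Agent.Helper23.A7

open Cfsg Cfsg.Agent.Helper74.A7
open scoped ComplexConjugate

universe u

variable {G : Type u} [Group G]

/-- (KILLD) the pattern `(1, 15, 20, 4, 4)` is impossible: look at the exterior square of `θ₁` -/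
theorem pattern_D_false [Fintype G] [Fact (Nat.Prime 7)] (B : Blk7 G) (hpat : B.Pat 15 20 4 (-1)) :
    False := by
  classical
  obtain ⟨h2, h3, ht, hδ⟩ := hpat
  have : Fintype (IrrCharacter G) := Helper74.irrFintype G
  have : Fintype (B.P : Subgroup G) := Fintype.ofFinite _
  have hcardP : Fintype.card (B.P : Subgroup G) = 7 := by
    rw [← Nat.card_eq_fintype_card]; exact B.hP
  set θ : G → ℂ := (B.θ₁ : G → ℂ) with hθ
  have hθc : IsCharacter G θ := Helper79.irr_isCharacter B.θ₁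
  have hθ1 : θ 1 = 4 := by
    rw [hθ, Helper79.irr_one, ht]; norm_num
  have hθ2deg : charDegree (B.θ₂ : G → ℂ) = 4 := by rw [B.hdegθ, ht]
  have hθ21 : (B.θ₂ : G → ℂ) 1 = 4 := by
    rw [Helper79.irr_one, hθ2deg]; norm_num
  set lam : G → ℂ := fun g => (θ g ^ 2 - θ (g * g)) / 2 with hlam
  have hlamc : IsCharacter G lam := Helper89.TwoP.isCharacter_extSq hθc
  -- multiplicities
  have hm : ∀ ψ : IrrCharacter G, ∃ m : ℕ, classInner lam (ψ : G → ℂ) = m :=
    fun ψ => Helper74.isCharacter_inner_irr_nat hlamc ψ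
  choose m hm using hm
  have hdec : ∀ g, lam g = ∑ ψ : IrrCharacter G, (m ψ : ℂ) * (ψ : G → ℂ) g := by
    intro g
    have := congrFun (Helper74.isCharacter_eq_sum_irr hlamc) g
    rw [Finset.sum_apply] at this
    rw [this]
    apply Finset.sum_congr rfl
    intro ψ _
    rw [Pi.smul_apply, smul_eq_mul, hm]
  have hlam1 : lam 1 = 6 := by
    simp only [hlam, mul_one, hθ1]; norm_num
  -- the degree count
  have hdeg : (6 : ℕ) = ∑ ψ : IrrCharacter G, m ψ * charDegree (ψ : G → ℂ) := by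
    have h := hdec 1
    rw [hlam1] at h
    have h' : (6 : ℂ) = ((∑ ψ : IrrCharacter G, m ψ * charDegree (ψ : G → ℂ) : ℕ) : ℂ) := by
      rw [h, Nat.cast_sum]
      apply Finset.sum_congr rfl
      intro ψ _
      rw [Helper79.irr_one, Nat.cast_mul]
    exact_mod_cast h'
  have hle : ∀ ψ : IrrCharacter G, m ψ * charDegree (ψ : G → ℂ) ≤ 6 := by
    intro ψ
    rw [hdeg]
    exact Finset.single_le_sum (f := fun ψ : IrrCharacter G => m ψ * charDegree (ψ : G → ℂ))
      (fun _ _ => Nat.zero_le _) (Finset.mem_univ ψ)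
  have hbig : ∀ ψ : IrrCharacter G, 7 ≤ charDegree (ψ : G → ℂ) → m ψ = 0 := by
    intro ψ h7
    by_contra hne
    have h1 : 1 ≤ m ψ := Nat.one_le_iff_ne_zero.mpr hne
    have := hle ψ
    nlinarith
  have hzero : ∀ ψ : IrrCharacter G, ψ ≠ Helper79.principalIrr G → ψ ≠ B.θ₁ → ψ ≠ B.θ₂ →
      m ψ = 0 := by
    intro ψ hψ1 hψa hψb
    rcases B.hall ψ with h | h | h | h | h | h
    · exact absurd h hψ1
    · exact hbig ψ (by rw [h, h2]; norm_num)
    · exact hbig ψ (by rw [h, h3]; norm_num)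
    · exact absurd h hψa
    · exact absurd h hψb
    · exact hbig ψ (Nat.le_of_dvd (Helper79.irr_charDegree_pos ψ) h)
  -- distinctness
  have hnd := B.nodup
  simp only [List.nodup_cons, List.mem_cons, List.not_mem_nil, or_false, not_or,
    List.nodup_nil, and_true] at hnd
  obtain ⟨⟨-, -, h1a, h1b⟩, -, -, hab, -⟩ := hnd
  have hsum3 : ∀ f : IrrCharacter G → ℂ, (∀ ψ, m ψ = 0 → f ψ = 0) →
      ∑ ψ : IrrCharacter G, f ψ = f (Helper79.principalIrr G) + (f B.θ₁ + f B.θ₂) := by
    intro f hf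
    have hsub : ({Helper79.principalIrr G, B.θ₁, B.θ₂} : Finset (IrrCharacter G)) ⊆ Finset.univ :=
      Finset.subset_univ _
    rw [← Finset.sum_subset hsub]
    · rw [Finset.sum_insert, Finset.sum_pair hab]
      simp only [Finset.mem_insert, Finset.mem_singleton, not_or]
      exact ⟨h1a, h1b⟩
    · intro ψ _ hψ
      simp only [Finset.mem_insert, Finset.mem_singleton, not_or] at hψ
      exact hf ψ (hzero ψ hψ.1 hψ.2.1 hψ.2.2)
  set m1 := m (Helper79.principalIrr G) with hm1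
  set ma := m B.θ₁ with hma
  set mb := m B.θ₂ with hmb
  have hdec3 : ∀ g, lam g = (m1 : ℂ) + ((ma : ℂ) * θ g + (mb : ℂ) * (B.θ₂ : G → ℂ) g) := by
    intro g
    rw [hdec g, hsum3 (fun ψ => (m ψ : ℂ) * (ψ : G → ℂ) g)
      (fun ψ h0 => by simp only [h0, Nat.cast_zero, zero_mul])]
    show (m1 : ℂ) * 1 + _ = _
    rw [mul_one]
  -- the degree equation
  have hE1 : m1 + 4 * ma + 4 * mb = 6 := by
    have h := hdec3 1
    rw [hlam1, hθ1, hθ21] at h
    have h' : ((6 : ℕ) : ℂ) = ((m1 + 4 * ma + 4 * mb : ℕ) : ℂ) := by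
      push_cast
      rw [h]; ring
    exact_mod_cast h'.symm
  -- sums over `P`
  have hS1 : ∑ z : (B.P : Subgroup G), θ (z : G) = 7 := by
    have h := B.hY1 B.θ₁ (Or.inl rfl)
    rw [finsum_eq_sum_of_fintype, ht, hδ] at h
    rw [h]; norm_num
  have hS1b : ∑ z : (B.P : Subgroup G), (B.θ₂ : G → ℂ) (z : G) = 7 := by
    have h := B.hY1 B.θ₂ (Or.inr rfl)
    rw [finsum_eq_sum_of_fintype, hθ2deg, hδ] at h
    rw [h]; norm_num
  have hS2 : ∑ z : (B.P : Subgroup G), θ (z : G) * conj (θ (z : G)) = 28 := by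
    have h := B.hY2 B.θ₁ (Or.inl rfl)
    rw [finsum_eq_sum_of_fintype, ht] at h
    rw [h]; norm_num
  have hcop : (Nat.card (B.P : Subgroup G)).Coprime 2 := by rw [B.hP]; norm_num
  have hbij : ∑ z : (B.P : Subgroup G), θ ((z : G) * (z : G)) =
      ∑ z : (B.P : Subgroup G), θ (z : G) := by
    have := Equiv.sum_comp (powCoprime hcop) (fun z : (B.P : Subgroup G) => θ (z : G))
    rw [← this]
    apply Finset.sum_congr rfl
    intro z _
    show θ ((z : G) * (z : G)) = θ (((z ^ 2 : (B.P : Subgroup G)) : G))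
    rw [Subgroup.coe_pow, pow_two]
  -- the sum of the squares
  have hlamsum : ∑ z : (B.P : Subgroup G), lam (z : G) =
      (∑ z : (B.P : Subgroup G), θ (z : G) ^ 2 - 7) / 2 := by
    simp only [hlam]
    rw [← Finset.sum_div, Finset.sum_sub_distrib, hbij, hS1]
  have hlamsum' : ∑ z : (B.P : Subgroup G), lam (z : G) = 7 * (m1 : ℂ) + 7 * (ma : ℂ) + 7 * (mb : ℂ) := by
    simp only [hdec3]
    rw [Finset.sum_add_distrib, Finset.sum_add_distrib, ← Finset.mul_sum, ← Finset.mul_sum, hS1,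
      hS1b, Finset.sum_const, Finset.card_univ, hcardP]
    simp only [nsmul_eq_mul]
    push_cast
    ring
  have hSq : ∑ z : (B.P : Subgroup G), θ (z : G) ^ 2 = ((14 * (m1 + ma + mb) + 7 : ℕ) : ℂ) := by
    have h := hlamsum.symm.trans hlamsum'
    push_cast
    linear_combination 2 * h
  -- the bound
  have hnorm : ∑ z : (B.P : Subgroup G), ‖θ (z : G)‖ ^ 2 = 28 := by
    have h : ((∑ z : (B.P : Subgroup G), ‖θ (z : G)‖ ^ 2 : ℝ) : ℂ) = ((28 : ℝ) : ℂ) := by
      rw [Complex.ofReal_sum]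
      push_cast
      rw [← hS2]
      apply Finset.sum_congr rfl
      intro z _
      rw [Complex.mul_conj, Complex.normSq_eq_norm_sq]
      push_cast
      rfl
    exact_mod_cast h
  have hbound : ‖∑ z : (B.P : Subgroup G), θ (z : G) ^ 2‖ ≤ 28 := by
    rw [← hnorm]
    refine (norm_sum_le _ _).trans (le_of_eq ?_)
    apply Finset.sum_congr rfl
    intro z _
    rw [norm_pow]
  rw [hSq, Complex.norm_natCast] at hbound
  have hK : 3 ≤ m1 + ma + mb := by omega
  have : (49 : ℝ) ≤ ((14 * (m1 + ma + mb) + 7 : ℕ) : ℝ) := by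
    have : 49 ≤ 14 * (m1 + ma + mb) + 7 := by omega
    exact_mod_cast this
  linarith

end Cfsg.Agent.Helper23.A7
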