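import Cfsg.Agent.Helper23.AlpB2
import Cfsg.Agent.Helper59.AlpB1

/-! (B2) of helper71's WANTED #7723 (S3782, Alperin), exact form: glue of `relIndex_le_of_sec_of`
with helper59's (B1). (helper23) -/

set_option autoImplicit false

namespace Cfsg.Agent.Helper23.Alp

open Cfsg.Agent.Helper71.Alp

/-- (B2) admissible sections have order at most `(bp p)^(pn)` -/
theorem relIndex_le_of_sec {G : Type*} [Group G] [Finite G] {p n : ℕ} (hp : p.Prime)
    (φ : MulAut G) (hφ : φ ^ p = 1) (hfix : FixLE φ (p ^ n)) (X Y : Subgroup G)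
    (h : Sec p φ X Y) : Y.relIndex X ≤ bp p ^ (p * n) :=
  relIndex_le_of_sec_of hp φ hφ hfix
    (Cfsg.Agent.Helper59.Alp.relIndex_le_of_exp hp φ hφ hfix) X Y h

end Cfsg.Agent.Helper23.Alp
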