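import Cfsg.Agent.S1401
import Cfsg.Agent.S1451
import Cfsg.Agent.Helper23.Basic
import Cfsg.Agent.Helper31.BGTrans
import Cfsg.Agent.Helper31.BenderMax
import Cfsg.Agent.Helper54.BGUnique3
import Cfsg.Agent.Helper4.BGUniqA

/-!
# Bender–Glauberman Theorem 9.5, step (1) of helper48's reconstruction (helper23)

For every maximal subgroup `M ≥ A` (where `A` is a `p`-subgroup of rank at least three and no
maximal subgroup has a Fitting subgroup of `p`-rank at least three) there are a prime `q ≠ p` and a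
nontrivial maximal `A`-invariant `q`-subgroup `Q` with `N_G(Q) ≤ M`.
-/

set_option autoImplicit false
set_option linter.unusedSectionVars false
set_option linter.unusedVariables false
set_option linter.style.haveILetI false

namespace Cfsg.Agent.Helper23.BG95

open Cfsg Cfsg.Agent.Helper31 Cfsg.Agent.Helper29.Bender

variable {G : Type*} [Group G] [Finite G]

/-- The image in `G` of a normal subgroup of `M` is normalized by `M`. -/
theorem le_normalizer_map_of_normal {M : Subgroup G} (N : Subgroup ↥M) [hN : N.Normal] :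
    M ≤ Subgroup.normalizer ((N.map M.subtype : Subgroup G) : Set G) := by
  intro a ha
  apply Subgroup.mem_normalizer_fintype
  rintro _ ⟨m, hm, rfl⟩
  exact ⟨⟨a, ha⟩ * m * ⟨a, ha⟩⁻¹, hN.conj_mem m hm _, rfl⟩

/-- A proper subgroup containing a uniqueness subgroup lies in its unique maximal subgroup. -/
theorem le_of_inUniqueMaximal {E M X : Subgroup G} (hE : InUniqueMaximal E) (hM : IsCoatom M)
    (hEM : E ≤ M) (hX : X ≠ ⊤) (hEX : E ≤ X) : X ≤ M := by
  obtain ⟨M', hM', hXM'⟩ := (eq_top_or_exists_le_coatom X).resolve_left hX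
  have h1 : M' = M := hE.unique ⟨hM', hEX.trans hXM'⟩ ⟨hM, hEM⟩
  rw [← h1]
  exact hXM'

/-- Case (a): some prime `t` has `r_t(F(M)) ≥ 3`. -/
theorem exists_maxInv_of_fitting_rank_three (hG : IsMinSimpleOddOrder G) (A M : Subgroup G)
    (hM : IsCoatom M) (hAM : A ≤ M) (t : ℕ) [ht : Fact t.Prime]
    (hF : ¬ PRankLE t 2 ↥(fittingOf M)) :
    ∃ Q ∈ maxInvSubgroups ⊤ A {t}, Q ≠ ⊥ ∧ Subgroup.normalizer (Q : Set G) ≤ M := by
  haveI hs : IsSimpleGroup G := hG.2.1
  have hF' := hF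
  rw [Cfsg.Agent.Helper21.not_prankLE_iff] at hF'
  obtain ⟨E, hEF, hEc, hEe, hEcard⟩ := hF'
  have hEp : IsPGroup t E := Cfsg.Agent.Helper54.BGU.isPGroup_of_exp hEe
  have hEcomm : IsMulCommutative E := ⟨⟨fun a b => Subtype.ext (hEc a a.2 b b.2)⟩⟩
  have hE3 : ¬ PRankLE t 2 ↥E := by
    rw [Cfsg.Agent.Helper21.not_prankLE_iff]
    exact ⟨E, le_rfl, hEc, hEe, hEcard⟩
  have hEU : InUniqueMaximal E := Cfsg.Agent.S1401.result hG M hM t hF E hEp hEcomm hE3
  have hEM : E ≤ M := hEF.trans (fittingOf_le M)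
  -- `T = O_t(M)`
  set T : Subgroup G := (pCore t ↥M).map M.subtype with hT
  have hTt : IsPGroup t T := (Cfsg.Agent.Lib.isPGroup_pCore t).map M.subtype
  have hET : E ≤ T := by
    intro e he
    obtain ⟨x, hx, hxe⟩ := hEF he
    refine ⟨x, ?_, hxe⟩
    apply mem_pCore_of_mem_fittingSubgroup hx
    refine ⟨1, ?_⟩
    apply Subtype.ext
    have := hEe _ he
    rw [← hxe] at this
    simpa using this
  have hMT : M ≤ Subgroup.normalizer (T : Set G) := le_normalizer_map_of_normal _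
  obtain ⟨Q, hQ, hTQ⟩ :=
    exists_maxInv_ge (mem_invSubgroups_of_isPGroup ht.out hTt (hAM.trans hMT))
  have hQt := isPGroup_of_mem_maxInv ht.out hQ
  have hE0 : E ≠ ⊥ := by
    intro h
    rw [h, Subgroup.card_bot] at hEcard
    have : 0 < t ^ 2 := pow_pos ht.out.pos 2
    omega
  have hEQ : E ≤ Q := hET.trans hTQ
  have hQ0 : Q ≠ ⊥ := by
    intro h
    apply hE0
    rw [eq_bot_iff, ← h]
    exact hEQ
  have hNtop := Cfsg.Agent.Helper4.BGU.normalizer_ne_top_of_isPGroup hG.2.2.1 hQt hQ0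
  exact ⟨Q, hQ, hQ0, le_of_inUniqueMaximal hEU hM hEM hNtop (hEQ.trans Subgroup.le_normalizer)⟩

/-- Case (b): `F(M)` has rank at most two. -/
theorem exists_maxInv_of_fitting_rank_le_two (hG : IsMinSimpleOddOrder G) (p : ℕ)
    [hp : Fact p.Prime] (A M : Subgroup G) (hM : IsCoatom M) (hAM : A ≤ M) (hAp : IsPGroup p A)
    (hA3 : ¬ PRankLE p 2 ↥A) (hr : RankLE 2 ↥(fittingOf M)) :
    ∃ q : ℕ, q.Prime ∧ q ≠ p ∧ ∃ Q ∈ maxInvSubgroups ⊤ A {q}, Q ≠ ⊥ ∧
      Subgroup.normalizer (Q : Set G) ≤ M := by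
  classical
  haveI hs : IsSimpleGroup G := hG.2.1
  haveI hMs : Group.IsSolvable ↥M := hG.2.2.2 M hM.1
  have hoddM : Odd (Nat.card ↥M) := Odd.of_dvd_nat hG.1 (Subgroup.card_subgroup_dvd_card M)
  have hr' : RankLE 2 ↥(fittingSubgroup ↥M) := by
    intro r hr0
    exact (Cfsg.Agent.Helper23.pRankLE_of_mulEquiv r 2
      ((fittingSubgroup ↥M).equivMapOfInjective M.subtype M.subtype_injective)).mpr (hr r hr0)
  obtain ⟨-, -, htower⟩ := Cfsg.Agent.S1451.result hoddM (Or.inr hr')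
  have hA3' := hA3
  rw [Cfsg.Agent.Helper21.not_prankLE_iff] at hA3'
  -- `|M| ≠ 1`
  have hM1 : Nat.card ↥M ≠ 1 := by
    intro h
    obtain ⟨E, hEA, -, -, hEcard⟩ := hA3'
    have h1 : Nat.card ↥E ≤ Nat.card ↥M := Subgroup.card_le_of_le (hEA.trans hAM)
    have : 0 < p ^ 2 := pow_pos hp.out.pos 2
    omega
  have hne : (Nat.card ↥M).primeFactors.Nonempty := Nat.nonempty_primeFactors.mpr (by
    have := Nat.card_pos (α := ↥M); omega)
  set q := (Nat.card ↥M).primeFactors.max' hne with hq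
  have hqmem : q ∈ (Nat.card ↥M).primeFactors := Finset.max'_mem _ _
  have hqp : q.Prime := Nat.prime_of_mem_primeFactors hqmem
  have hqM : q ∣ Nat.card ↥M := Nat.dvd_of_mem_primeFactors hqmem
  have hqmax : ∀ r : ℕ, r.Prime → r ∣ Nat.card ↥M → r ≤ q := fun r hr hrM =>
    Finset.le_max' _ _ (Nat.mem_primeFactors.mpr ⟨hr, hrM, Nat.card_pos.ne'⟩)
  obtain ⟨N, hNchar, hNhall⟩ := htower (q - 1)
  haveI : Fact q.Prime := ⟨hqp⟩
  haveI hNn : N.Normal := inferInstance
  have hNq : IsPGroup q ↥N := by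
    apply isPGroup_of_primes_singleton hqp
    intro r hr hrN
    have h1 := (hNhall.1 r hr hrN).2
    have h2 := hqmax r hr (hrN.trans (Subgroup.card_subgroup_dvd_card N))
    have h3 : r = q := by omega
    exact h3
  have hNidx : ¬ q ∣ N.index := hNhall.2 q hqp ⟨hqp, by have := hqp.pos; omega⟩
  have hNcop : (N.index).Coprime q := ((Nat.Prime.coprime_iff_not_dvd hqp).mpr hNidx).symm
  set Q : Subgroup G := N.map M.subtype with hQdef
  have hQq : IsPGroup q ↥Q := hNq.map M.subtype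
  have hQM : Q ≤ M := Subgroup.map_subtype_le _
  have hMQ : M ≤ Subgroup.normalizer (Q : Set G) := le_normalizer_map_of_normal N
  have hN0 : N ≠ ⊥ := by
    intro h
    apply hNidx
    rw [h, Subgroup.index_bot]
    exact hqM
  have hQ0 : Q ≠ ⊥ := by
    intro h
    exact hN0 ((Subgroup.map_eq_bot_iff_of_injective N M.subtype_injective).mp h)
  have hNQ : Subgroup.normalizer (Q : Set G) = M :=
    Cfsg.Agent.Helper54.BGU.normalizer_eq_of_coatom hM hQ0 hQM hMQ
  -- every `q`-subgroup of `M` lies in `Q`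
  have key : ∀ X : Subgroup G, X ≤ M → IsPGroup q ↥X → X ≤ Q := by
    intro X hXM hXq
    have h1 : IsPGroup q ↥(X.subgroupOf M) :=
      hXq.of_equiv (Subgroup.subgroupOfEquivOfLe hXM).symm
    have h2 : X.subgroupOf M ≤ N :=
      Cfsg.Agent.Helper54.BGU.le_of_normal_of_coprime_index N hNcop _ h1
    intro x hx
    exact ⟨⟨x, hXM hx⟩, h2 (Subgroup.mem_subgroupOf.mpr hx), rfl⟩
  have hqnep : q ≠ p := by
    intro hqp'
    have hAQ : A ≤ Q := key A hAM (hqp' ▸ hAp)
    have hNF : N ≤ fittingSubgroup ↥M := Cfsg.Agent.Lib.le_fittingSubgroup hNn hNq.isNilpotent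
    have hQF : Q ≤ fittingOf M := Subgroup.map_mono hNF
    have h3 : ¬ PRankLE p 2 ↥(fittingOf M) := by
      rw [Cfsg.Agent.Helper21.not_prankLE_iff]
      obtain ⟨E, hEA, h1, h2, h3⟩ := hA3'
      exact ⟨E, hEA.trans (hAQ.trans hQF), h1, h2, h3⟩
    exact h3 (hr p hp.out)
  refine ⟨q, hqp, hqnep, Q, ⟨mem_invSubgroups_of_isPGroup hqp hQq (hAM.trans hMQ), ?_⟩, hQ0,
    hNQ.le⟩
  intro R hR hQR
  have hRq : IsPGroup q ↥R := isPGroup_of_primes_singleton hqp hR.2.1
  by_contra hne'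
  have hlt : Q < R := lt_of_le_of_ne hQR (Ne.symm hne')
  have h1 := bgt_lt_inf_normalizer_of_lt hRq hlt
  have h2 : R ⊓ Subgroup.normalizer (Q : Set G) ≤ Q :=
    key _ (inf_le_right.trans hNQ.le) (hRq.to_le inf_le_left)
  exact (lt_of_lt_of_le h1 h2).false

/-- **Step (1).** For every maximal subgroup `M ≥ A` there are a prime `q ≠ p` and a nontrivial maximal
`A`-invariant `q`-subgroup `Q` with `N_G(Q) ≤ M`. -/
theorem exists_maxInv_normalizer_le (hG : IsMinSimpleOddOrder G) (p : ℕ) [hp : Fact p.Prime]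
    (A : Subgroup G) (hAp : IsPGroup p A) (hA3 : ¬ PRankLE p 2 ↥A)
    (h0 : ∀ M : Subgroup G, IsCoatom M → PRankLE p 2 ↥(fittingOf M))
    (M : Subgroup G) (hM : IsCoatom M) (hAM : A ≤ M) :
    ∃ q : ℕ, q.Prime ∧ q ≠ p ∧ ∃ Q ∈ maxInvSubgroups ⊤ A {q}, Q ≠ ⊥ ∧
      Subgroup.normalizer (Q : Set G) ≤ M := by
  by_cases hr : RankLE 2 ↥(fittingOf M)
  · exact exists_maxInv_of_fitting_rank_le_two hG p A M hM hAM hAp hA3 hr
  · unfold RankLE at hr
    push Not at hr
    obtain ⟨t, ht, hFt⟩ := hr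
    haveI : Fact t.Prime := ⟨ht⟩
    have htp : t ≠ p := by
      rintro rfl
      exact hFt (h0 M hM)
    obtain ⟨Q, hQ, hQ0, hNQ⟩ := exists_maxInv_of_fitting_rank_three hG A M hM hAM t hFt
    exact ⟨t, ht, htp, Q, hQ, hQ0, hNQ⟩

end Cfsg.Agent.Helper23.BG95
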