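import Cfsg.Agent.Helper23.BG95A
import Mathlib.GroupTheory.Transfer

/-!
# Bender–Glauberman Theorem 9.5, step (2) of helper48's reconstruction (helper23)

`Z = [A, N_G(A)] ≠ 1` for `A ∈ SCN(P)`, `A ≠ 1`, by Burnside's transfer theorem.
-/

set_option autoImplicit false
set_option linter.unusedSectionVars false
set_option linter.unusedVariables false
set_option linter.style.haveILetI false

namespace Cfsg.Agent.Helper23.BG95

open Cfsg

variable {G : Type*} [Group G] [Finite G]

/-- **Step (2).** `[A, N_G(A)] ≠ 1`. -/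
theorem commutator_normalizer_ne_bot (hG : IsMinSimpleOddOrder G) (p : ℕ) [hp : Fact p.Prime]
    (P : Sylow p G) (A : Subgroup G) (hA : IsSCN (P : Subgroup G) A) (hA0 : A ≠ ⊥) :
    ⁅A, Subgroup.normalizer (A : Set G)⁆ ≠ ⊥ := by
  intro hbot
  haveI hs : IsSimpleGroup G := hG.2.1
  rw [Subgroup.commutator_eq_bot_iff_le_centralizer] at hbot
  -- `P ≤ C_G(A)`, so `P = A`
  have hPC : (P : Subgroup G) ≤ Subgroup.centralizer (A : Set G) := by
    intro x hx
    rw [Subgroup.mem_centralizer_iff]
    intro a ha
    have h1 := hbot ha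
    rw [Subgroup.mem_centralizer_iff] at h1
    exact (h1 x (hA.2.1 hx)).symm
  have hPA : (P : Subgroup G) = A := by
    apply le_antisymm
    · rw [← hA.2.2]
      exact le_inf le_rfl hPC
    · exact hA.1
  have hNC : Subgroup.normalizer ((P : Subgroup G) : Set G) ≤
      Subgroup.centralizer ((P : Subgroup G) : Set G) := by
    rw [hPA]
    intro n hn
    rw [Subgroup.mem_centralizer_iff]
    intro a ha
    have h1 := hbot ha
    rw [Subgroup.mem_centralizer_iff] at h1
    exact (h1 n hn).symm
  have hcompl := MonoidHom.ker_transferSylow_isComplement' P hNC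
  rcases (inferInstance : (MonoidHom.transferSylow P hNC).ker.Normal).eq_bot_or_eq_top with h | h
  · -- `P = ⊤`
    rw [h] at hcompl
    have hPtop : (P : Subgroup G) = ⊤ := Subgroup.isComplement'_bot_left.mp hcompl
    apply Cfsg.Agent.Helper4.BGU.not_isPGroup_of_simple (G := G) hG.2.2.1 (p := p)
    intro g
    obtain ⟨k, hk⟩ := P.2 ⟨g, by rw [hPtop]; trivial⟩
    exact ⟨k, by simpa using congrArg Subtype.val hk⟩
  · rw [h] at hcompl
    have hPbot : (P : Subgroup G) = ⊥ := Subgroup.isComplement'_top_left.mp hcompl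
    exact hA0 (hPA ▸ hPbot)

end Cfsg.Agent.Helper23.BG95
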