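import Mathlib

/-! (AR2) of helper54's WANTED #7605 (S0998): `arith_plus`. (helper23) -/

set_option autoImplicit false

namespace Cfsg.Agent.Helper23.BT

theorem two_pow_mod_three (j : ℕ) : 2 ^ j % 3 = 1 ∨ 2 ^ j % 3 = 2 := by
  induction j with
  | zero => left; norm_num
  | succ k ih =>
    rw [pow_succ]
    rcases ih with h | h <;> omega

/-- (AR2) case `δ = +1` -/
theorem arith_plus (p q r b : ℕ) (hp : p.Prime) (hq : q.Prime) (hr : r.Prime) (hr2 : r ≠ 2)
    (hpr : p = 2 * r + 1) (hdvd : p + 1 ∣ r * q ^ b) : q = 2 ∧ p = 7 ∧ r = 3 := by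
  have hr3 : 2 ≤ r := hr.two_le
  have hcop : Nat.Coprime (p + 1) r := by
    have h1 : p + 1 = 2 * (r + 1) := by omega
    rw [h1]
    apply Nat.Coprime.mul_left
    · exact (Nat.coprime_primes Nat.prime_two hr).2 (Ne.symm hr2)
    · simp
  have h2 : p + 1 ∣ q ^ b := hcop.dvd_of_dvd_mul_left hdvd
  have h2q : 2 ∣ q ^ b := dvd_trans ⟨r + 1, by omega⟩ h2
  have hq2 : q = 2 :=
    ((Nat.prime_dvd_prime_iff_eq Nat.prime_two hq).1 (Nat.prime_two.dvd_of_dvd_pow h2q)).symm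
  subst hq2
  obtain ⟨j, -, hj⟩ := (Nat.dvd_prime_pow Nat.prime_two).1 h2
  refine ⟨rfl, ?_⟩
  rcases two_pow_mod_three j with h | h
  · exfalso
    have h3 : 3 ∣ p := by omega
    have hp3 : p = 3 := ((Nat.prime_dvd_prime_iff_eq Nat.prime_three hp).1 h3).symm
    omega
  · have h3 : 3 ∣ r := by omega
    have hr3' : r = 3 := ((Nat.prime_dvd_prime_iff_eq Nat.prime_three hr).1 h3).symm
    omega

end Cfsg.Agent.Helper23.BT
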