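import Mathlib
import Cfsg.Agent.Helper2.CS2Defs
import Cfsg.Agent.Helper2.CS2Basic
import Cfsg.Agent.S4127

/-!
# S4284 piece (AH) `caseA_H` (helper23, for helper2)

Case A with `m = t ^ a`: the normal `t`-complement `H` (from S4127) is abelian, noncentral,
`C(y) = C_G(H)` for every `t`-element `y` of class size `m`, and `C_G(H)` is abelian.
-/

set_option autoImplicit false
set_option linter.unusedVariables false
set_option linter.unusedSectionVars false

namespace Cfsg.Agent.Helper23.CS2
open Cfsg.Agent.Helper2.CS2 Subgroup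

variable {G : Type*} [Group G] [Finite G] {m n : ℕ}

/-- data of a normal `t`-complement -/
theorem npc_data {t : ℕ} [Fact t.Prime] (h : Cfsg.HasNormalPComplement t G) :
    ∃ H : Subgroup G, H.Normal ∧ (Nat.card H).Coprime t ∧ ∃ k : ℕ, H.index = t ^ k := by
  obtain ⟨P, N, hN, hc⟩ := h
  refine ⟨N, hN, ?_, ?_⟩
  · have h1 : Nat.card N = (P : Subgroup G).index := by
      have h2 := hc.card_mul
      have h3 := (P : Subgroup G).card_mul_index
      have hpos : 0 < Nat.card (P : Subgroup G) := Nat.card_pos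
      apply Nat.eq_of_mul_eq_mul_right hpos
      rw [h2, mul_comm, h3]
    rw [h1]
    have h4 := P.card_coprime_index
    have hP := P.card_eq_multiplicity
    by_cases hv : (Nat.card G).factorization t = 0
    · rw [Nat.factorization_eq_zero_iff] at hv
      rcases hv with hv | hv | hv
      · exact absurd (Fact.out : t.Prime) hv
      · have : ¬ t ∣ (P : Subgroup G).index := fun hd =>
          hv (hd.trans (P : Subgroup G).index_dvd_card)
        exact ((Nat.Prime.coprime_iff_not_dvd Fact.out).2 this).symm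
      · exact absurd hv Nat.card_pos.ne'
    · rw [hP] at h4
      exact (Nat.Coprime.symm ((Nat.coprime_pow_left_iff (Nat.pos_of_ne_zero hv) _ _).1 h4)).symm.symm
  · refine ⟨(Nat.card G).factorization t, ?_⟩
    have h2 := hc.card_mul
    have h3 := N.card_mul_index
    have hpos : 0 < Nat.card N := Nat.card_pos
    rw [← P.card_eq_multiplicity]
    apply Nat.eq_of_mul_eq_mul_left hpos
    rw [h3, h2]


/-- an element of order prime to `t` lies in every normal subgroup of `t`-power index -/
theorem mem_of_coprime_of_index_pow {t : ℕ} [Fact t.Prime] (H : Subgroup G) [H.Normal] {k : ℕ}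
    (hk : H.index = t ^ k) {u : G} (hu : (orderOf u).Coprime t) : u ∈ H := by
  rw [← QuotientGroup.eq_one_iff]
  have h1 : orderOf (u : G ⧸ H) ∣ orderOf u := orderOf_map_dvd (QuotientGroup.mk' H) u
  have h2 : orderOf (u : G ⧸ H) ∣ t ^ k := by
    rw [← hk, Subgroup.index_eq_card]
    exact orderOf_dvd_natCard _
  have h3 : (orderOf (u : G ⧸ H)).Coprime (t ^ k) :=
    Nat.Coprime.pow_right k (Nat.Coprime.coprime_dvd_left h1 hu)
  have h4 : orderOf (u : G ⧸ H) = 1 := h3.eq_one_of_dvd h2
  exact orderOf_eq_one_iff.1 h4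

/-- elements of a subgroup of order prime to `t` have order prime to `t` -/
theorem orderOf_coprime_of_mem {t : ℕ} (H : Subgroup G) (hH : (Nat.card H).Coprime t) {u : G}
    (hu : u ∈ H) : (orderOf u).Coprime t :=
  Nat.Coprime.coprime_dvd_left (Subgroup.orderOf_dvd_natCard H hu) hH

/-- decomposition of an element into commuting `t`-part and `t'`-part, both powers of it -/
theorem exists_tpart_decomp (t : ℕ) [Fact t.Prime] (g : G) :
    ∃ u y : G, u ∈ Subgroup.zpowers g ∧ y ∈ Subgroup.zpowers g ∧ u * y = g ∧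
      IsPElt t u ∧ (orderOf y).Coprime t := by
  have hp : t.Prime := Fact.out
  obtain ⟨e, m', hm, hn⟩ := Nat.exists_eq_pow_mul_and_not_dvd (orderOf_pos g).ne' t hp.one_lt.ne'
  have hcop : Nat.Coprime (t ^ e) m' :=
    Nat.Coprime.pow_left e ((Nat.Prime.coprime_iff_not_dvd hp).2 hm)
  have hb := Nat.gcd_eq_gcd_ab (t ^ e) m'
  rw [hcop.gcd_eq_one, Nat.cast_one] at hb
  set a := Nat.gcdA (t ^ e) m' with ha
  set b := Nat.gcdB (t ^ e) m' with hb'
  refine ⟨(g ^ m') ^ b, (g ^ (t ^ e)) ^ a, ?_, ?_, ?_, ?_, ?_⟩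
  · exact Subgroup.zpow_mem _ (Subgroup.pow_mem _ (Subgroup.mem_zpowers g) _) _
  · exact Subgroup.zpow_mem _ (Subgroup.pow_mem _ (Subgroup.mem_zpowers g) _) _
  · rw [← zpow_natCast g m', ← zpow_natCast g (t ^ e), ← zpow_mul, ← zpow_mul, ← zpow_add]
    have : (m' : ℤ) * b + ((t ^ e : ℕ) : ℤ) * a = 1 := by
      rw [add_comm]; exact hb.symm
    rw [this, zpow_one]
  · have h1 : ((g ^ m') ^ b) ^ (t ^ e) = 1 := by
      rw [← zpow_natCast, ← zpow_mul, mul_comm, zpow_mul, zpow_natCast, ← pow_mul, mul_comm, ← hn,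
        pow_orderOf_eq_one, one_zpow]
    obtain ⟨i, -, hi⟩ := (Nat.dvd_prime_pow hp).1 (orderOf_dvd_of_pow_eq_one h1)
    exact ⟨i, hi⟩
  · have h1 : ((g ^ (t ^ e)) ^ a) ^ m' = 1 := by
      rw [← zpow_natCast, ← zpow_mul, mul_comm, zpow_mul, zpow_natCast, ← pow_mul, ← hn,
        pow_orderOf_eq_one, one_zpow]
    have h2 : orderOf ((g ^ (t ^ e)) ^ a) ∣ m' := orderOf_dvd_of_pow_eq_one h1
    exact Nat.Coprime.coprime_dvd_left h2 ((Nat.Prime.coprime_iff_not_dvd hp).2 hm).symm

/-- `|K : K ∩ N| * |G : KN| = |G : K|` for `N` normal -/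
theorem relIndex_mul_index_sup (K N : Subgroup G) [N.Normal] :
    K.relIndex N * (K ⊔ N).index = K.index := by
  have h1 : (K ⊓ N).relIndex N * N.index = (K ⊓ N).index := relIndex_mul_index inf_le_right
  have h2 : (K ⊓ N).relIndex K * K.index = (K ⊓ N).index := relIndex_mul_index inf_le_left
  rw [inf_relIndex_right] at h1
  rw [inf_relIndex_left] at h2
  have h3 : N.relIndex (K ⊔ N) = N.relIndex K := relIndex_sup_right K N
  have h4 : N.relIndex (K ⊔ N) * (K ⊔ N).index = N.index := relIndex_mul_index le_sup_right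
  have h5 : N.relIndex K ≠ 0 := by
    rw [relIndex]; exact index_ne_zero_of_finite
  have : N.relIndex K * K.index = N.relIndex K * (K.relIndex N * (K ⊔ N).index) := by
    rw [h2, ← h1, ← h4, h3]; ring
  exact (Nat.eq_of_mul_eq_mul_left (Nat.pos_of_ne_zero h5) this).symm


theorem not_dvd_n_of_dvd_m (h : Hyp G m n) {t : ℕ} (ht : t.Prime) (htm : t ∣ m) : ¬ t ∣ n :=
  (Nat.Prime.coprime_iff_not_dvd ht).1 (Nat.Coprime.coprime_dvd_left htm h.cop)

/-- `t`-adic valuation of the noncentral class sizes when `m = t ^ a` -/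
theorem factorization_idx (h : Hyp G m n) {t : ℕ} (ht : t.Prime) (htm : t ∣ m) (a : ℕ)
    (hma : m = t ^ a) {y : G} (hy : y ∉ center G) : (idx y).factorization t = a := by
  have htn := not_dvd_n_of_dvd_m h ht htm
  rcases h.idx_of_not_mem_center hy with h1 | h1
  · rw [h1, hma, ht.factorization_pow, Finsupp.single_eq_same]
  · rw [h1, hma, Nat.factorization_mul (pow_pos ht.pos a).ne' (h.n_pos).ne', Finsupp.add_apply,
      ht.factorization_pow, Finsupp.single_eq_same, Nat.factorization_eq_zero_of_not_dvd htn,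
      add_zero]

theorem card_Cn_factorization (y : G) (t : ℕ) :
    (Nat.card (Cn y)).factorization t + (idx y).factorization t =
      (Nat.card G).factorization t := by
  have h1 : Nat.card (Cn y) * idx y = Nat.card G := (Cn y).card_mul_index
  rw [← h1, Nat.factorization_mul Nat.card_pos.ne' index_ne_zero_of_finite, Finsupp.add_apply]

/-- a `t`-subgroup of the centralizer of a noncentral element has order at most `t ^ (v - a)` -/
theorem card_le_of_le_Cn (h : Hyp G m n) {t : ℕ} (ht : t.Prime) (htm : t ∣ m) (a : ℕ)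
    (hma : m = t ^ a) {y : G} (hy : y ∉ center G) (L : Subgroup G) {j : ℕ}
    (hL : Nat.card L = t ^ j) (hLy : L ≤ Cn y) :
    j + a ≤ (Nat.card G).factorization t := by
  have h1 := card_Cn_factorization y t
  rw [factorization_idx h ht htm a hma hy] at h1
  have h2 : t ^ j ∣ Nat.card (Cn y) := by
    rw [← hL]; exact Subgroup.card_dvd_of_le hLy
  have h3 : j ≤ (Nat.card (Cn y)).factorization t :=
    (ht.pow_dvd_iff_le_factorization Nat.card_pos.ne').1 h2
  omega


/-- if `i(x) = t ^ a` with `a ≥ 1`, there are a `t`-subgroup `Q ≤ C(x)` and `g ∉ C(x)` such that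
`⟨Q, g⟩` is a `t`-group of order `t ^ j`, `j + a > v_t(|G|)` -/
theorem exists_big (x : G) (t a : ℕ) [Fact t.Prime] (ha : 1 ≤ a) (hxm : idx x = t ^ a) :
    ∃ (Q : Subgroup G) (g : G) (j : ℕ), Q ≤ Cn x ∧ IsPGroup t Q ∧ g ∉ Cn x ∧
      Nat.card (Q ⊔ zpowers g : Subgroup G) = t ^ j ∧ (Nat.card G).factorization t < j + a := by
  have ht : t.Prime := Fact.out
  have hv := card_Cn_factorization x t
  rw [hxm, ht.factorization_pow, Finsupp.single_eq_same] at hv
  set w := (Nat.card (Cn x)).factorization t with hw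
  obtain ⟨Q0⟩ : Nonempty (Sylow t (Cn x)) := inferInstance
  set Q : Subgroup G := (Q0 : Subgroup (Cn x)).map (Cn x).subtype with hQ
  have hQle : Q ≤ Cn x := by
    rintro _ ⟨q, -, rfl⟩
    exact q.2
  have hQcard : Nat.card Q = t ^ w := by
    rw [hQ, Subgroup.card_map_of_injective (Cn x).subtype_injective, Q0.card_eq_multiplicity]
  have hQp : IsPGroup t Q := IsPGroup.of_card hQcard
  have hdvd : t ^ (w + 1) ∣ Nat.card G := by
    have h1 : t ^ (w + 1) ∣ t ^ (Nat.card G).factorization t := pow_dvd_pow t (by omega)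
    exact h1.trans (Nat.ordProj_dvd _ _)
  obtain ⟨K, hKcard, hQK⟩ := Sylow.exists_subgroup_card_pow_succ hdvd hQcard
  have hKp : IsPGroup t K := IsPGroup.of_card hKcard
  have hKnot : ¬ K ≤ Cn x := by
    intro hle
    have h1 : t ^ (w + 1) ∣ Nat.card (Cn x) := by
      rw [← hKcard]; exact Subgroup.card_dvd_of_le hle
    have h2 := (ht.pow_dvd_iff_le_factorization Nat.card_pos.ne').1 h1
    omega
  obtain ⟨g, hgK, hgx⟩ := SetLike.not_le_iff_exists.1 hKnot
  have hLK : Q ⊔ zpowers g ≤ K := sup_le hQK (by rw [zpowers_le]; exact hgK)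
  have hLp : IsPGroup t (Q ⊔ zpowers g : Subgroup G) := hKp.to_le hLK
  obtain ⟨j, hj⟩ := hLp.exists_card_eq
  refine ⟨Q, g, j, hQle, hQp, hgx, hj, ?_⟩
  have hlt : Nat.card Q < Nat.card (Q ⊔ zpowers g : Subgroup G) := by
    by_contra hcon
    push Not at hcon
    have heq : Q = Q ⊔ zpowers g := Subgroup.eq_of_le_of_card_ge le_sup_left hcon
    apply hgx
    apply hQle
    rw [heq]
    exact (le_sup_right : zpowers g ≤ Q ⊔ zpowers g) (mem_zpowers g)
  rw [hQcard, hj] at hlt
  have := (Nat.pow_lt_pow_iff_right ht.one_lt).1 hlt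
  omega


/-- **(AH)** of S4284 -/
theorem caseA_H (h : Hyp G m n) {t : ℕ} (ht : t.Prime) (htm : t ∣ m) {x : G} (hx : IsPElt t x)
    (hxm : idx x = m) (a : ℕ) (hma : m = t ^ a)
    (h1 : ∀ y : G, IsPElt t y → idx y = m →
      ∀ a ∈ Cn y, ∀ b ∈ Cn y, IsPElt t a → (orderOf b).Coprime t → Commute a b) :
    ∃ H : Subgroup G, H.Normal ∧ (Nat.card H).Coprime t ∧ (∃ k : ℕ, H.index = t ^ k) ∧
      (∀ u ∈ H, ∀ v ∈ H, u * v = v * u) ∧ ¬ H ≤ center G ∧
      (∀ y : G, IsPElt t y → idx y = m → Cn y = centralizer (H : Set G)) ∧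
      (∀ u ∈ centralizer (H : Set G), ∀ v ∈ centralizer (H : Set G), u * v = v * u) := by
  haveI : Fact t.Prime := ⟨ht⟩
  have htn := not_dvd_n_of_dvd_m h ht htm
  have hnpos := h.n_pos
  have hmpos := h.m_pos
  have hn1 := h.one_lt_n
  have ha1 : 1 ≤ a := by
    rcases Nat.eq_zero_or_pos a with h0 | h0
    · exfalso
      rw [h0, pow_zero] at hma
      have := h.one_lt_m
      omega
    · exact h0
  have hnt : ∀ k : ℕ, ¬ n ∣ t ^ k := by
    intro k h4
    obtain ⟨q, hq, hqn⟩ := Nat.exists_prime_and_dvd (by omega : n ≠ 1)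
    have h5 : q ∣ t ^ k := hqn.trans h4
    have h6 : q = t := (Nat.prime_dvd_prime_iff_eq hq ht).1 (hq.dvd_of_dvd_pow h5)
    exact htn (h6 ▸ hqn)
  -- the normal complement
  have hnpc : Cfsg.HasNormalPComplement t G := by
    apply Cfsg.Agent.S4127.result t a
    · intro y hd
      have hd' : t ^ (a + 1) ∣ idx y := hd
      rcases h.cases y with h2 | h2 | h2
      · rw [h2] at hd'
        have h3 := Nat.le_of_dvd one_pos hd'
        have h4 := Nat.one_lt_pow (n := a + 1) (by omega) ht.one_lt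
        omega
      · rw [h2, hma] at hd'
        have h3 := Nat.le_of_dvd (pow_pos ht.pos a) hd'
        have h4 : t ^ a < t ^ (a + 1) := Nat.pow_lt_pow_right ht.one_lt (Nat.lt_succ_self a)
        omega
      · rw [h2, hma, pow_succ] at hd'
        exact htn (Nat.dvd_of_mul_dvd_mul_left (pow_pos ht.pos a) hd')
    · exact ⟨x, hx, by rw [← hma]; exact hxm⟩
  obtain ⟨H, hHn, hHcop, k, hHk⟩ := npc_data hnpc
  haveI := hHn
  have hmem : ∀ u : G, (orderOf u).Coprime t → u ∈ H := fun u hu =>
    mem_of_coprime_of_index_pow H hHk hu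
  have hord : ∀ u ∈ H, (orderOf u).Coprime t := fun u hu => orderOf_coprime_of_mem H hHcop hu
  have hHle : ∀ y : G, idx y = m → H ≤ Cn y := by
    intro y hy
    apply normal_le_Cn_of_coprime
    rw [hy, hma]
    exact Nat.Coprime.pow_right a hHcop
  -- H is not central
  have hHZ : ¬ H ≤ center G := by
    intro hle
    obtain ⟨z, hz⟩ := h.ex_mn
    have h2 : H ≤ Cn z := hle.trans (center_le_Cn z)
    have h3 : idx z ∣ H.index := index_dvd_of_le h2
    rw [hz, hHk] at h3
    exact hnt k ((dvd_mul_left n m).trans h3)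
  -- the big `t`-subgroup
  obtain ⟨Q, g, j, hQle, hQp, hgx, hj, hjv⟩ := exists_big x t a ha1 (by rw [hxm, hma])
  have hQH : ∀ q ∈ Q, ∀ u ∈ H, Commute q u := by
    intro q hq u hu
    have hqt : IsPElt t q := by
      obtain ⟨i, hi⟩ := (IsPGroup.iff_orderOf.1 hQp) ⟨q, hq⟩
      exact ⟨i, by rw [← hi, Subgroup.orderOf_mk]⟩
    exact h1 x hx hxm q (hQle hq) u (hHle x hxm hu) hqt (hord u hu)
  have hfix : ∀ u ∈ H, Commute u g → u ∈ center G := by
    intro u hu hug
    by_contra huZ
    have hL : Q ⊔ zpowers g ≤ Cn u := by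
      apply sup_le
      · intro q hq
        exact mem_Cn_iff'.2 (hQH q hq u hu)
      · rw [zpowers_le]
        exact mem_Cn_iff'.2 hug.symm
    have := card_le_of_le_Cn h ht htm a hma huZ _ hj hL
    omega
  -- |H : H ∩ Z| divides n
  have hrel1 : (center G).relIndex H ∣ n := by
    have e1 : (center G).relIndex H = (Cn g).relIndex H := by
      rw [← inf_relIndex_right (center G) H, ← inf_relIndex_right (Cn g) H]
      congr 1
      apply le_antisymm
      · exact inf_le_inf_right H (center_le_Cn g)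
      · intro u hu
        rw [mem_inf] at hu ⊢
        exact ⟨hfix u hu.2 (mem_Cn_iff'.1 hu.1), hu.2⟩
    rw [e1]
    have d1 : (Cn g).relIndex H ∣ idx g := relIndex_dvd_index_of_normal_right (Cn g) H
    have d2 : (Cn g).relIndex H ∣ Nat.card H := by
      rw [relIndex]
      exact ((Cn g).subgroupOf H).index_dvd_card
    have c1 : ((Cn g).relIndex H).Coprime t := Nat.Coprime.coprime_dvd_left d2 hHcop
    have c2 : ((Cn g).relIndex H).Coprime (t ^ a) := Nat.Coprime.pow_right a c1
    rcases h.cases g with h2 | h2 | h2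
    · rw [h2] at d1
      rw [Nat.dvd_one.1 d1]
      exact one_dvd _
    · rw [h2, hma] at d1
      rw [c2.eq_one_of_dvd d1]
      exact one_dvd _
    · rw [h2, hma] at d1
      exact c2.dvd_of_dvd_mul_left d1
  -- H is abelian
  have hab : ∀ u ∈ H, ∀ v ∈ H, u * v = v * u := by
    intro u hu v hv
    by_contra hne
    have huZ : u ∉ center G := fun hc => hne ((mem_center_iff.1 hc v).symm)
    have hiu : idx u = m * n := by
      rcases h.idx_of_not_mem_center huZ with h2 | h2
      · exfalso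
        have := hHle u h2 hv
        exact hne (mem_Cn_iff.1 this).symm
      · exact h2
    have e2 := relIndex_mul_index_sup (Cn u) H
    have d3 : (Cn u ⊔ H).index ∣ t ^ k := by
      rw [← hHk]
      exact index_dvd_of_le le_sup_right
    have hn_dvd : n ∣ (Cn u).relIndex H := by
      have h5 : n ∣ (Cn u).relIndex H * (Cn u ⊔ H).index := by
        rw [e2]
        show n ∣ idx u
        rw [hiu]
        exact dvd_mul_left n m
      have c3 : n.Coprime ((Cn u ⊔ H).index) := by
        apply Nat.Coprime.coprime_dvd_right d3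
        exact Nat.Coprime.pow_right k ((Nat.Prime.coprime_iff_not_dvd ht).2 htn).symm
      exact c3.dvd_of_dvd_mul_right h5
    have hAB : center G ⊓ H ≤ Cn u ⊓ H := inf_le_inf_right H (center_le_Cn u)
    have hBH : Cn u ⊓ H ≤ H := inf_le_right
    have e3 : (center G ⊓ H).relIndex (Cn u ⊓ H) * (Cn u ⊓ H).relIndex H =
        (center G ⊓ H).relIndex H := relIndex_mul_relIndex _ _ _ hAB hBH
    have e4 : (center G ⊓ H).relIndex H = (center G).relIndex H := inf_relIndex_right _ _
    have e5 : (Cn u ⊓ H).relIndex H = (Cn u).relIndex H := inf_relIndex_right _ _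
    have hAB1 : (center G ⊓ H).relIndex (Cn u ⊓ H) ≠ 1 := by
      intro h1'
      have h6 : Cn u ⊓ H ≤ center G ⊓ H := relIndex_eq_one.1 h1'
      have huB : u ∈ Cn u ⊓ H := mem_inf.2 ⟨self_mem_Cn u, hu⟩
      exact huZ (mem_inf.1 (h6 huB)).1
    have hAB0 : (center G ⊓ H).relIndex (Cn u ⊓ H) ≠ 0 := by
      rw [relIndex]
      exact index_ne_zero_of_finite
    have le1 : (center G ⊓ H).relIndex H ≤ n := by
      rw [e4]
      exact Nat.le_of_dvd hnpos hrel1
    have le2 : n ≤ (Cn u ⊓ H).relIndex H := by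
      rw [e5]
      apply Nat.le_of_dvd _ hn_dvd
      exact Nat.pos_of_ne_zero (by rw [relIndex]; exact index_ne_zero_of_finite)
    have h7 : 2 * n ≤ (center G ⊓ H).relIndex (Cn u ⊓ H) * (Cn u ⊓ H).relIndex H :=
      Nat.mul_le_mul (by omega) le2
    omega
  -- C(y) ≤ C_G(H)
  have hMle : ∀ y : G, IsPElt t y → idx y = m → Cn y ≤ centralizer (H : Set G) := by
    intro y hy hym g' hg'
    rw [mem_centralizer_iff]
    intro u hu
    obtain ⟨gt, gt', hgt, hgt', hmul, hgtp, hgtc⟩ := exists_tpart_decomp t g'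
    have hz : zpowers g' ≤ Cn y := by
      rw [zpowers_le]
      exact hg'
    have c1 : Commute gt u := h1 y hy hym gt (hz hgt) u (hHle y hym hu) hgtp (hord u hu)
    have c2 : Commute gt' u := hab gt' (hmem gt' hgtc) u hu
    rw [← hmul]
    exact (c1.mul_left c2).symm.eq
  obtain ⟨u0, hu0H, hu0Z⟩ := SetLike.not_le_iff_exists.1 hHZ
  have hMeq : ∀ y : G, IsPElt t y → idx y = m → Cn y = centralizer (H : Set G) := by
    intro y hy hym
    apply le_antisymm (hMle y hy hym)
    have hle : Cn y ≤ Cn u0 := by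
      intro g' hg'
      have h2 := hMle y hy hym hg'
      rw [mem_centralizer_iff] at h2
      exact mem_Cn_iff.2 (h2 u0 hu0H).symm
    have hidx : idx u0 = m := by
      have d := idx_dvd_of_Cn_le hle
      rw [hym] at d
      rcases h.idx_of_not_mem_center hu0Z with h2 | h2
      · exact h2
      · exfalso
        rw [h2] at d
        have h3 : m * n ≤ m := Nat.le_of_dvd hmpos d
        nlinarith
    have heq : Cn y = Cn u0 := Cn_eq_of_le_of_idx_le hle (by rw [hym, hidx])
    intro g' hg'
    rw [heq]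
    rw [mem_centralizer_iff] at hg'
    exact mem_Cn_iff.2 (hg' u0 hu0H).symm
  -- `t`-elements of C_G(H) are central in it
  have hcent : ∀ y0 ∈ centralizer (H : Set G), IsPElt t y0 →
      ∀ v ∈ centralizer (H : Set G), Commute y0 v := by
    intro y0 hy0 hy0t v hv
    by_cases hZ : y0 ∈ center G
    · exact ((mem_center_iff.1 hZ v)).symm
    · have hHy0 : H ≤ Cn y0 := by
        intro u hu
        rw [mem_centralizer_iff] at hy0
        exact mem_Cn_iff.2 (hy0 u hu)
      have d : idx y0 ∣ t ^ k := by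
        rw [← hHk]
        exact index_dvd_of_le hHy0
      have hidx : idx y0 = m := by
        rcases h.idx_of_not_mem_center hZ with h2 | h2
        · exact h2
        · exfalso
          rw [h2] at d
          exact hnt k ((dvd_mul_left n m).trans d)
      have h3 := hMeq y0 hy0t hidx
      rw [← h3] at hv
      exact (mem_Cn_iff'.1 hv).symm
  refine ⟨H, hHn, hHcop, ⟨k, hHk⟩, hab, hHZ, hMeq, ?_⟩
  intro u hu v hv
  obtain ⟨ut, ut', hut, hut', hmul, hutp, hutc⟩ := exists_tpart_decomp t u
  have hz : zpowers u ≤ centralizer (H : Set G) := by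
    rw [zpowers_le]
    exact hu
  have c1 : Commute ut v := hcent ut (hz hut) hutp v hv
  have c2 : Commute ut' v := by
    have h2 := hmem ut' hutc
    rw [mem_centralizer_iff] at hv
    exact hv ut' h2
  rw [← hmul]
  exact (c1.mul_left c2).eq

end Cfsg.Agent.Helper23.CS2
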