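import Mathlib
import Cfsg.Prelude.Def_Transfer

/-!
# Counting lemma for prime divisors of class sizes (helper23)

`centSyl r` is the set of elements of `G` centralizing some Sylow `r`-subgroup, i.e. the
elements whose class size is prime to `r`.  If it contains more than half of `G` then
`N_G(R) = C_G(R)` for a Sylow `r`-subgroup `R`, so `G` has a normal `r`-complement (Burnside).
-/

set_option autoImplicit false

namespace Cfsg.Agent.Helper23.ClassPrimes

open Subgroup

variable {G : Type*} [Group G]

/-- The elements centralizing some Sylow `r`-subgroup. -/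
def centSyl (G : Type*) [Group G] (r : ℕ) : Set G :=
  {g | ∃ R : Sylow r G, (R : Subgroup G) ≤ centralizer ({g} : Set G)}

variable [Finite G]

/-- If `r ∤ [G : C_G(g)]` then `g` centralizes a Sylow `r`-subgroup. -/
theorem mem_centSyl_of_not_dvd (r : ℕ) [Fact r.Prime] (g : G)
    (h : ¬ r ∣ (centralizer ({g} : Set G)).index) : g ∈ centSyl G r := by
  classical
  set C := centralizer ({g} : Set G) with hC
  obtain ⟨Q⟩ : Nonempty (Sylow r C) := inferInstance
  have h1 : Nat.card (Q : Subgroup C) = r ^ (Nat.card C).factorization r := Q.card_eq_multiplicity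
  have h2 : Nat.card G = Nat.card C * C.index := (C.card_mul_index).symm
  have hidx : C.index ≠ 0 := fun h0 => h (h0 ▸ dvd_zero r)
  have h3 : (Nat.card G).factorization r = (Nat.card C).factorization r := by
    rw [h2, Nat.factorization_mul Nat.card_pos.ne' hidx]
    simp [Nat.factorization_eq_zero_of_not_dvd h]
  have hcard : Nat.card ((Q : Subgroup C).map C.subtype) = r ^ (Nat.card G).factorization r := by
    rw [h3, ← h1]
    exact Subgroup.card_map_of_injective C.subtype_injective
  refine ⟨Sylow.ofCard _ hcard, ?_⟩
  rw [Sylow.coe_ofCard]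
  exact map_subtype_le _

/-- Conversely, elements of `centSyl r` have class size prime to `r`. -/
theorem not_dvd_of_mem_centSyl (r : ℕ) [Fact r.Prime] (g : G) (h : g ∈ centSyl G r) :
    ¬ r ∣ (centralizer ({g} : Set G)).index := by
  obtain ⟨R, hR⟩ := h
  intro hd
  exact R.not_dvd_index (hd.trans (Subgroup.index_dvd_of_le hR))

/-- The size of `centSyl r` is at most `[G : N_G(P)] * |C_G(P)|`. -/
theorem ncard_centSyl_le (r : ℕ) [Fact r.Prime] (P : Sylow r G) :
    (centSyl G r).ncard ≤ (normalizer (P : Set G)).index * Nat.card (centralizer (P : Set G)) := by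
  classical
  set N := normalizer (P : Set G) with hN
  set C := centralizer (P : Set G) with hCdef
  let φ : (G ⧸ N) × C → G := fun x => x.1.out * (x.2 : G) * (x.1.out)⁻¹
  have hsub : centSyl G r ⊆ Set.range φ := by
    rintro g ⟨R, hR⟩
    obtain ⟨k, hk⟩ := MulAction.exists_smul_eq G P R
    set t : G := (QuotientGroup.mk k : G ⧸ N).out with ht
    have htk : t⁻¹ * k ∈ N := by
      rw [← QuotientGroup.eq]
      exact QuotientGroup.out_eq' (QuotientGroup.mk k : G ⧸ N)
    have htP : t • P = R := by
      have h1 : (t⁻¹ * k) • P = P := Sylow.smul_eq_iff_mem_normalizer.mpr htk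
      calc t • P = t • ((t⁻¹ * k) • P) := by rw [h1]
        _ = (t * (t⁻¹ * k)) • P := (mul_smul t (t⁻¹ * k) P).symm
        _ = k • P := by rw [mul_inv_cancel_left]
        _ = R := hk
    have hc : t⁻¹ * g * t ∈ C := by
      rw [hCdef, mem_centralizer_iff]
      intro x hx
      have hxR : t * x * t⁻¹ ∈ (R : Subgroup G) := by
        rw [← htP, Sylow.coe_subgroup_smul, Subgroup.mem_pointwise_smul_iff_inv_smul_mem]
        have e : (MulAut.conj t)⁻¹ • (t * x * t⁻¹) = x := by
          simp [MulAut.smul_def, mul_assoc]
        rw [e]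
        exact hx
      have := hR hxR
      rw [mem_centralizer_iff] at this
      have h2 := this g rfl
      -- h2 : g * (t * x * t⁻¹) = t * x * t⁻¹ * g
      calc x * (t⁻¹ * g * t) = t⁻¹ * ((t * x * t⁻¹) * g) * t := by group
        _ = t⁻¹ * (g * (t * x * t⁻¹)) * t := by rw [h2]
        _ = t⁻¹ * g * t * x := by group
    refine ⟨(QuotientGroup.mk k, ⟨t⁻¹ * g * t, hc⟩), ?_⟩
    show t * (t⁻¹ * g * t) * t⁻¹ = g
    group
  calc (centSyl G r).ncard ≤ (Set.range φ).ncard := Set.ncard_le_ncard hsub (Set.toFinite _)
    _ = Nat.card (Set.range φ) := (Nat.card_coe_set_eq _).symm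
    _ ≤ Nat.card ((G ⧸ N) × C) := Finite.card_range_le φ
    _ = N.index * Nat.card C := by rw [Nat.card_prod]; rfl

/-- If `centSyl r` contains more than half of `G`, then `G` has a normal `r`-complement. -/
theorem hasNormalPComplement_of_lt (r : ℕ) [Fact r.Prime]
    (h : Nat.card G < 2 * (centSyl G r).ncard) : Cfsg.HasNormalPComplement r G := by
  classical
  obtain ⟨P⟩ : Nonempty (Sylow r G) := inferInstance
  set N := normalizer (P : Set G) with hN
  set C := centralizer (P : Set G) with hCdef
  have hCN : C ≤ N := Subgroup.centralizer_le_normalizer _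
  have hle : (centSyl G r).ncard ≤ N.index * Nat.card C := ncard_centSyl_le r P
  have hcard : Nat.card G = Nat.card C * (C.relIndex N * N.index) := by
    rw [Subgroup.relIndex_mul_index hCN]; exact (C.card_mul_index).symm
  have hrel : C.relIndex N = 1 := by
    have hpos : C.relIndex N ≠ 0 := by
      show (C.subgroupOf N).index ≠ 0
      exact Subgroup.index_ne_zero_of_finite
    by_contra hne
    have h2 : 2 ≤ C.relIndex N := by omega
    have : 2 * (N.index * Nat.card C) ≤ Nat.card G := by
      rw [hcard]
      calc 2 * (N.index * Nat.card C) = Nat.card C * (2 * N.index) := by ring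
        _ ≤ Nat.card C * (C.relIndex N * N.index) :=
          Nat.mul_le_mul_left _ (Nat.mul_le_mul_right _ h2)
    omega
  have hNC : normalizer (P : Set G) ≤ centralizer (P : Set G) :=
    Subgroup.relIndex_eq_one.mp hrel
  exact ⟨P, (MonoidHom.transferSylow P hNC).ker, inferInstance,
    MonoidHom.ker_transferSylow_isComplement' P hNC⟩

end Cfsg.Agent.Helper23.ClassPrimes
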