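import Mathlib
import Cfsg.Agent.Helper44.CliffDefs

/-!
# Piece (L1) of helper44's plan for S3084 (board #9890)

An alternating (symmetric, zero diagonal) bi-additive form on an elementary abelian `2`-group
with a finite basis is the polarisation of a function: `f u = ∑_{i<j} γ(e_i, e_j) u_i u_j`.
-/

set_option autoImplicit false

namespace Cfsg.Agent.Helper23.Cliff

open Cfsg.Agent.Helper44.Cliff

/-- the coordinate version on `ι → ZMod 2` -/
theorem exists_quadratic_pi {ι : Type*} [Fintype ι] [DecidableEq ι]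
    (γ : (ι → ZMod 2) → (ι → ZMod 2) → ZMod 2)
    (hl : ∀ u u' v, γ (u + u') v = γ u v + γ u' v)
    (hs : ∀ u v, γ u v = γ v u) (hd : ∀ u, γ u u = 0) :
    ∃ f : (ι → ZMod 2) → ZMod 2, ∀ u v, f (u + v) = f u + f v + γ u v := by
  classical
  let e := Fintype.equivFin ι
  let c : ι → ι → ZMod 2 := fun i j => γ (Pi.single i 1) (Pi.single j 1)
  have hc_symm : ∀ i j, c i j = c j i := fun i j => hs _ _
  have hc_diag : ∀ i, c i i = 0 := fun i => hd _
  -- expansion in coordinates
  have hexp1 : ∀ u v, γ u v = ∑ i, u i * γ (Pi.single i 1) v := by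
    intro u v
    let F : (ι → ZMod 2) →+ ZMod 2 := AddMonoidHom.mk' (fun u => γ u v) (fun a b => hl a b v)
    have h1 : F u = ∑ i, F (Pi.single i (u i)) := by
      conv_lhs => rw [← Finset.univ_sum_single u]
      exact map_sum F _ _
    have h2 : ∀ i, F (Pi.single i (u i)) = u i * γ (Pi.single i 1) v := by
      intro i
      rcases zmod2_cases (u i) with h | h
      · rw [h, Pi.single_zero, map_zero, zero_mul]
      · rw [h, one_mul]; rfl
    show F u = _
    rw [h1]; exact Finset.sum_congr rfl (fun i _ => h2 i)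
  have hexp2 : ∀ w v, γ w v = ∑ j, v j * γ w (Pi.single j 1) := by
    intro w v
    rw [hs, hexp1]
    exact Finset.sum_congr rfl (fun j _ => by rw [hs])
  have hexp : ∀ u v, γ u v = ∑ i, ∑ j, u i * v j * c i j := by
    intro u v
    rw [hexp1]
    refine Finset.sum_congr rfl (fun i _ => ?_)
    rw [hexp2, Finset.mul_sum]
    refine Finset.sum_congr rfl (fun j _ => ?_)
    ring
  -- the strictly upper triangular part
  let β : (ι → ZMod 2) → (ι → ZMod 2) → ZMod 2 :=
    fun u v => ∑ i, ∑ j, if e i < e j then u i * v j * c i j else 0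
  have hβl : ∀ u u' v, β (u + u') v = β u v + β u' v := by
    intro u u' v
    simp only [β, ← Finset.sum_add_distrib]
    refine Finset.sum_congr rfl (fun i _ => Finset.sum_congr rfl (fun j _ => ?_))
    split_ifs
    · rw [Pi.add_apply]; ring
    · rw [add_zero]
  have hβr : ∀ u v v', β u (v + v') = β u v + β u v' := by
    intro u v v'
    simp only [β, ← Finset.sum_add_distrib]
    refine Finset.sum_congr rfl (fun i _ => Finset.sum_congr rfl (fun j _ => ?_))
    split_ifs
    · rw [Pi.add_apply]; ring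
    · rw [add_zero]
  have hββ : ∀ u v, β u v + β v u = γ u v := by
    intro u v
    have h2 : β v u = ∑ i, ∑ j, if e j < e i then v j * u i * c j i else 0 := by
      simp only [β]
      rw [Finset.sum_comm]
    rw [h2, hexp]
    simp only [β, ← Finset.sum_add_distrib]
    refine Finset.sum_congr rfl (fun i _ => Finset.sum_congr rfl (fun j _ => ?_))
    by_cases hij : i = j
    · subst hij
      simp [hc_diag]
    · have hne : e i ≠ e j := fun h => hij (e.injective h)
      rcases lt_or_gt_of_ne hne with h | h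
      · rw [if_pos h, if_neg (not_lt.mpr h.le), add_zero]
      · rw [if_neg (not_lt.mpr h.le), if_pos h, zero_add, hc_symm j i]; ring
  refine ⟨fun u => β u u, fun u v => ?_⟩
  show β (u + v) (u + v) = β u u + β v v + γ u v
  rw [hβl, hβr, hβr, ← hββ u v]
  ring

/-- (L1) -/
theorem exists_quadratic_of_alternating {n : ℕ} (γ : U0 n → U0 n → ZMod 2)
    (hl : ∀ u u' v, γ (u + u') v = γ u v + γ u' v) (hr : ∀ u v v', γ u (v + v') = γ u v + γ u v')
    (hs : ∀ u v, γ u v = γ v u) (hd : ∀ u, γ u u = 0) :
    ∃ f : U0 n → ZMod 2, ∀ u v, f (u + v) = f u + f v + γ u v := by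
  let φ : (Fin n ⊕ Fin n → ZMod 2) ≃ₗ[ZMod 2] U0 n :=
    LinearEquiv.sumArrowLequivProdArrow (Fin n) (Fin n) (ZMod 2) (ZMod 2)
  obtain ⟨f', hf'⟩ := exists_quadratic_pi (fun a b => γ (φ a) (φ b))
    (fun a a' b => by simp only [map_add]; exact hl _ _ _)
    (fun a b => hs _ _) (fun a => hd _)
  refine ⟨fun u => f' (φ.symm u), fun u v => ?_⟩
  show f' (φ.symm (u + v)) = f' (φ.symm u) + f' (φ.symm v) + γ u v
  rw [map_add, hf']
  simp only [LinearEquiv.apply_symm_apply]

end Cfsg.Agent.Helper23.Cliff
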