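import Mathlib
import Cfsg.Agent.Helper44.CliffDefs

/-!
# Piece (L5) of helper44's plan for S3084 (board #9890), parameterised form

`exists_lift_of` : the statement of (L5) `exists_lift`, with the conclusions of (L2) `exists_sign`
(for the given `σ`), (L3) `exists_algEnd` and (L4) `skolem_noether` (at `ι = X n`, `F = ZMod 3`)
as explicit hypotheses.  The exact (L5) is then a plain application.
-/

set_option autoImplicit false
open scoped MatrixGroups

namespace Cfsg.Agent.Helper23.Cliff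

open Matrix Cfsg.Agent.Helper44.Cliff

variable {n : ℕ}

theorem zmod2_add_self (t : ZMod 2) : t + t = 0 := by revert t; decide

/-- (L5) from (L2), (L3), (L4) -/
theorem exists_lift_of (σ : U0 n → U0 n) (hadd : ∀ u v, σ (u + v) = σ u + σ v)
    (hL2 : ∃ f : U0 n → ZMod 2, ∀ u v, f (u + v) = f u + f v + bet (σ u) (σ v) + bet u v)
    (hL3 : ∀ (T' : U0 n → Matrix (X n) (X n) (ZMod 3)), T' 0 = 1 →
      (∀ u v, T' u * T' v = sg (bet u v) • T' (u + v)) →
      ∃ Φ : Matrix (X n) (X n) (ZMod 3) →ₗ[ZMod 3] Matrix (X n) (X n) (ZMod 3),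
        Φ 1 = 1 ∧ (∀ M N, Φ (M * N) = Φ M * Φ N) ∧ ∀ u, Φ (T u) = T' u)
    (hL4 : ∀ (Φ : Matrix (X n) (X n) (ZMod 3) →ₗ[ZMod 3] Matrix (X n) (X n) (ZMod 3)),
      Φ 1 = 1 → (∀ M N, Φ (M * N) = Φ M * Φ N) →
      ∃ g : (Matrix (X n) (X n) (ZMod 3))ˣ, ∀ M,
        Φ M = (g : Matrix (X n) (X n) (ZMod 3)) * M *
          ((g⁻¹ : (Matrix (X n) (X n) (ZMod 3))ˣ) : Matrix (X n) (X n) (ZMod 3))) :
    ∃ (g : GL (X n) (ZMod 3)) (f : U0 n → ZMod 2), ∀ u,
      (g : Matrix (X n) (X n) (ZMod 3)) * T u *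
          ((g⁻¹ : GL (X n) (ZMod 3)) : Matrix (X n) (X n) (ZMod 3)) =
        sg (f u) • T (σ u) := by
  obtain ⟨f, hf⟩ := hL2
  have hσ0 : σ 0 = 0 := by
    have h := hadd 0 0
    rw [add_zero] at h
    exact left_eq_add.mp h
  have hbet0 : bet (0 : U0 n) 0 = 0 := by
    unfold bet; simp
  have hf0 : f 0 = 0 := by
    have h := hf 0 0
    rw [add_zero, hσ0, hbet0, add_zero, add_zero] at h
    exact left_eq_add.mp h
  have hT'0 : (fun u => sg (f u) • T (σ u)) (0 : U0 n) = 1 := by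
    show sg (f 0) • T (σ 0) = 1
    rw [hf0, hσ0, sg_zero, one_smul, T_zero]
  have hT'mul : ∀ u v, (fun u => sg (f u) • T (σ u)) u * (fun u => sg (f u) • T (σ u)) v =
      sg (bet u v) • (fun u => sg (f u) • T (σ u)) (u + v) := by
    intro u v
    show sg (f u) • T (σ u) * sg (f v) • T (σ v) = sg (bet u v) • sg (f (u + v)) • T (σ (u + v))
    rw [Matrix.smul_mul, Matrix.mul_smul, T_mul, smul_smul, smul_smul, smul_smul, ← hadd,
      ← sg_add, ← sg_add, ← sg_add]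
    congr 2
    rw [hf u v]
    have h2 := zmod2_add_self (bet u v)
    calc f u + f v + bet (σ u) (σ v)
        = f u + f v + bet (σ u) (σ v) + (bet u v + bet u v) := by rw [h2]; ring
      _ = bet u v + (f u + f v + bet (σ u) (σ v) + bet u v) := by ring
  obtain ⟨Φ, hΦ1, hΦmul, hΦT⟩ := hL3 _ hT'0 hT'mul
  obtain ⟨g, hg⟩ := hL4 Φ hΦ1 hΦmul
  refine ⟨g, f, fun u => ?_⟩
  rw [← hg (T u), hΦT u]

end Cfsg.Agent.Helper23.Cliff
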