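import Mathlib
import Cfsg.Agent.Helper44.CliffDefs
import Cfsg.Agent.Helper23.CliffL5pre
import Cfsg.Agent.Helper88.CliffL2
import Cfsg.Agent.Helper30.CliffL3
import Cfsg.Agent.Helper48.CliffL4

/-!
# Piece (L5) of helper44's plan for S3084 (board #9890), exact form

Every isometry of `(U0 n, q0)` is induced by conjugation with an element of `GL (X n) (ZMod 3)`,
up to signs: from (L2) helper88, (L3) helper30, (L4) helper48.
-/

set_option autoImplicit false
open scoped MatrixGroups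

namespace Cfsg.Agent.Helper23.Cliff

open Matrix Cfsg.Agent.Helper44.Cliff

variable {n : ℕ}

/-- (L5) LIFT -/
theorem exists_lift (σ : U0 n → U0 n) (hadd : ∀ u v, σ (u + v) = σ u + σ v)
    (hq : ∀ u, q0 (σ u) = q0 u) :
    ∃ (g : GL (X n) (ZMod 3)) (f : U0 n → ZMod 2), ∀ u,
      (g : Matrix (X n) (X n) (ZMod 3)) * T u * ((g⁻¹ : GL (X n) (ZMod 3)) : Matrix (X n) (X n) (ZMod 3)) =
        sg (f u) • T (σ u) :=
  exists_lift_of σ hadd (Cfsg.Agent.Helper88.Cliff.exists_sign σ hadd hq)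
    (fun T' h0 hmul => Cfsg.Agent.Helper30.Cliff.exists_algEnd T' h0 hmul)
    (fun Φ h1 hmul => Cfsg.Agent.Helper48.Cliff.skolem_noether Φ h1 hmul)

end Cfsg.Agent.Helper23.Cliff
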