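import Cfsg.Agent.Helper23.Conn
import Cfsg.Agent.Helper23.RankTwo
import Cfsg.Agent.Helper63.PGroup
import Cfsg.Agent.Helper2.Rank4Main

/-!
# 3-groups of rank at least 4 are 2-connected (for S1338)

Uses Konvisser's rank-4 theorem (`Helper2.exists_normal_elemAb_rank_four`): a normal elementary
abelian `V` of order `81`; an element `e` of order `3` has at least `9` fixed points on `V`
(`(e - 1)^3 = 0` on `V`), and every vertex `E` is joined to `V` by the chain
`E - <e> (V ∩ Z(P)) - C_V(e) - V`.
-/

set_option autoImplicit false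

namespace Cfsg.Agent.Helper23.Conn3

open Relation Cfsg.Agent.Helper23

/-- additive computation behind `(c - 1)^3 = c^3 - 1` in characteristic `3`. -/
theorem add_cube_aux {M : Type*} [AddCommGroup M] (a b d : M) (hb : 3 • b = 0) (hd : 3 • d = 0) :
    (a - d) - (d - b) - ((d - b) - (b - a)) = 0 := by
  have h : (a - d) - (d - b) - ((d - b) - (b - a)) = 3 • b - 3 • d := by abel
  rw [h, hb, hd, sub_zero]

/-- multiplicative form. -/
theorem mul_cube_aux {M : Type*} [CommGroup M] (a b d : M) (hb : b ^ 3 = 1) (hd : d ^ 3 = 1) :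
    (a / d) / (d / b) / ((d / b) / (b / a)) = 1 :=
  add_cube_aux (M := Additive M) (Additive.ofMul a) (Additive.ofMul b) (Additive.ofMul d)
    (by rw [← ofMul_pow, hb]; rfl) (by rw [← ofMul_pow, hd]; rfl)

/-- An endomorphism `c` with `c^3 = 1` of an abelian group of exponent `3` and order `81` has at
least `9` fixed points. -/
theorem nine_le_card_fixed {M : Type*} [CommGroup M] [Finite M] (hM3 : ∀ m : M, m ^ 3 = 1)
    (hcard : Nat.card M = 81) (c : M →* M) (hc3 : ∀ m, c (c (c m)) = m) :
    9 ≤ Nat.card {m : M // c m = m} := by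
  classical
  let δ : M →* M := c / MonoidHom.id M
  have hδ : ∀ m, δ m = c m / m := fun m => rfl
  have h3 : ∀ m, δ (δ (δ m)) = 1 := by
    intro m
    simp only [hδ, map_div, hc3]
    exact mul_cube_aux m (c m) (c (c m)) (hM3 _) (hM3 _)
  set K : Subgroup M := δ.ker with hK
  have hKmem : ∀ m, m ∈ K ↔ c m = m := by
    intro m
    rw [hK, MonoidHom.mem_ker, hδ, div_eq_one]
  -- |K| * |range| = 81
  have e1 : Nat.card K * Nat.card δ.range = 81 := by
    rw [← hcard, ← Subgroup.card_mul_index K, Subgroup.index_ker]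
  -- range ≤ L := ker (δ ∘ δ)
  set L : Subgroup M := (δ.comp δ).ker with hL
  have hRL : δ.range ≤ L := by
    rintro _ ⟨m, rfl⟩
    rw [hL, MonoidHom.mem_ker]
    exact h3 m
  have e2 : Nat.card δ.range ≤ Nat.card L := Subgroup.card_le_of_le hRL
  -- |L| ≤ |K| * |K|
  let ψ : ↥L →* M := δ.comp L.subtype
  have e3 : Nat.card ψ.ker * Nat.card ψ.range = Nat.card L := by
    rw [← Subgroup.card_mul_index ψ.ker, Subgroup.index_ker]
  have e4 : Nat.card ψ.range ≤ Nat.card K := by
    apply Subgroup.card_le_of_le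
    rintro _ ⟨⟨x, hx⟩, rfl⟩
    rw [hK, MonoidHom.mem_ker]
    rw [hL, MonoidHom.mem_ker] at hx
    exact hx
  have e5 : Nat.card ψ.ker ≤ Nat.card K := by
    refine Nat.card_le_card_of_injective (fun x : ψ.ker => (⟨x.1.1, ?_⟩ : K)) ?_
    · have := x.2
      rw [MonoidHom.mem_ker] at this
      rw [hK, MonoidHom.mem_ker]
      exact this
    · intro x y hxy
      have : x.1.1 = y.1.1 := by
        have h := congrArg (fun t : K => (t : M)) hxy
        exact h
      exact Subtype.ext (Subtype.ext this)
  have hdvd : Nat.card K ∣ 81 := by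
    rw [← hcard]; exact Subgroup.card_subgroup_dvd_card K
  have hfix : Nat.card {m : M // c m = m} = Nat.card K :=
    Nat.card_congr (Equiv.subtypeEquivRight fun m => (hKmem m).symm)
  rw [hfix]
  set k := Nat.card K with hk
  have e6 : Nat.card L ≤ k * k := by
    rw [← e3]; exact Nat.mul_le_mul e5 e4
  have e7 : 81 ≤ k * (k * k) := by
    calc 81 = k * Nat.card δ.range := e1.symm
      _ ≤ k * Nat.card L := Nat.mul_le_mul_left _ e2
      _ ≤ k * (k * k) := Nat.mul_le_mul_left _ e6
  by_contra hlt
  push Not at hlt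
  have hk8 : k ≤ 8 := by omega
  interval_cases k <;> omega


/-- fixed points of an element of order dividing `3` on a normal elementary abelian subgroup of
order `81`. -/
theorem nine_le_card_inf_centralizer {P : Type*} [Group P] [Finite P] (V : Subgroup P)
    (hVn : V.Normal) (hVc : ∀ a ∈ V, ∀ b ∈ V, a * b = b * a) (hVe : ∀ v ∈ V, v ^ 3 = 1)
    (hV : Nat.card V = 81) (e : P) (he : e ^ 3 = 1) :
    9 ≤ Nat.card ↥(V ⊓ Subgroup.centralizer {e}) := by
  classical
  have := hVn
  let _ : CommGroup ↥V :=
    { (inferInstance : Group ↥V) with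
      mul_comm := fun a b => Subtype.ext (hVc a a.2 b b.2) }
  let c : ↥V →* ↥V := (MulAut.conjNormal e : MulAut ↥V).toMonoidHom
  have hc : ∀ v : ↥V, ((c v : ↥V) : P) = e * v * e⁻¹ := fun v => MulAut.conjNormal_apply e v
  have hc3 : ∀ v : ↥V, c (c (c v)) = v := by
    intro v
    apply Subtype.ext
    rw [hc, hc, hc]
    have h1 : e * (e * (e * ↑v * e⁻¹) * e⁻¹) * e⁻¹ = e ^ 3 * v * (e ^ 3)⁻¹ := by
      simp only [pow_succ, pow_zero, one_mul, mul_inv_rev, mul_assoc]
    rw [h1, he, one_mul, inv_one, mul_one]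
  have hM3 : ∀ v : ↥V, v ^ 3 = 1 := fun v => Subtype.ext (by simpa using hVe v v.2)
  have key := nine_le_card_fixed hM3 hV c hc3
  have hcongr : Nat.card {v : ↥V // c v = v} = Nat.card ↥(V ⊓ Subgroup.centralizer {e}) := by
    refine Nat.card_congr
      { toFun := fun x => ⟨x.1.1, x.1.2, ?_⟩
        invFun := fun y => ⟨⟨y.1, y.2.1⟩, ?_⟩
        left_inv := fun x => rfl
        right_inv := fun y => rfl }
    · show (x.1 : P) ∈ Subgroup.centralizer {e}
      rw [Subgroup.mem_centralizer_singleton_iff]
      have h := congrArg Subtype.val x.2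
      rw [hc] at h
      calc (x.1 : P) * e = e * ↑x.1 * e⁻¹ * e := by rw [h]
        _ = e * (x.1 : P) := by group
    · apply Subtype.ext
      rw [hc]
      have h : (y : P) ∈ Subgroup.centralizer {e} := y.2.2
      rw [Subgroup.mem_centralizer_singleton_iff] at h
      show e * (y : P) * e⁻¹ = y
      rw [← h]; group
  rw [← hcongr]
  exact key

/-- every vertex of the rank-2 commuting graph of a `3`-group is joined to a normal elementary
abelian subgroup of order `81`. -/
theorem conn_to_normal {P : Type*} [Group P] [Finite P] (hP : IsPGroup 3 P)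
    (V : Subgroup P) (hVn : V.Normal) (hVc : IsMulCommutative V) (hVe : ∀ v ∈ V, v ^ 3 = 1)
    (hV : Nat.card V = 81) (E : Subgroup P) (hE : Vtx 3 2 E) :
    ReflTransGen (Adj 3 2) E V := by
  classical
  haveI : Fact (Nat.Prime 3) := ⟨by norm_num⟩
  haveI := hVn
  have hVc' := (isMulCommutative_subgroup_iff V).mp hVc
  have hVea : Cfsg.IsElementaryAbelian 3 V := ⟨hVc, hVe⟩
  have hVvtx : Vtx 3 2 V := ⟨hVea, by rw [hV]; norm_num⟩
  have hEc := (isMulCommutative_subgroup_iff E).mp hE.1.1
  by_cases hEV : E ≤ V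
  · refine ReflTransGen.single ?_
    rw [adj_iff]
    exact ⟨hE, hVvtx, fun a ha b hb => hVc' a (hEV ha) b hb⟩
  · obtain ⟨e, heE, heV⟩ := SetLike.not_le_iff_exists.mp hEV
    have he3 : e ^ 3 = 1 := hE.1.2 e heE
    have he1 : e ≠ 1 := fun h => heV (h ▸ V.one_mem)
    have heo : orderOf e = 3 := orderOf_eq_prime he3 he1
    -- the central part of V
    set Z0 : Subgroup P := V ⊓ Subgroup.center P with hZ0
    have hVne : V ≠ ⊥ := by
      intro h
      rw [h, Subgroup.card_bot] at hV
      omega
    have hZ0ne : Z0 ≠ ⊥ := Cfsg.Agent.Helper63.normal_inf_center_ne_bot hP V hVne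
    have hZ0ea : Cfsg.IsElementaryAbelian 3 Z0 := isElementaryAbelian_of_le hVea inf_le_left
    have hZ0c : ∀ z ∈ Z0, ∀ g : P, g * z = z * g := fun z hz g =>
      (Subgroup.mem_center_iff.mp hz.2) g
    -- E1 = <e> Z0
    set E1 : Subgroup P := Subgroup.zpowers e ⊔ Z0 with hE1
    have hzea : Cfsg.IsElementaryAbelian 3 (Subgroup.zpowers e) := (vtx_zpowers heo).1
    have hE1ea : Cfsg.IsElementaryAbelian 3 E1 :=
      isElementaryAbelian_sup_of_commute hzea hZ0ea (fun a _ b hb => hZ0c b hb a)
    have hE1card : 3 ^ 2 ≤ Nat.card E1 := by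
      -- E1 ⊓ V is a proper nontrivial subgroup of the 3-group E1
      obtain ⟨k, hk⟩ := (hP.to_subgroup E1).exists_card_eq
      obtain ⟨j, hj⟩ := (hP.to_subgroup (E1 ⊓ V)).exists_card_eq
      have hle : E1 ⊓ V ≤ E1 := inf_le_left
      have hj1 : j ≠ 0 := by
        rintro rfl
        rw [pow_zero, Subgroup.card_eq_one] at hj
        apply hZ0ne
        rw [eq_bot_iff, ← hj]
        exact le_inf (le_sup_right) inf_le_left
      have hjk : j < k := by
        have hlt : Nat.card ↥(E1 ⊓ V) < Nat.card E1 := by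
          refine lt_of_le_of_ne (Subgroup.card_le_of_le hle) ?_
          intro heq
          have : E1 ⊓ V = E1 := Subgroup.eq_of_le_of_card_ge hle heq.ge
          apply heV
          have he1 : e ∈ E1 := (le_sup_left : Subgroup.zpowers e ≤ E1) (Subgroup.mem_zpowers e)
          rw [← this] at he1
          exact he1.2
        rw [hj, hk] at hlt
        exact (Nat.pow_lt_pow_iff_right (by norm_num)).mp hlt
      rw [hk]
      exact Nat.pow_le_pow_right (by norm_num) (by omega)
    have hE1vtx : Vtx 3 2 E1 := ⟨hE1ea, hE1card⟩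
    -- E2 = C_V(e)
    set E2 : Subgroup P := V ⊓ Subgroup.centralizer {e} with hE2
    have hE2ea : Cfsg.IsElementaryAbelian 3 E2 := isElementaryAbelian_of_le hVea inf_le_left
    have hE2card : 3 ^ 2 ≤ Nat.card E2 := by
      have := nine_le_card_inf_centralizer V hVn hVc' hVe hV e he3
      rw [hE2]
      exact this
    have hE2vtx : Vtx 3 2 E2 := ⟨hE2ea, hE2card⟩
    -- adjacency
    have a1 : Adj 3 2 E E1 := by
      rw [adj_iff]
      refine ⟨hE, hE1vtx, ?_⟩
      intro a ha b hb
      have hb' : b ∈ Subgroup.centralizer (E : Set P) := by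
        have hle : E1 ≤ Subgroup.centralizer (E : Set P) := by
          refine sup_le ?_ ?_
          · rw [Subgroup.zpowers_le, Subgroup.mem_centralizer_iff]
            intro h hh
            exact hEc h hh e heE
          · intro z hz
            rw [Subgroup.mem_centralizer_iff]
            intro h _
            exact hZ0c z hz h
        exact hle hb
      exact Subgroup.mem_centralizer_iff.mp hb' a ha
    have a2 : Adj 3 2 E1 E2 := by
      rw [adj_iff]
      refine ⟨hE1vtx, hE2vtx, ?_⟩
      intro a ha b hb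
      have hle : E1 ≤ Subgroup.centralizer (E2 : Set P) := by
        refine sup_le ?_ ?_
        · rw [Subgroup.zpowers_le, Subgroup.mem_centralizer_iff]
          intro h hh
          have h2 : h ∈ Subgroup.centralizer {e} := hh.2
          rw [Subgroup.mem_centralizer_singleton_iff] at h2
          exact h2
        · intro z hz
          rw [Subgroup.mem_centralizer_iff]
          intro h _
          exact hZ0c z hz h
      exact (Subgroup.mem_centralizer_iff.mp (hle ha) b hb).symm
    have a3 : Adj 3 2 E2 V := by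
      rw [adj_iff]
      exact ⟨hE2vtx, hVvtx, fun a ha b hb => hVc' a ha.1 b hb⟩
    exact ReflTransGen.tail (ReflTransGen.tail (ReflTransGen.single a1) a2) a3

/-- A finite 3-group of 3-rank at least 4 is 2-connected. -/
theorem isKConnected_three_two {P : Type*} [Group P] [Finite P] (hP : IsPGroup 3 P)
    (hrk : ¬ Cfsg.PRankLE 3 3 P) : Cfsg.IsKConnected 3 2 P := by
  classical
  haveI : Fact (Nat.Prime 3) := ⟨by norm_num⟩
  unfold Cfsg.PRankLE at hrk
  push Not at hrk
  obtain ⟨A, hAc, hAe, hAcard⟩ := hrk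
  have hAc' := (isMulCommutative_subgroup_iff A).mp hAc
  -- a subgroup of order 81
  obtain ⟨k, hk⟩ := (hP.to_subgroup A).exists_card_eq
  have hk4 : 4 ≤ k := by
    by_contra h
    push Not at h
    have : 3 ^ k ≤ 3 ^ 3 := Nat.pow_le_pow_right (by norm_num) (by omega)
    omega
  have h81 : 3 ^ 4 ≤ Nat.card A := by
    rw [hk]; exact Nat.pow_le_pow_right (by norm_num) hk4
  obtain ⟨A', hA'le, hA'card⟩ :=
    Sylow.exists_subgroup_le_card_pow_prime_of_le_card (by norm_num : Nat.Prime 3) hP h81
  have hA'c : IsMulCommutative A' := by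
    rw [isMulCommutative_subgroup_iff]
    exact fun a ha b hb => hAc' a (hA'le ha) b (hA'le hb)
  obtain ⟨V, hVn, hVc, hVe, hVcard⟩ :=
    Cfsg.Agent.Helper2.exists_normal_elemAb_rank_four (p := 3) (by norm_num) hP A' hA'c
      (fun a ha => hAe a (hA'le ha)) hA'card
  have hV81 : Nat.card V = 81 := by rw [hVcard]; norm_num
  rw [isKConnected_iff]
  intro E E' hE hE'
  exact (conn_to_normal hP V hVn hVc hVe hV81 E hE).trans
    (conn_symm (conn_to_normal hP V hVn hVc hVe hV81 E' hE'))

end Cfsg.Agent.Helper23.Conn3
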