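import Mathlib

/-!
# DT farm (helper16, #13881), leaf (E4): the counting lemma

A decomposition matrix `d` over `ℕ` with positive degrees `n φ`, every column nonzero, and
`Σ_χ (Σ_φ d χ φ · n φ)² ≤ Σ_φ (n φ)²`: every column `φ` has a row with the single nonzero entry `d χ φ = 1`.
-/

set_option autoImplicit false

namespace Cfsg.Agent.Helper23.DT

theorem E4_sq_sum {Y : Type*} [DecidableEq Y] (s : Finset Y) (f : Y → ℕ) :
    (∑ a ∈ s, f a) ^ 2 = ∑ a ∈ s, f a ^ 2 + ∑ a ∈ s, ∑ b ∈ s.erase a, f a * f b := by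
  rw [sq, Finset.sum_mul_sum, ← Finset.sum_add_distrib]
  apply Finset.sum_congr rfl
  intro a ha
  rw [← Finset.add_sum_erase s (fun b => f a * f b) ha, sq]

theorem E4_comb {X Y : Type*} [Fintype X] [Fintype Y] [DecidableEq Y] (d : X → Y → ℕ) (n : Y → ℕ)
    (hn : ∀ φ, 0 < n φ)
    (h1 : ∑ χ, (∑ φ, d χ φ * n φ) ^ 2 ≤ ∑ φ, n φ ^ 2)
    (h2 : ∀ φ, ∃ χ, d χ φ ≠ 0) :
    ∀ φ, ∃ χ, d χ φ = 1 ∧ ∀ φ', φ' ≠ φ → d χ φ' = 0 := by
  intro φ
  have hsplit : ∑ χ, (∑ φ, d χ φ * n φ) ^ 2 = (∑ a, n a ^ 2 * ∑ χ, d χ a ^ 2) +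
      ∑ χ, ∑ a, ∑ b ∈ Finset.univ.erase a, (d χ a * n a) * (d χ b * n b) := by
    have e : ∀ χ, (∑ φ, d χ φ * n φ) ^ 2 = ∑ a, (d χ a * n a) ^ 2 +
        ∑ a, ∑ b ∈ Finset.univ.erase a, (d χ a * n a) * (d χ b * n b) :=
      fun χ => E4_sq_sum Finset.univ (fun a => d χ a * n a)
    rw [Finset.sum_congr rfl (fun χ _ => e χ), Finset.sum_add_distrib]
    congr 1
    rw [Finset.sum_comm]
    apply Finset.sum_congr rfl
    intro a _
    rw [Finset.mul_sum]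
    apply Finset.sum_congr rfl
    intro χ _
    ring
  have hcol : ∀ a ∈ (Finset.univ : Finset Y), n a ^ 2 ≤ n a ^ 2 * ∑ χ, d χ a ^ 2 := by
    intro a _
    obtain ⟨χ, hχ⟩ := h2 a
    have h3 : 1 ≤ ∑ χ, d χ a ^ 2 :=
      le_trans (Nat.one_le_iff_ne_zero.mpr (pow_ne_zero 2 hχ))
        (Finset.single_le_sum (f := fun χ => d χ a ^ 2) (fun _ _ => Nat.zero_le _)
          (Finset.mem_univ χ))
    calc n a ^ 2 = n a ^ 2 * 1 := (mul_one _).symm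
      _ ≤ _ := Nat.mul_le_mul_left _ h3
  have hA : ∑ a, n a ^ 2 ≤ ∑ a, n a ^ 2 * ∑ χ, d χ a ^ 2 := Finset.sum_le_sum hcol
  rw [hsplit] at h1
  have hR : ∑ χ, ∑ a, ∑ b ∈ Finset.univ.erase a, (d χ a * n a) * (d χ b * n b) = 0 := by omega
  have hAeq : ∑ a, n a ^ 2 = ∑ a, n a ^ 2 * ∑ χ, d χ a ^ 2 := by omega
  have hterm := (Finset.sum_eq_sum_iff_of_le hcol).mp hAeq
  obtain ⟨χ, hχ⟩ := h2 φ
  have hs1 : ∑ χ, d χ φ ^ 2 = 1 := by
    have h4 := hterm φ (Finset.mem_univ _)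
    have hpos : 0 < n φ ^ 2 := pow_pos (hn φ) 2
    exact Nat.eq_of_mul_eq_mul_left hpos (by rw [mul_one]; exact h4.symm)
  have hd1 : d χ φ = 1 := by
    have hle : d χ φ ^ 2 ≤ 1 := by
      rw [← hs1]
      exact Finset.single_le_sum (f := fun χ => d χ φ ^ 2) (fun _ _ => Nat.zero_le _)
        (Finset.mem_univ χ)
    have h5 : d χ φ ≤ 1 := by nlinarith
    omega
  refine ⟨χ, hd1, fun φ' hne => ?_⟩
  have h3 := (Finset.sum_eq_zero_iff.mp hR) χ (Finset.mem_univ _)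
  have h4 := (Finset.sum_eq_zero_iff.mp h3) φ (Finset.mem_univ _)
  have h5 := (Finset.sum_eq_zero_iff.mp h4) φ' (Finset.mem_erase.mpr ⟨hne, Finset.mem_univ _⟩)
  rw [hd1, one_mul] at h5
  rcases Nat.mul_eq_zero.mp h5 with h | h
  · exact absurd h (hn φ).ne'
  · rcases Nat.mul_eq_zero.mp h with h | h
    · exact h
    · exact absurd h (hn φ').ne'

end Cfsg.Agent.Helper23.DT
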