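import Mathlib
import Cfsg.Agent.Helper16.DT.Defs
import Cfsg.Agent.Helper78.BlockBasic
import Cfsg.Agent.Helper78.IrrBasic
import Cfsg.Agent.Helper74.CharBasic

/-!
# DT farm (helper16, #13881), leaf (MN4): the main theorem on the irreducible Brauer characters of a block,
from the other leaves (DEC, IBI, INJ, EQI, E5C, TEI) taken as hypotheses
-/

set_option autoImplicit false
set_option linter.unusedSectionVars false
set_option linter.unusedVariables false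

namespace Cfsg.Agent.Helper23.DT

open Cfsg Cfsg.Agent.Helper16 Cfsg.Agent.Helper16.DT Polynomial Matrix

universe u

variable {p : ℕ} [Fact p.Prime] {M : Ideal AlgInt} {G : Type u} [Group G]

/-- the degree of a Brauer character -/
theorem MN4_brauerChar_one [M.IsMaximal] (hteich : teich p M (1 : AlgInt ⧸ M) = 1) {n : ℕ}
    (ρ : G →* Matrix (Fin n) (Fin n) (AlgInt ⧸ M)) : brauerChar p M ρ 1 = (n : ℂ) := by
  have h1 : IsPRegular p (1 : G) := by
    unfold IsPRegular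
    rw [orderOf_one]
    exact (Fact.out : p.Prime).not_dvd_one
  unfold brauerChar pRegularPart
  rw [if_pos h1]
  unfold brauerFull bfull
  have h2 : (X - 1 : (AlgInt ⧸ M)[X]) = X - C 1 := by rw [map_one]
  rw [map_one, Matrix.charpoly_one, Polynomial.roots_pow, h2, Polynomial.roots_X_sub_C,
    Multiset.map_nsmul, Multiset.map_singleton, Multiset.sum_nsmul, Multiset.sum_singleton, hteich,
    Fintype.card_fin, nsmul_eq_mul, mul_one]

/-- the class sum as a linear combination, uniformly in the representation -/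
theorem MN4_classSum (K : Type*) [Field K] [Fintype G] (x : G) :
    ∃ S : Finset G, ∀ {n : ℕ} (σ : G →* Matrix (Fin n) (Fin n) K),
      classSumMat σ x = ∑ g ∈ S, (1 : K) • σ g := by
  classical
  refine ⟨Finset.univ.filter (fun y : G => IsConj x y), fun σ => ?_⟩
  unfold classSumMat
  simp only [one_smul]

/-- a Brauer character belonging to two blocks: the blocks coincide -/
theorem MN4_sameBlock [hMm : M.IsMaximal] [Fintype G]
    (hINJ : ∀ {m n : ℕ} (ρ : G →* Matrix (Fin m) (Fin m) (AlgInt ⧸ M))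
      (σ : G →* Matrix (Fin n) (Fin n) (AlgInt ⧸ M)), IsIrredMat ρ → IsIrredMat σ →
      brauerChar p M ρ = brauerChar p M σ → MatEquiv ρ σ)
    (hEQI : ∀ {m n : ℕ} {ρ : G →* Matrix (Fin m) (Fin m) (AlgInt ⧸ M)}
      {σ : G →* Matrix (Fin n) (Fin n) (AlgInt ⧸ M)}, MatEquiv ρ σ →
      ∀ (S : Finset G) (x : G → AlgInt ⧸ M) (c : AlgInt ⧸ M),
        ∑ g ∈ S, x g • ρ g = c • (1 : Matrix (Fin m) (Fin m) (AlgInt ⧸ M)) →
        ∑ g ∈ S, x g • σ g = c • (1 : Matrix (Fin n) (Fin n) (AlgInt ⧸ M)))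
    {χ χ' : IrrCharacter G} {φ : G → ℂ}
    (h1 : φ ∈ IBrIn p M (blockOf M (χ : G → ℂ))) (h2 : φ ∈ IBrIn p M (blockOf M (χ' : G → ℂ))) :
    SameBlock M (χ : G → ℂ) (χ' : G → ℂ) := by
  have hMp : M.IsPrime := hMm.isPrime
  obtain ⟨n, ρ, hρ, rfl, hcs⟩ := h1
  obtain ⟨n', ρ', hρ', heq, hcs'⟩ := h2
  have hE := hINJ ρ ρ' hρ hρ' heq
  intro x
  obtain ⟨S, hS⟩ := MN4_classSum (G := G) (AlgInt ⧸ M) x
  have e1 := hcs χ (Helper78.mem_blockOf_self hMp χ) x
  have e2 := hcs' χ' (Helper78.mem_blockOf_self hMp χ') x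
  rw [hS ρ] at e1
  rw [hS ρ'] at e2
  have e3 := hEQI hE S (fun _ => 1) _ e1
  rw [e2] at e3
  obtain ⟨i⟩ := hρ'.1
  have e4 := congrFun (congrFun e3 i) i
  simp only [Matrix.smul_apply, Matrix.one_apply_eq, smul_eq_mul, mul_one] at e4
  have ha : MemLocalRing M (centralChar (χ : G → ℂ) x) :=
    memLocalRing_of_isIntegral (Helper78.isIntegral_centralChar χ.2 x)
  have hb : MemLocalRing M (centralChar (χ' : G → ℂ) x) :=
    memLocalRing_of_isIntegral (Helper78.isIntegral_centralChar χ'.2 x)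
  rw [← resC_eq_zero_iff (memLocalRing_sub ha hb)]
  have h5 := map_sub (res M) (⟨_, ha⟩ : Rloc M) (⟨_, hb⟩ : Rloc M)
  rw [res_apply, res_apply, res_apply] at h5
  have h6 : (((⟨_, ha⟩ : Rloc M) - (⟨_, hb⟩ : Rloc M) : Rloc M) : ℂ) =
      centralChar (χ : G → ℂ) x - centralChar (χ' : G → ℂ) x := rfl
  rw [h6] at h5
  rw [h5, e4, sub_self]

/-- (MN4) from the other leaves, canonical form: `S` is `IBrIn p M B` -/
theorem dt_main_canon_of [hMm : M.IsMaximal] [Fintype G]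
    (hteich : teich p M (1 : AlgInt ⧸ M) = 1)
    (hDEC : ∀ χ : IrrCharacter G, ∃ l : List (G → ℂ),
      (∀ φ ∈ l, φ ∈ IBrIn p M (blockOf M (χ : G → ℂ))) ∧ pRegularPart p (χ : G → ℂ) = l.sum)
    (hIBI : LinearIndependent ℂ (fun φ : IBr p M G => (φ : G → ℂ)))
    (hINJ : ∀ {m n : ℕ} (ρ : G →* Matrix (Fin m) (Fin m) (AlgInt ⧸ M))
      (σ : G →* Matrix (Fin n) (Fin n) (AlgInt ⧸ M)), IsIrredMat ρ → IsIrredMat σ →
      brauerChar p M ρ = brauerChar p M σ → MatEquiv ρ σ)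
    (hEQI : ∀ {m n : ℕ} {ρ : G →* Matrix (Fin m) (Fin m) (AlgInt ⧸ M)}
      {σ : G →* Matrix (Fin n) (Fin n) (AlgInt ⧸ M)}, MatEquiv ρ σ →
      ∀ (S : Finset G) (x : G → AlgInt ⧸ M) (c : AlgInt ⧸ M),
        ∑ g ∈ S, x g • ρ g = c • (1 : Matrix (Fin m) (Fin m) (AlgInt ⧸ M)) →
        ∑ g ∈ S, x g • σ g = c • (1 : Matrix (Fin n) (Fin n) (AlgInt ⧸ M)))
    (hE5C : ∀ {φ : G → ℂ}, φ ∈ IBr p M G → ∃ a : IrrCharacter G → ℤ,
      φ = ∑ᶠ χ : IrrCharacter G, (a χ : ℂ) • pRegularPart p (χ : G → ℂ))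
    (B : Set (IrrCharacter G)) (hB : IsPBlock M B) :
    ∃ S : Finset (G → ℂ), (↑S : Set (G → ℂ)) = IBrIn p M B ∧
      LinearIndependent ℂ (fun φ : S => (φ : G → ℂ)) ∧
      S.card = blockRank p B ∧
      (∀ χ ∈ B, ∃ d : (G → ℂ) → ℕ, pRegularPart p (χ : G → ℂ) = ∑ φ ∈ S, (d φ : ℂ) • φ) ∧
      (∀ φ ∈ S, ∃ a : IrrCharacter G → ℤ,
        φ = ∑ᶠ χ ∈ B, (a χ : ℂ) • pRegularPart p (χ : G → ℂ)) ∧
      (∀ φ ∈ S, ∃ n : ℕ, 0 < n ∧ φ 1 = n) := by
  classical
  have hMp : M.IsPrime := hMm.isPrime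
  have : Finite (IrrCharacter G) := Helper74.irr_finite
  let _ : Fintype (IrrCharacter G) := Fintype.ofFinite _
  have hsub : IBrIn p M B ⊆ IBr p M G := by
    rintro φ ⟨n, ρ, hρ, hφ, -⟩
    exact ⟨n, ρ, hρ, hφ⟩
  have hfin : (IBr p M G).Finite := hIBI.setFinite
  have hfinB : (IBrIn p M B).Finite := hfin.subset hsub
  have hmemS : ∀ φ, φ ∈ hfinB.toFinset ↔ φ ∈ IBrIn p M B := fun φ => hfinB.mem_toFinset
  -- independence
  have hSind : LinearIndependent ℂ (fun φ : hfinB.toFinset => (φ : G → ℂ)) := by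
    have := hIBI.comp
      (fun φ : hfinB.toFinset => (⟨φ.1, hsub ((hmemS _).mp φ.2)⟩ : IBr p M G)) (by
        intro a b hab
        exact Subtype.ext (congrArg (fun z : IBr p M G => (z : G → ℂ)) hab))
    exact this
  -- the two spans
  have hdisj : Disjoint (Submodule.span ℂ (IBrIn p M B))
      (Submodule.span ℂ (IBr p M G \ IBrIn p M B)) := by
    have h0 := hIBI.disjoint_span_image
      (s := {φ : IBr p M G | (φ : G → ℂ) ∈ IBrIn p M B})
      (t := {φ : IBr p M G | (φ : G → ℂ) ∉ IBrIn p M B}) (by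
        rw [Set.disjoint_left]
        intro a ha hb
        exact hb ha)
    have e1 : (fun φ : IBr p M G => (φ : G → ℂ)) '' {φ : IBr p M G | (φ : G → ℂ) ∈ IBrIn p M B} =
        IBrIn p M B := by
      ext φ
      constructor
      · rintro ⟨ψ, hψ, rfl⟩
        exact hψ
      · intro h
        exact ⟨⟨φ, hsub h⟩, h, rfl⟩
    have e2 : (fun φ : IBr p M G => (φ : G → ℂ)) '' {φ : IBr p M G | (φ : G → ℂ) ∉ IBrIn p M B} =
        IBr p M G \ IBrIn p M B := by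
      ext φ
      constructor
      · rintro ⟨ψ, hψ, rfl⟩
        exact ⟨ψ.2, hψ⟩
      · rintro ⟨h, h'⟩
        exact ⟨⟨φ, h⟩, h', rfl⟩
    rw [e1, e2] at h0
    exact h0
  -- the members of the block
  have hF1 : ∀ χ ∈ B, ∃ d : (G → ℂ) → ℕ,
      pRegularPart p (χ : G → ℂ) = ∑ φ ∈ hfinB.toFinset, (d φ : ℂ) • φ := by
    intro χ hχ
    obtain ⟨l, hl, hsum⟩ := hDEC χ
    rw [← Helper78.isPBlock_eq_blockOf_of_mem hMp hB hχ] at hl
    refine ⟨fun φ => l.count φ, ?_⟩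
    rw [hsum]
    have h1 := Finset.sum_multiset_count_of_subset (l : Multiset (G → ℂ)) hfinB.toFinset (by
      intro φ hφ
      rw [Multiset.mem_toFinset, Multiset.mem_coe] at hφ
      exact (hmemS φ).mpr (hl φ hφ))
    rw [Multiset.sum_coe] at h1
    rw [h1]
    apply Finset.sum_congr rfl
    intro φ _
    rw [Multiset.coe_count, Nat.cast_smul_eq_nsmul]
  have hF1mem : ∀ χ ∈ B, pRegularPart p (χ : G → ℂ) ∈ Submodule.span ℂ (IBrIn p M B) := by
    intro χ hχ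
    obtain ⟨d, hd⟩ := hF1 χ hχ
    rw [hd]
    exact Submodule.sum_mem _ (fun φ hφ =>
      Submodule.smul_mem _ _ (Submodule.subset_span ((hmemS φ).mp hφ)))
  -- the others
  have hF2 : ∀ χ : IrrCharacter G, χ ∉ B →
      pRegularPart p (χ : G → ℂ) ∈ Submodule.span ℂ (IBr p M G \ IBrIn p M B) := by
    intro χ hχ
    obtain ⟨l, hl, hsum⟩ := hDEC χ
    rw [hsum]
    apply list_sum_mem
    intro φ hφ
    apply Submodule.subset_span
    have h1 := hl φ hφ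
    refine ⟨?_, ?_⟩
    · obtain ⟨n, ρ, hρ, hφ', -⟩ := h1
      exact ⟨n, ρ, hρ, hφ'⟩
    · intro h2
      apply hχ
      obtain ⟨χ₀, hχ₀⟩ := hB
      rw [hχ₀] at h2 ⊢
      exact Helper78.mem_blockOf_iff.mpr (MN4_sameBlock hINJ hEQI h2 h1)
  -- the integral combinations
  have hF3 : ∀ φ ∈ hfinB.toFinset, ∃ a : IrrCharacter G → ℤ,
      φ = ∑ᶠ χ ∈ B, (a χ : ℂ) • pRegularPart p (χ : G → ℂ) := by
    intro φ hφ
    have hφB := (hmemS φ).mp hφ
    obtain ⟨a, ha⟩ := hE5C (hsub hφB)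
    refine ⟨a, ?_⟩
    rw [finsum_eq_sum_of_fintype] at ha
    rw [finsum_mem_eq_finite_toFinset_sum _ (Set.toFinite B)]
    have hsplit := (Finset.sum_add_sum_compl (Set.toFinite B).toFinset
      (fun χ : IrrCharacter G => (a χ : ℂ) • pRegularPart p (χ : G → ℂ))).symm
    have h1 : ∑ χ ∈ (Set.toFinite B).toFinset, (a χ : ℂ) • pRegularPart p (χ : G → ℂ) ∈
        Submodule.span ℂ (IBrIn p M B) :=
      Submodule.sum_mem _ (fun χ hχ => Submodule.smul_mem _ _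
        (hF1mem χ ((Set.toFinite B).mem_toFinset.mp hχ)))
    have h2 : ∑ χ ∈ ((Set.toFinite B).toFinset)ᶜ, (a χ : ℂ) • pRegularPart p (χ : G → ℂ) ∈
        Submodule.span ℂ (IBr p M G \ IBrIn p M B) :=
      Submodule.sum_mem _ (fun χ hχ => Submodule.smul_mem _ _
        (hF2 χ (fun h => (Finset.mem_compl.mp hχ) ((Set.toFinite B).mem_toFinset.mpr h))))
    have h3 : φ ∈ Submodule.span ℂ (IBrIn p M B) := Submodule.subset_span hφB
    have h4 : ∑ χ ∈ ((Set.toFinite B).toFinset)ᶜ, (a χ : ℂ) • pRegularPart p (χ : G → ℂ) ∈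
        Submodule.span ℂ (IBrIn p M B) := by
      have e : ∑ χ ∈ ((Set.toFinite B).toFinset)ᶜ, (a χ : ℂ) • pRegularPart p (χ : G → ℂ) =
          φ - ∑ χ ∈ (Set.toFinite B).toFinset, (a χ : ℂ) • pRegularPart p (χ : G → ℂ) := by
        rw [ha, hsplit]
        abel
      rw [e]
      exact Submodule.sub_mem _ h3 h1
    have h5 := Submodule.disjoint_def.mp hdisj _ h4 h2
    rw [ha, hsplit, h5, add_zero]
  refine ⟨hfinB.toFinset, hfinB.coe_toFinset, hSind, ?_, hF1, hF3, ?_⟩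
  · -- the cardinality
    have hspan : Submodule.span ℂ ((fun χ : IrrCharacter G => pRegularPart p (χ : G → ℂ)) '' B) =
        Submodule.span ℂ (IBrIn p M B) := by
      apply le_antisymm
      · rw [Submodule.span_le]
        rintro _ ⟨χ, hχ, rfl⟩
        exact hF1mem χ hχ
      · rw [Submodule.span_le]
        intro φ hφ
        obtain ⟨a, ha⟩ := hF3 φ ((hmemS φ).mpr hφ)
        rw [SetLike.mem_coe, ha, finsum_mem_eq_finite_toFinset_sum _ (Set.toFinite B)]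
        exact Submodule.sum_mem _ (fun χ hχ => Submodule.smul_mem _ _
          (Submodule.subset_span ⟨χ, (Set.toFinite B).mem_toFinset.mp hχ, rfl⟩))
    unfold blockRank
    rw [hspan]
    have hr : Set.range (fun φ : hfinB.toFinset => (φ : G → ℂ)) = IBrIn p M B := by
      ext φ
      constructor
      · rintro ⟨ψ, rfl⟩
        exact (hmemS _).mp ψ.2
      · intro h
        exact ⟨⟨φ, (hmemS φ).mpr h⟩, rfl⟩
    have hc := finrank_span_eq_card hSind
    rw [hr] at hc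
    rw [hc, Fintype.card_coe]
  · intro φ hφ
    obtain ⟨n, ρ, hρ, rfl, -⟩ := (hmemS φ).mp hφ
    refine ⟨n, ?_, MN4_brauerChar_one hteich ρ⟩
    obtain ⟨i⟩ := hρ.1
    exact Fin.pos i

/-- (MN4) from the other leaves -/
theorem dt_main_of [hMm : M.IsMaximal] [Fintype G]
    (hteich : teich p M (1 : AlgInt ⧸ M) = 1)
    (hDEC : ∀ χ : IrrCharacter G, ∃ l : List (G → ℂ),
      (∀ φ ∈ l, φ ∈ IBrIn p M (blockOf M (χ : G → ℂ))) ∧ pRegularPart p (χ : G → ℂ) = l.sum)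
    (hIBI : LinearIndependent ℂ (fun φ : IBr p M G => (φ : G → ℂ)))
    (hINJ : ∀ {m n : ℕ} (ρ : G →* Matrix (Fin m) (Fin m) (AlgInt ⧸ M))
      (σ : G →* Matrix (Fin n) (Fin n) (AlgInt ⧸ M)), IsIrredMat ρ → IsIrredMat σ →
      brauerChar p M ρ = brauerChar p M σ → MatEquiv ρ σ)
    (hEQI : ∀ {m n : ℕ} {ρ : G →* Matrix (Fin m) (Fin m) (AlgInt ⧸ M)}
      {σ : G →* Matrix (Fin n) (Fin n) (AlgInt ⧸ M)}, MatEquiv ρ σ →
      ∀ (S : Finset G) (x : G → AlgInt ⧸ M) (c : AlgInt ⧸ M),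
        ∑ g ∈ S, x g • ρ g = c • (1 : Matrix (Fin m) (Fin m) (AlgInt ⧸ M)) →
        ∑ g ∈ S, x g • σ g = c • (1 : Matrix (Fin n) (Fin n) (AlgInt ⧸ M)))
    (hE5C : ∀ {φ : G → ℂ}, φ ∈ IBr p M G → ∃ a : IrrCharacter G → ℤ,
      φ = ∑ᶠ χ : IrrCharacter G, (a χ : ℂ) • pRegularPart p (χ : G → ℂ))
    (B : Set (IrrCharacter G)) (hB : IsPBlock M B) :
    ∃ S : Finset (G → ℂ), LinearIndependent ℂ (fun φ : S => (φ : G → ℂ)) ∧
      S.card = blockRank p B ∧
      (∀ χ ∈ B, ∃ d : (G → ℂ) → ℕ, pRegularPart p (χ : G → ℂ) = ∑ φ ∈ S, (d φ : ℂ) • φ) ∧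
      (∀ φ ∈ S, ∃ a : IrrCharacter G → ℤ,
        φ = ∑ᶠ χ ∈ B, (a χ : ℂ) • pRegularPart p (χ : G → ℂ)) ∧
      (∀ φ ∈ S, ∃ n : ℕ, 0 < n ∧ φ 1 = n) := by
  obtain ⟨S, -, h⟩ := dt_main_canon_of hteich hDEC hIBI hINJ hEQI hE5C B hB
  exact ⟨S, h⟩

end Cfsg.Agent.Helper23.DT
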