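import Mathlib
import Cfsg.Agent.Helper16.DT.Defs
import Cfsg.Agent.Helper74.CharCount
import Cfsg.Agent.Helper24.DT_JH2
import Cfsg.Agent.Helper24.DT_AC
import Cfsg.Agent.Helper10.DT_ADD
import Cfsg.Agent.Helper10.DT_WA2
import Cfsg.Agent.Helper10.DT_BCH
import Cfsg.Agent.Helper70.DT_WA1
import Cfsg.Agent.Helper30.DT_TEI
import Cfsg.Agent.Helper23.DT_E4comb
import Cfsg.Agent.Helper23.DT_MN4pre

/-!
# DT farm (helper16, #13881), leaf (E4), core: for a group of order prime to `p` the lifted trace function of a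
matrix representation over the residue field is an ordinary character — from (DEC), (IBI), (INJ) as hypotheses
(JH2, ADD, WA1, WA2, BCH, AC, CHP, TEI are imported)
-/

set_option autoImplicit false
set_option linter.unusedSectionVars false
set_option linter.unusedVariables false

namespace Cfsg.Agent.Helper23.DT

open Cfsg Cfsg.Agent.Helper16 Cfsg.Agent.Helper16.DT Polynomial Matrix

universe u

variable {p : ℕ} [Fact p.Prime] {M : Ideal AlgInt} [M.IsMaximal]

/-- the lifted trace function is a class function -/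
theorem E4_isClassFunction {Q : Type u} [Group Q] {n : ℕ}
    (ρ : Q →* Matrix (Fin n) (Fin n) (AlgInt ⧸ M)) : IsClassFunction Q (brauerFull p M ρ) := by
  intro g h
  unfold brauerFull bfull
  have e : (ρ (h * g * h⁻¹)).charpoly = (ρ g).charpoly := by
    rw [map_mul, Matrix.charpoly_mul_comm, ← map_mul]
    congr 2
    group
  rw [e]

/-- a list of characters sums to a character -/
theorem E4_list_sum {Q : Type u} [Group Q] (l : List (Q → ℂ)) (h : ∀ f ∈ l, IsCharacter Q f) :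
    IsCharacter Q l.sum := by
  induction l with
  | nil => exact Helper74.isCharacter_zero
  | cons a l ih =>
    rw [List.sum_cons]
    exact Helper74.isCharacter_add (h a List.mem_cons_self)
      (ih (fun f hf => h f (List.mem_cons_of_mem _ hf)))

/-- the teichmüller lift of `1` -/
theorem E4_teich_one (hpM : (p : AlgInt) ∈ M) : teich p M (1 : AlgInt ⧸ M) = 1 := by
  have h := Cfsg.Agent.Helper30.DT.teich_mk_root (p := p) (M := M) hpM (x := 1)
    ⟨1, (Fact.out : p.Prime).not_dvd_one, by simp⟩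
  simpa using h

/-- the key claim: the irreducible Brauer characters of a `p'`-group are ordinary characters -/
theorem E4_key (hpM : (p : AlgInt) ∈ M) {Q : Type u} [Group Q] [Fintype Q]
    (hQ : ¬ p ∣ Nat.card Q)
    (hDEC : ∀ χ : IrrCharacter Q, ∃ l : List (Q → ℂ),
      (∀ φ ∈ l, φ ∈ IBrIn p M (blockOf M (χ : Q → ℂ))) ∧ pRegularPart p (χ : Q → ℂ) = l.sum)
    (hIBI : LinearIndependent ℂ (fun φ : IBr p M Q => (φ : Q → ℂ)))
    (hINJ : ∀ {m n : ℕ} (ρ : Q →* Matrix (Fin m) (Fin m) (AlgInt ⧸ M))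
      (σ : Q →* Matrix (Fin n) (Fin n) (AlgInt ⧸ M)), IsIrredMat ρ → IsIrredMat σ →
      brauerChar p M ρ = brauerChar p M σ → MatEquiv ρ σ) :
    ∀ φ ∈ IBr p M Q, IsCharacter Q φ := by
  classical
  have hteich := E4_teich_one (p := p) (M := M) hpM
  have : Finite (IrrCharacter Q) := Helper74.irr_finite
  let _ : Fintype (IrrCharacter Q) := Fintype.ofFinite _
  -- every element is `p`-regular
  have hreg : ∀ g : Q, IsPRegular p g := fun g h => hQ (h.trans (orderOf_dvd_natCard g))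
  have hpreg : ∀ f : Q → ℂ, pRegularPart p f = f := by
    intro f
    funext g
    unfold pRegularPart
    rw [if_pos (hreg g)]
  -- the finite set of irreducible Brauer characters
  have hfin : (IBr p M Q).Finite := hIBI.setFinite
  set I : Finset (Q → ℂ) := hfin.toFinset with hI
  have hmemI : ∀ φ, φ ∈ I ↔ φ ∈ IBr p M Q := fun φ => hfin.mem_toFinset
  have hIind : LinearIndependent ℂ (fun φ : I => (φ : Q → ℂ)) := by
    have := hIBI.comp (fun φ : I => (⟨φ.1, (hmemI _).mp φ.2⟩ : IBr p M Q)) (by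
      intro a b hab
      exact Subtype.ext (congrArg (fun z : IBr p M Q => (z : Q → ℂ)) hab))
    exact this
  -- the degrees
  have hdeg : ∀ φ : I, ∃ k : ℕ, 0 < k ∧ (φ : Q → ℂ) 1 = k := by
    intro φ
    obtain ⟨k, ρ, hρ, hφ⟩ := (hmemI _).mp φ.2
    refine ⟨k, ?_, ?_⟩
    · obtain ⟨i⟩ := hρ.1
      exact Fin.pos i
    · rw [hφ]
      exact MN4_brauerChar_one hteich ρ
  choose nφ hnφ using hdeg
  -- the decomposition numbers
  choose lχ hlχ using hDEC
  let d : IrrCharacter Q → I → ℕ := fun χ φ => (lχ χ).count (φ : Q → ℂ)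
  have hdec : ∀ χ : IrrCharacter Q, (χ : Q → ℂ) = ∑ φ : I, (d χ φ : ℂ) • (φ : Q → ℂ) := by
    intro χ
    have h0 := (hlχ χ).2
    rw [hpreg] at h0
    have h1 := Finset.sum_multiset_count_of_subset ((lχ χ : List (Q → ℂ)) : Multiset (Q → ℂ)) I (by
      intro φ hφ
      rw [Multiset.mem_toFinset, Multiset.mem_coe] at hφ
      obtain ⟨k, ρ, hρ, hφ', -⟩ := (hlχ χ).1 φ hφ
      exact (hmemI φ).mpr ⟨k, ρ, hρ, hφ'⟩)
    rw [Multiset.sum_coe] at h1
    rw [h0, h1, ← Finset.sum_coe_sort I]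
    apply Finset.sum_congr rfl
    intro φ _
    rw [Multiset.coe_count, Nat.cast_smul_eq_nsmul]
  -- the degree of `χ`
  have hchi1 : ∀ χ : IrrCharacter Q, (χ : Q → ℂ) 1 = ((∑ φ : I, d χ φ * nφ φ : ℕ) : ℂ) := by
    intro χ
    have h := congrFun (hdec χ) 1
    rw [Finset.sum_apply] at h
    rw [h]
    push_cast
    apply Finset.sum_congr rfl
    intro φ _
    rw [Pi.smul_apply, smul_eq_mul, (hnφ φ).2]
  have hsumsq : ∑ χ : IrrCharacter Q, (∑ φ : I, d χ φ * nφ φ) ^ 2 = Nat.card Q := by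
    have h := Helper74.sum_irr_degree_sq (G := Q)
    have h' : ((∑ χ : IrrCharacter Q, (∑ φ : I, d χ φ * nφ φ) ^ 2 : ℕ) : ℂ) = (Nat.card Q : ℂ) := by
      rw [← h]
      push_cast
      apply Finset.sum_congr rfl
      intro χ _
      rw [hchi1 χ]
      push_cast
      ring
    exact_mod_cast h'
  -- Wedderburn over the residue field
  have : IsAlgClosed (AlgInt ⧸ M) := Cfsg.Agent.Helper24.DT.isAlgClosed_res M
  have : CharP (AlgInt ⧸ M) p := Cfsg.Agent.Helper24.DT.charP_res M hpM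
  have hG : ((Fintype.card Q : ℕ) : AlgInt ⧸ M) ≠ 0 := by
    rw [Ne, CharP.cast_eq_zero_iff (AlgInt ⧸ M) p, ← Nat.card_eq_fintype_card]
    exact hQ
  obtain ⟨r, dW, σ, hdpos, hbij⟩ :=
    Cfsg.Agent.Helper70.DT.wedderburn_group (K := AlgInt ⧸ M) (G := Q) hG
  obtain ⟨hsq, hne⟩ := Cfsg.Agent.Helper10.DT.wedderburn_consequences dW σ hdpos hbij
  have hirr : ∀ i, IsIrredMat (σ i) := by
    intro i
    have : Nonempty (Fin (dW i)) := ⟨⟨0, hdpos i⟩⟩
    have h := Cfsg.Agent.Helper10.DT.isIrredMat_map_of_surjective (L := AlgInt ⧸ M) (σ i) (by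
      intro A
      obtain ⟨x, hx, -⟩ := hbij (Function.update
        (fun j => (0 : Matrix (Fin (dW j)) (Fin (dW j)) (AlgInt ⧸ M))) i A)
      refine ⟨x, ?_⟩
      rw [hx i, Function.update_self])
    have e : ((algebraMap (AlgInt ⧸ M) (AlgInt ⧸ M)).mapMatrix :
        Matrix (Fin (dW i)) (Fin (dW i)) (AlgInt ⧸ M) →+* _).toMonoidHom.comp (σ i) = σ i := by
      ext g a b
      simp
    rw [e] at h
    exact h
  -- the Brauer characters of the Wedderburn components
  have hmemW : ∀ i, brauerChar p M (σ i) ∈ I := fun i => (hmemI _).mpr ⟨dW i, σ i, hirr i, rfl⟩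
  let f : Fin r → I := fun i => ⟨brauerChar p M (σ i), hmemW i⟩
  have hfinj : Function.Injective f := by
    intro i j hij
    by_contra hne'
    have h1 : brauerChar p M (σ i) = brauerChar p M (σ j) := congrArg Subtype.val hij
    exact hne i j hne' (hINJ (σ i) (σ j) (hirr i) (hirr j) h1)
  have hnf : ∀ i, nφ (f i) = dW i := by
    intro i
    have h1 := (hnφ (f i)).2
    have h2 : ((f i : I) : Q → ℂ) 1 = (dW i : ℂ) := MN4_brauerChar_one hteich (σ i)
    rw [h2] at h1
    exact_mod_cast h1.symm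
  have hWle : Nat.card Q ≤ ∑ φ : I, nφ φ ^ 2 := by
    rw [Nat.card_eq_fintype_card, ← hsq]
    calc ∑ i, dW i ^ 2 = ∑ i, nφ (f i) ^ 2 := Finset.sum_congr rfl (fun i _ => by rw [hnf i])
      _ = ∑ φ ∈ Finset.univ.image f, nφ φ ^ 2 :=
        (Finset.sum_image (f := fun φ : I => nφ φ ^ 2) (g := f) (s := Finset.univ)
          (fun a _ b _ h => hfinj h)).symm
      _ ≤ ∑ φ : I, nφ φ ^ 2 := Finset.sum_le_sum_of_subset (Finset.subset_univ _)
  -- every column is nonzero
  have hcol : ∀ φ : I, ∃ χ, d χ φ ≠ 0 := by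
    intro φ
    by_contra hcon
    have hcon : ∀ χ, d χ φ = 0 := fun χ => by
      by_contra h
      exact hcon ⟨χ, h⟩
    have hcf : IsClassFunction Q (φ : Q → ℂ) := by
      obtain ⟨k, ρ, hρ, hφ⟩ := (hmemI _).mp φ.2
      rw [hφ]
      unfold brauerChar
      rw [hpreg]
      exact E4_isClassFunction ρ
    have hle : Helper74.classFunSubmodule Q ≤
        Submodule.span ℂ ((fun ψ : I => (ψ : Q → ℂ)) '' {ψ | ψ ≠ φ}) := by
      rw [← Helper74.span_irr_eq_classFunSubmodule, Submodule.span_le]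
      rintro _ ⟨χ, rfl⟩
      show (χ : Q → ℂ) ∈ _
      rw [hdec χ]
      apply Submodule.sum_mem
      intro ψ _
      by_cases hψ : ψ = φ
      · rw [hψ, hcon χ, Nat.cast_zero, zero_smul]
        exact Submodule.zero_mem _
      · exact Submodule.smul_mem _ _ (Submodule.subset_span ⟨ψ, hψ, rfl⟩)
    exact hIind.notMem_span_image (s := {ψ | ψ ≠ φ}) (x := φ) (fun h => h rfl)
      (hle (Helper74.mem_classFunSubmodule.mpr hcf))
  -- the counting lemma
  have hcomb := E4_comb d nφ (fun φ => (hnφ φ).1) (by rw [hsumsq]; exact hWle) hcol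
  intro φ hφ
  obtain ⟨χ, hχ1, hχ0⟩ := hcomb ⟨φ, (hmemI φ).mpr hφ⟩
  have h := hdec χ
  rw [Finset.sum_eq_single (⟨φ, (hmemI φ).mpr hφ⟩ : I) (fun ψ _ hψ => by
      rw [hχ0 ψ hψ, Nat.cast_zero, zero_smul])
    (fun h => absurd (Finset.mem_univ _) h), hχ1, Nat.cast_one, one_smul] at h
  rw [← show (χ : Q → ℂ) = φ from h]
  exact Helper74.irr_isCharacter χ

/-- (E4) from (DEC), (IBI), (INJ) -/
theorem E4_of (hpM : (p : AlgInt) ∈ M) {Q : Type u} [Group Q] [Finite Q]
    (hQ : ¬ p ∣ Nat.card Q)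
    (hDEC : ∀ [Fintype Q] (χ : IrrCharacter Q), ∃ l : List (Q → ℂ),
      (∀ φ ∈ l, φ ∈ IBrIn p M (blockOf M (χ : Q → ℂ))) ∧ pRegularPart p (χ : Q → ℂ) = l.sum)
    (hIBI : LinearIndependent ℂ (fun φ : IBr p M Q => (φ : Q → ℂ)))
    (hINJ : ∀ {m n : ℕ} (ρ : Q →* Matrix (Fin m) (Fin m) (AlgInt ⧸ M))
      (σ : Q →* Matrix (Fin n) (Fin n) (AlgInt ⧸ M)), IsIrredMat ρ → IsIrredMat σ →
      brauerChar p M ρ = brauerChar p M σ → MatEquiv ρ σ)
    {n : ℕ} (τ : Q →* Matrix (Fin n) (Fin n) (AlgInt ⧸ M)) :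
    IsCharacter Q (brauerFull p M τ) := by
  classical
  let _ : Fintype Q := Fintype.ofFinite Q
  have hkey := E4_key hpM hQ (fun χ => hDEC χ) hIBI hINJ
  have hreg : ∀ g : Q, IsPRegular p g := fun g h => hQ (h.trans (orderOf_dvd_natCard g))
  obtain ⟨l, hl1, hl2, -⟩ := Cfsg.Agent.Helper24.DT.exists_compSeries τ
  rw [Cfsg.Agent.Helper10.DT.brauerFull_compSeries τ l hl2]
  apply E4_list_sum
  intro f hf
  obtain ⟨s, hs, rfl⟩ := List.mem_map.mp hf
  apply hkey
  refine ⟨s.1, s.2, hl1 s hs, ?_⟩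
  funext g
  unfold brauerChar pRegularPart
  rw [if_pos (hreg g)]

end Cfsg.Agent.Helper23.DT
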