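import Cfsg.Agent.Helper23.DT_MN4pre
import Cfsg.Agent.Helper87.DT_E4
import Cfsg.Agent.Helper87.DT_DEC
import Cfsg.Agent.Helper55.DT_E4CCore
import Cfsg.Agent.Helper55.DT_E5BCore
import Cfsg.Agent.Helper3.DT_E5C
import Cfsg.Agent.Helper53.DT_EQI
import Cfsg.Agent.Helper30.DT_TEI

/-!
# DT farm (helper16, #13881), leaf (MN4): `dt_main`, the irreducible Brauer characters of a block

`dt_main` is the Skel statement verbatim; `dt_main_canon` is the canonical form asked for by helper82 (#14097) for S4712: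
the finite set is `IBrIn p M B`.  (E5C) is assembled here from the landed cores (E4C, E5B of helper55, E5C of helper3) and
helper87's (E4); (IBI), (INJ) are helper87's assembled copies `E4_IBI`, `E4_INJ`.
-/

set_option autoImplicit false
set_option linter.unusedSectionVars false
set_option linter.unusedVariables false

namespace Cfsg.Agent.Helper23.DT

open Cfsg Cfsg.Agent.Helper16 Cfsg.Agent.Helper16.DT Polynomial Matrix

universe u v w

variable {p : ℕ} [Fact p.Prime] {M : Ideal AlgInt} {G : Type u} [Group G]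

/-- (E5C), assembled from the cores -/
theorem MN4_E5C [M.IsMaximal] (hpM : (p : AlgInt) ∈ M) [Fintype G] {φ : G → ℂ}
    (hφ : φ ∈ IBr p M G) :
    ∃ a : IrrCharacter G → ℤ,
      φ = ∑ᶠ χ : IrrCharacter G, (a χ : ℂ) • pRegularPart p (χ : G → ℂ) :=
  Cfsg.Agent.Helper3.DT.E5C_of_E5B
    (fun ρ E q hq hE => Cfsg.Agent.Helper55.DT.isCharacter_theta_restrict_of
      (fun τ hτ => Cfsg.Agent.Helper55.DT.isCharacter_brauerFull_of_pPrime_image_of
        (@fun Q _ _ hQ n τ' => Cfsg.Agent.Helper87.DT.isCharacter_brauerFull_of_pPrime hpM hQ τ') τ hτ)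
      ρ E q hq hE) hφ

/-- (MN4), canonical form: the finite set is `IBrIn p M B` -/
theorem dt_main_canon (hM : IsPModular p M) [Fintype G] (B : Set (IrrCharacter G))
    (hB : IsPBlock M B) :
    haveI := hM.2.1
    ∃ S : Finset (G → ℂ), (↑S : Set (G → ℂ)) = IBrIn p M B ∧
      LinearIndependent ℂ (fun φ : S => (φ : G → ℂ)) ∧
      S.card = blockRank p B ∧
      (∀ χ ∈ B, ∃ d : (G → ℂ) → ℕ, pRegularPart p (χ : G → ℂ) = ∑ φ ∈ S, (d φ : ℂ) • φ) ∧
      (∀ φ ∈ S, ∃ a : IrrCharacter G → ℤ,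
        φ = ∑ᶠ χ ∈ B, (a χ : ℂ) • pRegularPart p (χ : G → ℂ)) ∧
      (∀ φ ∈ S, ∃ n : ℕ, 0 < n ∧ φ 1 = n) := by
  have : M.IsMaximal := hM.2.1
  have hpM : (p : AlgInt) ∈ M := hM.2.2
  have hteich : teich p M (1 : AlgInt ⧸ M) = 1 := by
    have h := Cfsg.Agent.Helper30.DT.teich_mk_root (p := p) (M := M) hpM (x := 1)
      ⟨1, (Fact.out : p.Prime).not_dvd_one, by simp⟩
    simpa using h
  exact dt_main_canon_of hteich (fun χ => Cfsg.Agent.Helper87.DT.decomposition hpM χ)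
    (Cfsg.Agent.Helper87.DT.E4_IBI hpM)
    (fun ρ σ hρ hσ h => Cfsg.Agent.Helper87.DT.E4_INJ hpM ρ σ hρ hσ h)
    (fun h S x c hx => Cfsg.Agent.Helper53.DT.scalar_of_matEquiv h S x c hx)
    (fun hφ => MN4_E5C hpM hφ) B hB

/-- (MN4) the irreducible Brauer characters of a block -/
theorem dt_main (hM : IsPModular p M) [Fintype G] (B : Set (IrrCharacter G))
    (hB : IsPBlock M B) :
    ∃ S : Finset (G → ℂ), LinearIndependent ℂ (fun φ : S => (φ : G → ℂ)) ∧
      S.card = blockRank p B ∧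
      (∀ χ ∈ B, ∃ d : (G → ℂ) → ℕ, pRegularPart p (χ : G → ℂ) = ∑ φ ∈ S, (d φ : ℂ) • φ) ∧
      (∀ φ ∈ S, ∃ a : IrrCharacter G → ℤ,
        φ = ∑ᶠ χ ∈ B, (a χ : ℂ) • pRegularPart p (χ : G → ℂ)) ∧
      (∀ φ ∈ S, ∃ n : ℕ, 0 < n ∧ φ 1 = n) := by
  obtain ⟨S, -, h⟩ := dt_main_canon hM B hB
  exact ⟨S, h⟩

end Cfsg.Agent.Helper23.DT
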