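import Mathlib

/-!
# Piece (FIX1) of helper3's plan for S4467 (Dixon's theorem, board #9711)

`Z(C_E(g)) = Z(G)` for a `p`-element `g` acting on a class-two normal subgroup `E` with
`E / Z(G)` of exponent a power of `r ≠ p`; together with the fixed-point lemma used for (FIX2).
-/

set_option autoImplicit false

namespace Cfsg.Agent.Helper23.Dixon

open scoped commutatorElement

universe u

variable {G : Type u} [Group G]

/-- central elements commute with everything -/
theorem central_comm {z : G} (hz : z ∈ Subgroup.center G) (h : G) : z * h = h * z :=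
  (Subgroup.mem_center_iff.mp hz h).symm

/-- an element of order dividing two coprime prime powers is trivial -/
theorem eq_one_of_pow_coprime {p r j k : ℕ} (hp : p.Prime) (hr : r.Prime) (hpr : p ≠ r) {c : G}
    (h1 : c ^ (p ^ j) = 1) (h2 : c ^ (r ^ k) = 1) : c = 1 := by
  have d1 : orderOf c ∣ p ^ j := orderOf_dvd_of_pow_eq_one h1
  have d2 : orderOf c ∣ r ^ k := orderOf_dvd_of_pow_eq_one h2
  have hcop : Nat.Coprime (p ^ j) (r ^ k) :=
    Nat.Coprime.pow j k ((Nat.coprime_primes hp hr).mpr hpr)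
  have h : orderOf c = 1 := Nat.Coprime.eq_one_of_dvd (Nat.Coprime.coprime_dvd_left d1 hcop) d2
  exact orderOf_eq_one_iff.mp h

/-- the **fixed-point lemma**: a central commutator `⁅g, w⁆` of a `p`-element `g` with an element
`w` whose `r^k`-th power is central is trivial -/
theorem fixed_point_lemma {p r j k : ℕ} (hp : p.Prime) (hr : r.Prime) (hpr : p ≠ r)
    (g w : G) (hg : orderOf g = p ^ j) (hwr : w ^ (r ^ k) ∈ Subgroup.center G)
    (hc : ⁅g, w⁆ ∈ Subgroup.center G) : ⁅g, w⁆ = 1 := by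
  set c := ⁅g, w⁆ with hcdef
  have hgw : g * w * g⁻¹ = c * w := by
    rw [hcdef, commutatorElement_def]; group
  have hcc : ∀ h : G, Commute c h := fun h => central_comm hc h
  have h1 : ∀ n : ℕ, g ^ n * w * (g ^ n)⁻¹ = c ^ n * w := by
    intro n
    induction n with
    | zero => simp
    | succ n ih =>
      have e : g ^ (n + 1) * w * (g ^ (n + 1))⁻¹ = g * (g ^ n * w * (g ^ n)⁻¹) * g⁻¹ := by
        rw [pow_succ']; group
      have hcn : c ^ n * g = g * c ^ n := ((hcc g).pow_left n).eq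
      rw [e, ih]
      calc g * (c ^ n * w) * g⁻¹ = (g * c ^ n) * w * g⁻¹ := by group
        _ = (c ^ n * g) * w * g⁻¹ := by rw [hcn]
        _ = c ^ n * (g * w * g⁻¹) := by group
        _ = c ^ (n + 1) * w := by rw [hgw, pow_succ, mul_assoc]
  have hca : c ^ (p ^ j) = 1 := by
    have h := h1 (p ^ j)
    rw [← hg, pow_orderOf_eq_one] at h
    simp only [one_mul, inv_one, mul_one] at h
    have h' : c ^ orderOf g * w = 1 * w := by rw [one_mul]; exact h.symm
    rw [← hg]
    exact mul_right_cancel h'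
  have hcr : c ^ (r ^ k) = 1 := by
    have e1 : (g * w * g⁻¹) ^ (r ^ k) = g * w ^ (r ^ k) * g⁻¹ := conj_pow
    have e2 : (c * w) ^ (r ^ k) = c ^ (r ^ k) * w ^ (r ^ k) := (hcc w).mul_pow (r ^ k)
    have e3 : g * w ^ (r ^ k) * g⁻¹ = w ^ (r ^ k) := by
      rw [← central_comm hwr g, mul_inv_cancel_right]
    rw [hgw, e2, e3] at e1
    have h' : c ^ (r ^ k) * w ^ (r ^ k) = 1 * w ^ (r ^ k) := by rw [one_mul]; exact e1
    exact mul_right_cancel h'
  exact eq_one_of_pow_coprime hp hr hpr hca hcr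

/-- commutators with central values are multiplicative in the second argument -/
theorem comm_mul_of_central (x z z' : G) (hd : ⁅x, z'⁆ ∈ Subgroup.center G) :
    ⁅x, z * z'⁆ = ⁅x, z⁆ * ⁅x, z'⁆ := by
  have e1 : ⁅x, z * z'⁆ = (x * z * x⁻¹) * ⁅x, z'⁆ * z⁻¹ := by
    simp only [commutatorElement_def]; group
  rw [e1, mul_assoc, central_comm hd z⁻¹, ← mul_assoc]
  simp only [commutatorElement_def]

/-- a central commutator is invariant under conjugating the second argument by an element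
commuting with the first -/
theorem comm_conj_of_central (x g z : G) (hxg : x * g = g * x)
    (hd : ⁅x, z⁆ ∈ Subgroup.center G) : ⁅x, g * z * g⁻¹⁆ = ⁅x, z⁆ := by
  have hx' : g * x * g⁻¹ = x := by rw [← hxg]; group
  calc ⁅x, g * z * g⁻¹⁆ = ⁅g * x * g⁻¹, g * z * g⁻¹⁆ := by rw [hx']
    _ = g * ⁅x, z⁆ * g⁻¹ := by simp only [commutatorElement_def]; group
    _ = ⁅x, z⁆ := by rw [← central_comm hd g, mul_inv_cancel_right]

/-- the partial products `y · gyg⁻¹ ⋯ g^{n-1} y g^{-(n-1)}` -/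
def wseq (g y : G) : ℕ → G
  | 0 => 1
  | n + 1 => wseq g y n * (g ^ n * y * (g ^ n)⁻¹)

theorem wseq_conj (g y : G) (n : ℕ) : g * wseq g y n * g⁻¹ = y⁻¹ * wseq g y (n + 1) := by
  induction n with
  | zero => simp [wseq]
  | succ n ih =>
    have e : g * wseq g y (n + 1) * g⁻¹ =
        (g * wseq g y n * g⁻¹) * (g ^ (n + 1) * y * (g ^ (n + 1))⁻¹) := by
      show g * (wseq g y n * (g ^ n * y * (g ^ n)⁻¹)) * g⁻¹ = _
      rw [pow_succ']; group
    rw [e, ih]
    show _ = y⁻¹ * (wseq g y (n + 1) * (g ^ (n + 1) * y * (g ^ (n + 1))⁻¹))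
    rw [mul_assoc]

theorem wseq_mem (E : Subgroup G) [E.Normal] (g y : G) (hy : y ∈ E) (n : ℕ) :
    wseq g y n ∈ E := by
  induction n with
  | zero => exact E.one_mem
  | succ n ih =>
    exact E.mul_mem ih (Subgroup.Normal.conj_mem inferInstance y hy (g ^ n))

/-- (FIX1) -/
theorem center_fix [Finite G] {p r k : ℕ} (hp : p.Prime) (hr : r.Prime)
    (hpr : p ≠ r) (E : Subgroup G) [E.Normal] (hZE : Subgroup.center G ≤ E)
    (hcomm : ∀ x ∈ E, ∀ y ∈ E, ⁅x, y⁆ ∈ Subgroup.center G)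
    (hexp : ∀ x ∈ E, x ^ (r ^ k) ∈ Subgroup.center G)
    (hcen : ∀ x ∈ E, (∀ y ∈ E, x * y = y * x) → x ∈ Subgroup.center G)
    (g : G) (hg : ∃ j : ℕ, orderOf g = p ^ j) :
    ∀ x ∈ E ⊓ Subgroup.centralizer {g},
      (∀ y ∈ E ⊓ Subgroup.centralizer {g}, x * y = y * x) → x ∈ Subgroup.center G := by
  obtain ⟨j, hj⟩ := hg
  intro x hxm hx
  obtain ⟨hxE, hxg⟩ := Subgroup.mem_inf.mp hxm
  have hxg' : x * g = g * x := Subgroup.mem_centralizer_singleton_iff.mp hxg
  apply hcen x hxE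
  intro y hy
  -- `f z = ⁅x, z⁆`
  have hfconj : ∀ n : ℕ, ∀ z ∈ E, ⁅x, g ^ n * z * (g ^ n)⁻¹⁆ = ⁅x, z⁆ := by
    intro n z hz
    have hxgn : x * g ^ n = g ^ n * x := (Commute.pow_right (show Commute x g from hxg') n).eq
    exact comm_conj_of_central x (g ^ n) z hxgn (hcomm x hxE z hz)
  have hfw : ∀ n : ℕ, ⁅x, wseq g y n⁆ = ⁅x, y⁆ ^ n := by
    intro n
    induction n with
    | zero => simp [wseq]
    | succ n ih =>
      show ⁅x, wseq g y n * (g ^ n * y * (g ^ n)⁻¹)⁆ = _
      rw [comm_mul_of_central x _ _ (hcomm x hxE _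
        (Subgroup.Normal.conj_mem inferInstance y hy (g ^ n))), ih, hfconj n y hy, pow_succ]
  have hfpow : ∀ n : ℕ, ⁅x, y ^ n⁆ = ⁅x, y⁆ ^ n := by
    intro n
    induction n with
    | zero => simp
    | succ n ih =>
      rw [pow_succ, comm_mul_of_central x _ _ (hcomm x hxE y hy), ih, pow_succ]
  -- the averaged element
  set a := orderOf g with ha
  set w := wseq g y a with hw
  have hwE : w ∈ E := wseq_mem E g y hy a
  have hwconj : g * w * g⁻¹ = y⁻¹ * w * y := by
    have h := wseq_conj g y a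
    have e : wseq g y (a + 1) = w * y := by
      show wseq g y a * (g ^ a * y * (g ^ a)⁻¹) = w * y
      rw [ha, pow_orderOf_eq_one]; simp [hw, ha]
    rw [h, e, mul_assoc]
  have hgwc : ⁅g, w⁆ = ⁅y⁻¹, w⁆ := by
    simp only [commutatorElement_def, inv_inv]
    rw [hwconj]
  have hgw1 : ⁅g, w⁆ = 1 := by
    apply fixed_point_lemma hp hr hpr g w hj (hexp w hwE)
    rw [hgwc]
    exact hcomm _ (E.inv_mem hy) _ hwE
  have hwC : w ∈ E ⊓ Subgroup.centralizer {g} := by
    rw [commutatorElement_eq_one_iff_mul_comm] at hgw1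
    exact Subgroup.mem_inf.mpr ⟨hwE, Subgroup.mem_centralizer_singleton_iff.mpr hgw1.symm⟩
  have hxw : ⁅x, w⁆ = 1 := by
    rw [commutatorElement_eq_one_iff_mul_comm]
    exact hx w hwC
  have h1 : ⁅x, y⁆ ^ (p ^ j) = 1 := by
    rw [← hj, ← hfw, ← hw, hxw]
  have h2 : ⁅x, y⁆ ^ (r ^ k) = 1 := by
    rw [← hfpow, commutatorElement_eq_one_iff_mul_comm]
    exact (central_comm (hexp y hy) x).symm
  have h3 : ⁅x, y⁆ = 1 := eq_one_of_pow_coprime hp hr hpr h1 h2
  exact commutatorElement_eq_one_iff_mul_comm.mp h3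

end Cfsg.Agent.Helper23.Dixon
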