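import Mathlib
import Cfsg.Agent.Helper23.DixonFIX1

/-!
# Piece (FIX2) of helper3's plan for S4467 (Dixon's theorem, board #9711)

`|E : Z(G)| ≡ |C_E(g) : Z(G)| (mod p)` for a `p`-element `g`, by the fixed-point congruence for
the conjugation action of `⟨g⟩` on `E / Z(G)` and the fixed-point lemma of (FIX1).
The hypothesis `hcomm` of the skeleton is not needed.
-/

set_option autoImplicit false

namespace Cfsg.Agent.Helper23.Dixon

open scoped commutatorElement

universe u

/-- `Nat.card` of `H.subgroupOf K` for `H ≤ K` -/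
theorem card_subgroupOf_of_le {G : Type u} [Group G] {H K : Subgroup G} (h : H ≤ K) :
    Nat.card (H.subgroupOf K) = Nat.card H :=
  Nat.card_congr (Subgroup.subgroupOfEquivOfLe h).toEquiv

/-- for `H ≤ K`, `|H| * |K : H| = |K|` -/
theorem card_mul_relIndex_of_le {G : Type u} [Group G] {H K : Subgroup G} (h : H ≤ K) :
    Nat.card H * H.relIndex K = Nat.card K := by
  have := Subgroup.card_mul_index (H.subgroupOf K)
  rw [card_subgroupOf_of_le h] at this
  exact this

/-- an element commuting with `g` commutes with all elements of `zpowers g` -/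
theorem comm_of_mem_zpowers {G : Type u} [Group G] {g w a : G} (hw : g * w = w * g)
    (ha : a ∈ Subgroup.zpowers g) : a * w = w * a := by
  obtain ⟨n, rfl⟩ := Subgroup.mem_zpowers_iff.mp ha
  exact ((show Commute g w from hw).zpow_left n).eq

/-- (FIX2) -/
theorem relIndex_fix_modEq {G : Type u} [Group G] [Finite G] {p r k : ℕ} (hp : p.Prime)
    (hr : r.Prime) (hpr : p ≠ r) (E : Subgroup G) [E.Normal]
    (hZE : Subgroup.center G ≤ E)
    (hcomm : ∀ x ∈ E, ∀ y ∈ E, ⁅x, y⁆ ∈ Subgroup.center G)
    (hexp : ∀ x ∈ E, x ^ (r ^ k) ∈ Subgroup.center G)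
    (g : G) (hg : ∃ j : ℕ, orderOf g = p ^ j) :
    (Subgroup.center G).relIndex E ≡
      (Subgroup.center G).relIndex (E ⊓ Subgroup.centralizer {g}) [MOD p] := by
  obtain ⟨j, hj⟩ := hg
  have : Fact p.Prime := ⟨hp⟩
  have hPp : IsPGroup p (Subgroup.zpowers g) :=
    IsPGroup.of_card (n := j) (by rw [Nat.card_zpowers, hj])
  let act : MulAction (Subgroup.zpowers g) E :=
    MulAction.compHom E ((MulAut.conjNormal (H := E)).comp (Subgroup.zpowers g).subtype)
  have hsmul : ∀ (a : Subgroup.zpowers g) (w : E),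
      ((a • w : E) : G) = (a : G) * w * (a : G)⁻¹ := fun a w => MulAut.conjNormal_apply _ _
  have hQA : MulAction.QuotientAction (Subgroup.zpowers g)
      ((Subgroup.center G).subgroupOf E) := ⟨by
    intro b a a' h
    rw [Subgroup.mem_subgroupOf] at h ⊢
    have e : (((b • a)⁻¹ * b • a' : E) : G) = ((a⁻¹ * a' : E) : G) := by
      push_cast
      rw [hsmul, hsmul]
      have hc := central_comm h (b : G)⁻¹
      push_cast at hc
      calc ((b : G) * a * (b : G)⁻¹)⁻¹ * ((b : G) * a' * (b : G)⁻¹)
          = (b : G) * (((a : G)⁻¹ * a') * (b : G)⁻¹) := by group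
        _ = (b : G) * ((b : G)⁻¹ * ((a : G)⁻¹ * a')) := by rw [hc]
        _ = (a : G)⁻¹ * a' := by group
    rw [e]
    exact h⟩
  have hmain := hPp.card_modEq_card_fixedPoints (E ⧸ (Subgroup.center G).subgroupOf E)
  have hcardQ : Nat.card (E ⧸ (Subgroup.center G).subgroupOf E) =
      (Subgroup.center G).relIndex E := rfl
  rw [hcardQ] at hmain
  refine hmain.trans ?_
  -- count the fixed points
  set t : Set (E ⧸ (Subgroup.center G).subgroupOf E) :=
    MulAction.fixedPoints (Subgroup.zpowers g) (E ⧸ (Subgroup.center G).subgroupOf E) with ht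
  have hZC : Subgroup.center G ≤ E ⊓ Subgroup.centralizer {g} := by
    intro z hz
    refine Subgroup.mem_inf.mpr ⟨hZE hz, Subgroup.mem_centralizer_singleton_iff.mpr ?_⟩
    exact central_comm hz g
  have hpre : (QuotientGroup.mk ⁻¹' t : Set E) =
      (((E ⊓ Subgroup.centralizer {g}).subgroupOf E : Subgroup E) : Set E) := by
    ext w
    simp only [Set.mem_preimage, SetLike.mem_coe, Subgroup.mem_subgroupOf, Subgroup.mem_inf]
    constructor
    · intro hw
      refine ⟨w.2, Subgroup.mem_centralizer_singleton_iff.mpr ?_⟩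
      have hfix : (⟨g, Subgroup.mem_zpowers g⟩ : Subgroup.zpowers g) •
          (QuotientGroup.mk w : E ⧸ (Subgroup.center G).subgroupOf E) = QuotientGroup.mk w :=
        hw _
      rw [MulAction.Quotient.smul_mk] at hfix
      have h2 := QuotientGroup.eq.mp hfix
      rw [Subgroup.mem_subgroupOf] at h2
      push_cast at h2
      rw [hsmul] at h2
      -- `(g w g⁻¹)⁻¹ * w ∈ Z`
      have h3 : ⁅g, (w : G)⁆ ∈ Subgroup.center G := by
        have h4 := (Subgroup.center G).inv_mem h2
        have e : ⁅g, (w : G)⁆ = (w : G) * (((g * w * g⁻¹)⁻¹ * w)⁻¹) * (w : G)⁻¹ := by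
          rw [commutatorElement_def]; group
        rw [e]
        exact Subgroup.Normal.conj_mem inferInstance _ h4 _
      have h5 := fixed_point_lemma hp hr hpr g (w : G) hj (hexp w w.2) h3
      exact (commutatorElement_eq_one_iff_mul_comm.mp h5).symm
    · rintro ⟨-, hw⟩
      have hw' : g * w = w * g := (Subgroup.mem_centralizer_singleton_iff.mp hw).symm
      intro a
      rw [MulAction.Quotient.smul_mk]
      congr 1
      apply Subtype.ext
      rw [hsmul, comm_of_mem_zpowers hw' a.2, mul_inv_cancel_right]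
  have hc1 := QuotientGroup.card_preimage_mk ((Subgroup.center G).subgroupOf E) t
  rw [hpre] at hc1
  have hc2 : Nat.card (((E ⊓ Subgroup.centralizer {g}).subgroupOf E : Subgroup E) : Set E) =
      Nat.card (E ⊓ Subgroup.centralizer {g} : Subgroup G) :=
    card_subgroupOf_of_le inf_le_left
  rw [hc2, card_subgroupOf_of_le hZE, ← card_mul_relIndex_of_le hZC] at hc1
  have hpos : 0 < Nat.card (Subgroup.center G) := Nat.card_pos
  have := Nat.eq_of_mul_eq_mul_left hpos hc1
  rw [this]

end Cfsg.Agent.Helper23.Dixon
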