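import Mathlib
import Cfsg.Agent.Helper40.E6Tor.Defs

/-!
# helper23: piece (LINALG) of helper40's E6Tor farm (S2373)

`eq_smul_one_of_coxLike`: a multiple of an idempotent commuting with a Coxeter-like matrix and
non-zero on both primary components is a scalar.  Krylov argument over `ℚ`.
-/

set_option autoImplicit false

namespace Cfsg.Agent.Helper23.E6Tor

open Polynomial Cfsg.Agent.Helper40.E6Tor

/-- Krylov core in arbitrary dimension: if `y ≠ 0` is killed by `Φ(A)` for an irreducible `Φ` of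
degree `d`, then `y, Ay, …, A^(d-1) y` are linearly independent. -/
theorem LINALG_krylov_li {n d : ℕ} (A : Matrix (Fin n) (Fin n) ℚ) (Φ : ℚ[X]) (hirr : Irreducible Φ)
    (hdeg : Φ.natDegree = d) (y : Fin n → ℚ) (hy : y ≠ 0) (hΦy : (aeval A Φ).mulVec y = 0) :
    LinearIndependent ℚ (fun i : Fin d => (A ^ (i : ℕ)).mulVec y) := by
  rw [Fintype.linearIndependent_iff]
  intro g hg
  set p : ℚ[X] := ∑ i : Fin d, C (g i) * X ^ (i : ℕ) with hp
  have hpy : (aeval A p).mulVec y = 0 := by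
    rw [hp, map_sum, Matrix.sum_mulVec]
    rw [← hg]
    refine Finset.sum_congr rfl fun i _ => ?_
    rw [map_mul, aeval_C, map_pow, aeval_X, Algebra.algebraMap_eq_smul_one, smul_mul_assoc, one_mul,
      Matrix.smul_mulVec]
  have hpdeg : p.degree < d := Polynomial.degree_sum_fin_lt g
  have hp0 : p = 0 := by
    by_contra hne
    have hnd : ¬ Φ ∣ p := by
      intro hd
      apply hne
      apply Polynomial.eq_zero_of_dvd_of_degree_lt hd
      rw [Polynomial.degree_eq_natDegree hirr.ne_zero, hdeg]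
      exact hpdeg
    have hcop : IsCoprime Φ p := (Irreducible.coprime_iff_not_dvd hirr).2 hnd
    obtain ⟨a, b, hab⟩ := hcop
    apply hy
    have h1 : (aeval A (a * Φ + b * p)).mulVec y = y := by
      rw [hab, map_one, Matrix.one_mulVec]
    rw [map_add, map_mul, map_mul, Matrix.add_mulVec, ← Matrix.mulVec_mulVec, ← Matrix.mulVec_mulVec,
      hΦy, hpy, Matrix.mulVec_zero, Matrix.mulVec_zero, add_zero] at h1
    exact h1.symm
  intro i
  have hc : p.coeff (i : ℕ) = g i := by
    rw [hp, Polynomial.finsetSum_coeff]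
    rw [Finset.sum_eq_single i]
    · rw [Polynomial.coeff_C_mul, Polynomial.coeff_X_pow, if_pos rfl, mul_one]
    · intro j _ hji
      rw [Polynomial.coeff_C_mul, Polynomial.coeff_X_pow, if_neg, mul_zero]
      intro h
      exact hji (Fin.ext h.symm)
    · intro h
      exact absurd (Finset.mem_univ i) h
  rw [← hc, hp0, Polynomial.coeff_zero]

/-- `aeval A p` commutes with the powers of `A` -/
theorem LINALG_aeval_comm {n : ℕ} (A : Matrix (Fin n) (Fin n) ℚ) (p : ℚ[X]) (i : ℕ) :
    aeval A p * A ^ i = A ^ i * aeval A p := by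
  have h : A ^ i = aeval A (X ^ i : ℚ[X]) := by rw [map_pow, aeval_X]
  rw [h, ← map_mul, ← map_mul, mul_comm]

/-- the two Krylov blocks together span `ℚ⁶`: a matrix commuting with `A` and killing a non-zero
vector of each primary component is zero -/
theorem LINALG_zero (A f : Matrix (Fin 6) (Fin 6) ℚ) (hc : Commute A f)
    (y z : Fin 6 → ℚ) (hy : y ≠ 0) (hz : z ≠ 0)
    (h12y : (aeval A (cyclotomic 12 ℚ)).mulVec y = 0)
    (h3z : (aeval A (cyclotomic 3 ℚ)).mulVec z = 0)
    (hfy : f.mulVec y = 0) (hfz : f.mulVec z = 0) : f = 0 := by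
  have hli1 : LinearIndependent ℚ (fun i : Fin 4 => (A ^ (i : ℕ)).mulVec y) :=
    LINALG_krylov_li A (cyclotomic 12 ℚ) (cyclotomic.irreducible_rat (by norm_num))
      (by rw [natDegree_cyclotomic]; decide) y hy h12y
  have hli2 : LinearIndependent ℚ (fun i : Fin 2 => (A ^ (i : ℕ)).mulVec z) :=
    LINALG_krylov_li A (cyclotomic 3 ℚ) (cyclotomic.irreducible_rat (by norm_num))
      (by rw [natDegree_cyclotomic]; decide) z hz h3z
  have hcop : IsCoprime (cyclotomic 12 ℚ) (cyclotomic 3 ℚ) :=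
    cyclotomic.isCoprime_rat (by norm_num)
  have hdisj : Disjoint (Submodule.span ℚ (Set.range fun i : Fin 4 => (A ^ (i : ℕ)).mulVec y))
      (Submodule.span ℚ (Set.range fun i : Fin 2 => (A ^ (i : ℕ)).mulVec z)) := by
    have h1 : Submodule.span ℚ (Set.range fun i : Fin 4 => (A ^ (i : ℕ)).mulVec y) ≤
        LinearMap.ker (aeval A (cyclotomic 12 ℚ)).mulVecLin := by
      rw [Submodule.span_le]
      rintro _ ⟨i, rfl⟩
      simp only [SetLike.mem_coe, LinearMap.mem_ker, Matrix.mulVecLin_apply]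
      rw [Matrix.mulVec_mulVec, LINALG_aeval_comm, ← Matrix.mulVec_mulVec, h12y, Matrix.mulVec_zero]
    have h2 : Submodule.span ℚ (Set.range fun i : Fin 2 => (A ^ (i : ℕ)).mulVec z) ≤
        LinearMap.ker (aeval A (cyclotomic 3 ℚ)).mulVecLin := by
      rw [Submodule.span_le]
      rintro _ ⟨i, rfl⟩
      simp only [SetLike.mem_coe, LinearMap.mem_ker, Matrix.mulVecLin_apply]
      rw [Matrix.mulVec_mulVec, LINALG_aeval_comm, ← Matrix.mulVec_mulVec, h3z, Matrix.mulVec_zero]
    refine Disjoint.mono h1 h2 ?_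
    rw [Submodule.disjoint_def]
    intro x hx1 hx2
    simp only [LinearMap.mem_ker, Matrix.mulVecLin_apply] at hx1 hx2
    obtain ⟨a, b, hab⟩ := hcop
    have h1 : (aeval A (a * cyclotomic 12 ℚ + b * cyclotomic 3 ℚ)).mulVec x = x := by
      rw [hab, map_one, Matrix.one_mulVec]
    rw [map_add, map_mul, map_mul, Matrix.add_mulVec, ← Matrix.mulVec_mulVec, ← Matrix.mulVec_mulVec,
      hx1, hx2, Matrix.mulVec_zero, Matrix.mulVec_zero, add_zero] at h1
    exact h1.symm
  have hli := LinearIndependent.sum_type hli1 hli2 hdisj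
  have hcard : Fintype.card (Fin 4 ⊕ Fin 2) = Module.finrank ℚ (Fin 6 → ℚ) := by
    rw [Module.finrank_fin_fun]; rfl
  set b := basisOfLinearIndependentOfCardEqFinrank' _ hli hcard with hb
  have hbi : ∀ i, b i = Sum.elim (fun i : Fin 4 => (A ^ (i : ℕ)).mulVec y)
      (fun i : Fin 2 => (A ^ (i : ℕ)).mulVec z) i := by
    intro i
    rw [hb]
    exact congrFun (coe_basisOfLinearIndependentOfCardEqFinrank' _ hli hcard) i
  have hlin : f.mulVecLin = 0 := by
    apply b.ext
    intro i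
    rw [hbi, LinearMap.zero_apply, Matrix.mulVecLin_apply]
    rcases i with i | i
    · simp only [Sum.elim_inl]
      have hcp : Commute (A ^ (i : ℕ)) f := hc.pow_left _
      rw [Matrix.mulVec_mulVec, ← hcp.eq, ← Matrix.mulVec_mulVec, hfy, Matrix.mulVec_zero]
    · simp only [Sum.elim_inr]
      have hcp : Commute (A ^ (i : ℕ)) f := hc.pow_left _
      rw [Matrix.mulVec_mulVec, ← hcp.eq, ← Matrix.mulVec_mulVec, hfz, Matrix.mulVec_zero]
  have h1 : Matrix.toLin' f = 0 := by
    rw [Matrix.toLin'_apply']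
    exact hlin
  have h2 : Matrix.toLin' f = Matrix.toLin' (0 : Matrix (Fin 6) (Fin 6) ℚ) := by
    rw [h1, map_zero]
  exact Matrix.toLin'.injective h2

theorem LINALG_cyc12 (A : Matrix (Fin 6) (Fin 6) ℚ) :
    aeval A (cyclotomic 12 ℚ) = A ^ 4 - A ^ 2 + 1 := by
  have h : cyclotomic 12 ℚ = X ^ 4 - X ^ 2 + 1 := by
    have := cyclotomic_expand_eq_cyclotomic Nat.prime_two (show 2 ∣ 6 by norm_num) ℚ
    rw [show 6 * 2 = 12 by norm_num] at this
    rw [← this, cyclotomic_six]
    simp only [map_add, map_sub, map_pow, expand_X, map_one]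
    ring
  rw [h]
  simp only [map_add, map_sub, map_pow, aeval_X, map_one]

theorem LINALG_cyc3 (A : Matrix (Fin 6) (Fin 6) ℚ) :
    aeval A (cyclotomic 3 ℚ) = A ^ 2 + A + 1 := by
  rw [cyclotomic_three]
  simp only [map_add, map_pow, aeval_X, map_one]

/-- the statement over `ℚ` -/
theorem LINALG_Q (A E : Matrix (Fin 6) (Fin 6) ℚ) (m : ℚ)
    (hA : A ^ 6 + A ^ 5 - A ^ 3 + A + 1 = 0) (hc : Commute A E) (hE : E * E = m • E)
    (h12 : E * (A ^ 2 + A + 1) ≠ 0) (h3 : E * (A ^ 4 - A ^ 2 + 1) ≠ 0) :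
    E = m • (1 : Matrix (Fin 6) (Fin 6) ℚ) := by
  have hex : ∀ N : Matrix (Fin 6) (Fin 6) ℚ, N ≠ 0 → ∃ x : Fin 6 → ℚ, N.mulVec x ≠ 0 := by
    intro N hN
    by_contra hcon
    push Not at hcon
    apply hN
    have h1 : Matrix.toLin' N = Matrix.toLin' (0 : Matrix (Fin 6) (Fin 6) ℚ) := by
      apply LinearMap.ext
      intro x
      rw [Matrix.toLin'_apply, hcon x, map_zero, LinearMap.zero_apply]
    exact Matrix.toLin'.injective h1
  obtain ⟨x, hx⟩ := hex _ h12
  obtain ⟨x', hx'⟩ := hex _ h3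
  have hprod : (A ^ 4 - A ^ 2 + 1) * (A ^ 2 + A + 1) = 0 := by
    rw [← hA]; noncomm_ring
  have hprod' : (A ^ 2 + A + 1) * (A ^ 4 - A ^ 2 + 1) = 0 := by
    rw [← hA]; noncomm_ring
  have hc12 : Commute (A ^ 4 - A ^ 2 + 1) E :=
    (((hc.pow_left 4).sub_left (hc.pow_left 2)).add_left (Commute.one_left E))
  have hc3 : Commute (A ^ 2 + A + 1) E :=
    (((hc.pow_left 2).add_left hc).add_left (Commute.one_left E))
  have hfE : (m • (1 : Matrix (Fin 6) (Fin 6) ℚ) - E) * E = 0 := by
    rw [sub_mul, smul_mul_assoc, one_mul, hE, sub_self]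
  have hcf : Commute A (m • (1 : Matrix (Fin 6) (Fin 6) ℚ) - E) :=
    ((Commute.one_right A).smul_right m).sub_right hc
  have hf : m • (1 : Matrix (Fin 6) (Fin 6) ℚ) - E = 0 := by
    refine LINALG_zero A _ hcf ((E * (A ^ 2 + A + 1)).mulVec x) ((E * (A ^ 4 - A ^ 2 + 1)).mulVec x')
      hx hx' ?_ ?_ ?_ ?_
    · rw [LINALG_cyc12, Matrix.mulVec_mulVec, ← mul_assoc, hc12.eq, mul_assoc, hprod, mul_zero,
        Matrix.zero_mulVec]
    · rw [LINALG_cyc3, Matrix.mulVec_mulVec, ← mul_assoc, hc3.eq, mul_assoc, hprod', mul_zero,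
        Matrix.zero_mulVec]
    · rw [Matrix.mulVec_mulVec, ← mul_assoc, hfE, zero_mul, Matrix.zero_mulVec]
    · rw [Matrix.mulVec_mulVec, ← mul_assoc, hfE, zero_mul, Matrix.zero_mulVec]
  exact (sub_eq_zero.1 hf).symm

/-- (LINALG) a multiple of an idempotent commuting with a Coxeter-like matrix and non-zero on both
primary components is a scalar -/
theorem eq_smul_one_of_coxLike (M e : Matrix (Fin 6) (Fin 6) ℤ) (m : ℤ) (hm : m ≠ 0) (hM : CoxLike M)
    (hc : Commute M e) (he : e * e = m • e) (h12 : e * (M ^ 2 + M + 1) ≠ 0)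
    (h3 : e * (M ^ 4 - M ^ 2 + 1) ≠ 0) : e = m • (1 : Matrix (Fin 6) (Fin 6) ℤ) := by
  set φ : Matrix (Fin 6) (Fin 6) ℤ →+* Matrix (Fin 6) (Fin 6) ℚ := (Int.castRingHom ℚ).mapMatrix
    with hφ
  have hinj : Function.Injective φ := by
    intro X Y h
    ext i j
    have := congrFun (congrFun h i) j
    simp only [hφ, RingHom.mapMatrix_apply, Matrix.map_apply, Int.coe_castRingHom] at this
    exact_mod_cast this
  have hsm : ∀ X : Matrix (Fin 6) (Fin 6) ℤ, φ (m • X) = (m : ℚ) • φ X := by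
    intro X
    ext i j
    simp only [hφ, RingHom.mapMatrix_apply, Matrix.map_apply, Matrix.smul_apply, Int.coe_castRingHom,
      smul_eq_mul, Int.cast_mul]
  apply hinj
  rw [hsm, map_one]
  apply LINALG_Q (φ M) (φ e) (m : ℚ)
  · have := congrArg φ hM.1
    simpa only [map_add, map_sub, map_pow, map_one, map_zero] using this
  · exact hc.map φ
  · rw [← map_mul, he, hsm]
  · intro h
    apply h12
    apply hinj
    rw [map_zero, ← h]
    simp only [map_mul, map_add, map_pow, map_one]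
  · intro h
    apply h3
    apply hinj
    rw [map_zero, ← h]
    simp only [map_mul, map_add, map_sub, map_pow, map_one]

end Cfsg.Agent.Helper23.E6Tor
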