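import Cfsg.Agent.Helper40.E6Tor.Defs2

/-!
# helper23: piece (SCMAIN) of helper40's E6Tor farm (S2373)

`sc_main`: the two descent statements from `SCData` (abstract group theory).
-/

set_option autoImplicit false
set_option linter.unusedVariables false

namespace Cfsg.Agent.Helper23.E6Tor

open Cfsg Cfsg.Lie Cfsg.Agent.Helper18 Cfsg.Agent.Helper19.Cox Cfsg.Agent.Helper19.Poinc
  Cfsg.Agent.Helper80.Tor Cfsg.Agent.Helper36.TorD Cfsg.Agent.Helper83.E6C Cfsg.Agent.Helper40.E6Tor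

section SC

variable {F : Type*} {K : Type*} [Field F] [Fintype F] [Field K] [Fintype K] [Algebra F K]

/-- two elements of `Gt` with the same image differ by a torus element of the kernel -/
theorem SCMAIN_ker (d : SCData F K) (a b : d.Gt) (h : d.π a = d.π b) :
    ∃ k : Fin 6 → Kˣ, torusHom chevE6 K k = 1 ∧ a = d.τt k * b := by
  obtain ⟨k, hk1, hk2⟩ := d.hker (a * b⁻¹) (by rw [map_mul, map_inv, h, mul_inv_cancel])
  exact ⟨k, hk1, by rw [← hk2, inv_mul_cancel_right]⟩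

/-- group bookkeeping -/
theorem SCMAIN_grp {G : Type*} [Group G] (tk ta n tb tc tz : G) (h1 : tb * tc = tc * tb)
    (h2 : n * tc * n⁻¹ = tz) (h3 : ta * tz = tz * ta) (h4 : tk * tz = tz * tk) :
    (tk * (ta * n * tb)) * tc * (tk * (ta * n * tb))⁻¹ = tz := by
  have e1 : tb * tc * tb⁻¹ = tc := by rw [h1, mul_inv_cancel_right]
  have e3 : ta * tz * ta⁻¹ = tz := by rw [h3, mul_inv_cancel_right]
  have e4 : tk * tz * tk⁻¹ = tz := by rw [h4, mul_inv_cancel_right]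
  calc (tk * (ta * n * tb)) * tc * (tk * (ta * n * tb))⁻¹
      = tk * (ta * (n * (tb * tc * tb⁻¹) * n⁻¹) * ta⁻¹) * tk⁻¹ := by group
    _ = tz := by rw [e1, h2, e3, e4]

/-- the lift `ñ₁ = τt k * (τt ca * nt w * τt cb)` acts on the torus through `wordM chevE6 w.reverse` -/
theorem SCMAIN_conj (d : SCData F K) (w : List ℕ) (hw : ∀ i ∈ w, i < 6) (k ca cb c : Fin 6 → Kˣ) :
    (d.τt k * (d.τt ca * d.nt w * d.τt cb)) * d.τt c * (d.τt k * (d.τt ca * d.nt w * d.τt cb))⁻¹ =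
      d.τt (zact (wordM chevE6 w.reverse) c) := by
  have hcomm : ∀ x y : Fin 6 → Kˣ, d.τt x * d.τt y = d.τt y * d.τt x := by
    intro x y
    rw [← map_mul, ← map_mul, mul_comm]
  exact SCMAIN_grp _ _ _ _ _ _ (hcomm cb c) (d.hnt w c hw) (hcomm _ _) (hcomm _ _)

/-- (SCMAIN) the two descent statements from `SCData` -/
theorem sc_main (d : SCData F K) {q : ℕ} (hq : Fintype.card F = q) (g₀ : GL chevE6.Idx K)
    (hg₀ : g₀ ∈ chevE6.group K) (w : List ℕ) (hw : ∀ i ∈ w, i < 6) (ca cb : Fin 6 → Kˣ)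
    (hn₁ : g₀⁻¹ * sigmaGL chevE6.Idx F K g₀ =
      torusHom chevE6 K ca * nWordsGL chevE6 K w * torusHom chevE6 K cb) :
    (∀ c : Fin 6 → Kˣ, zact (wordM chevE6 w.reverse) (c ^ q) = c →
        ∃ z ∈ chevE6.group F, iotaGL chevE6.Idx F K z = g₀ * torusHom chevE6 K c * g₀⁻¹) ∧
    (∀ z ∈ chevE6.group F, ∀ c : Fin 6 → Kˣ,
        iotaGL chevE6.Idx F K z = g₀ * torusHom chevE6 K c * g₀⁻¹ →
        ∃ c' : Fin 6 → Kˣ, zact (wordM chevE6 w.reverse) (c' ^ q) = c' ∧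
          torusHom chevE6 K c' = torusHom chevE6 K c) := by
  obtain ⟨gt, hgt⟩ := d.hπsurj g₀ hg₀
  -- the lift of `n₁`
  have hπn1 : d.π (gt⁻¹ * d.σt gt) = d.π (d.τt ca * d.nt w * d.τt cb) := by
    rw [map_mul, map_inv, d.hπσ, hgt, hn₁, map_mul, map_mul, d.hπτ, d.hπτ, d.hπn w hw]
  obtain ⟨k, hk1, hk2⟩ := SCMAIN_ker d _ _ hπn1
  have hσgt : d.σt gt = gt * (d.τt k * (d.τt ca * d.nt w * d.τt cb)) := by
    rw [← hk2, mul_inv_cancel_left]
  -- the Frobenius on the conjugated torus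
  have hσ : ∀ c : Fin 6 → Kˣ, d.σt (gt * d.τt c * gt⁻¹) =
      gt * d.τt (zact (wordM chevE6 w.reverse) (c ^ q)) * gt⁻¹ := by
    intro c
    rw [map_mul, map_mul, map_inv, d.hστ, hq, hσgt, ← SCMAIN_conj d w hw k ca cb (c ^ q)]
    simp only [mul_inv_rev, mul_assoc]
  refine ⟨?_, ?_⟩
  · intro c hc
    obtain ⟨z, hz, hz2⟩ := d.hdesc (gt * d.τt c * gt⁻¹) (by rw [hσ c, hc])
    refine ⟨z, hz, ?_⟩
    rw [hz2, map_mul, map_mul, map_inv, hgt, d.hπτ]
  · intro z hz c hzc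
    obtain ⟨zt, hzt1, hzt2⟩ := d.hlift z hz
    have h1 : d.π (gt⁻¹ * zt * gt) = d.π (d.τt c) := by
      rw [map_mul, map_mul, map_inv, hgt, hzt1, hzc, d.hπτ]
      group
    obtain ⟨k', hk'1, hk'2⟩ := SCMAIN_ker d _ _ h1
    have hzt : zt = gt * d.τt (k' * c) * gt⁻¹ := by
      rw [map_mul, ← hk'2]
      group
    refine ⟨k' * c, ?_, ?_⟩
    · apply d.hτinj
      have h2 := hσ (k' * c)
      rw [← hzt, hzt2, hzt] at h2
      have h3 := mul_left_cancel (mul_right_cancel h2)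
      exact h3.symm
    · have h4 := (torusHom chevE6 K).map_mul k' c
      exact h4.trans (by rw [hk'1, one_mul])

end SC

end Cfsg.Agent.Helper23.E6Tor
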