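import Mathlib
import Cfsg.Prelude.Def_Transfer
import Cfsg.Agent.Helper11.SL2Recog

/-!
# Assembly lemmas for S3054/S3055 (extraspecial Sylow `p^{1+2}_+`, Ruiz–Viruel bounds)
-/

set_option autoImplicit false

namespace Cfsg.Agent.Helper23.ES3

open Matrix Cfsg.Agent.Helper11.SL2Recog

section coordmap

variable {E : Type*} [Group E] {p : ℕ} [Fact p.Prime]
  (c : E → (Fin 2 → ZMod p)) (hadd : ∀ x y, c (x * y) = c x + c y)

include hadd

theorem c_one : c 1 = 0 := by
  have h := hadd 1 1
  rw [one_mul] at h
  exact left_eq_add.mp h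

theorem c_inv (x : E) : c x⁻¹ = - c x := by
  have h := hadd x x⁻¹
  rw [mul_inv_cancel, c_one c hadd] at h
  exact (neg_eq_of_add_eq_zero_right h.symm).symm

theorem c_pow (x : E) (n : ℕ) : c (x ^ n) = (n : ZMod p) • c x := by
  induction n with
  | zero => simp [c_one c hadd]
  | succ n ih => rw [pow_succ, hadd, ih, Nat.cast_succ, add_smul, one_smul]

theorem c_conj (u x : E) : c (u * x * u⁻¹) = c x := by
  rw [hadd, hadd, c_inv c hadd]
  abel

end coordmap

/-- two vectors of `K²` with vanishing determinant, the first nonzero: the second is a multiple. -/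
theorem exists_smul_of_det_eq_zero {K : Type*} [Field K] (u w : Fin 2 → K) (hu : u ≠ 0)
    (hD : u 0 * w 1 - u 1 * w 0 = 0) : ∃ t : K, w = t • u := by
  by_cases h0 : u 0 = 0
  · have h1 : u 1 ≠ 0 := by
      intro h1
      apply hu
      funext i
      fin_cases i
      · exact h0
      · exact h1
    refine ⟨w 1 / u 1, ?_⟩
    funext i
    fin_cases i
    · show w 0 = w 1 / u 1 * u 0
      rw [h0, mul_zero]
      rw [h0, zero_mul, zero_sub, neg_eq_zero] at hD
      rcases mul_eq_zero.mp hD with h | h
      · exact absurd h h1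
      · exact h
    · show w 1 = w 1 / u 1 * u 1
      field_simp
  · refine ⟨w 0 / u 0, ?_⟩
    funext i
    fin_cases i
    · show w 0 = w 0 / u 0 * u 0
      field_simp
    · show w 1 = w 0 / u 0 * u 1
      field_simp
      linear_combination hD

end Cfsg.Agent.Helper23.ES3
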