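import Mathlib
import Cfsg.Prelude.Def_Transfer
import Cfsg.Agent.Helper11.SL2Recog
import Cfsg.Agent.Helper23.ES3Asm
import Cfsg.Agent.Helper10.ES3TORUSa
import Cfsg.Agent.Helper14.ES3CoreC
import Cfsg.Agent.Helper10.ES3REPa
import Cfsg.Agent.Helper10.ES3PLANE
import Cfsg.Agent.Helper60.ES3RepB
import Cfsg.Agent.Helper60.ES3TorusB

set_option autoImplicit false

namespace Cfsg.Agent.Helper23.ES3

open Matrix Cfsg.Agent.Helper11.SL2Recog Cfsg.Agent.Helper10.ES3 Cfsg.Agent.Helper60.ES3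
  Cfsg.Agent.Helper14.ES3
open scoped commutatorElement

variable {G : Type*} [Group G] [Finite G] {p : ℕ} [Fact p.Prime]

/-- the image of `N_G(P)` under a homomorphism killing `P` is a `p'`-group -/
theorem not_dvd_card_range (P : Sylow p G) {H : Type*} [Group H]
    (f : ↥(Subgroup.normalizer ((P : Subgroup G) : Set G)) →* H)
    (hker : ∀ n : ↥(Subgroup.normalizer ((P : Subgroup G) : Set G)), (n : G) ∈ (P : Subgroup G) → f n = 1) :
    ¬ p ∣ Nat.card f.range := by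
  have h1 : (P : Subgroup G).subgroupOf (Subgroup.normalizer ((P : Subgroup G) : Set G)) ≤ f.ker := by
    intro n hn
    rw [MonoidHom.mem_ker]
    exact hker n (Subgroup.mem_subgroupOf.mp hn)
  have h2 : f.ker.index ∣ ((P : Subgroup G).subgroupOf
      (Subgroup.normalizer ((P : Subgroup G) : Set G))).index := Subgroup.index_dvd_of_le h1
  have h3 : ((P : Subgroup G).subgroupOf (Subgroup.normalizer ((P : Subgroup G) : Set G))).index ∣
      (P : Subgroup G).index := Subgroup.relIndex_dvd_index_of_le Subgroup.le_normalizer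
  rw [← Subgroup.index_ker]
  intro h
  exact P.not_dvd_index (h.trans (h2.trans h3))

/-- data of the representation of `Aut(P)` on `P/Z(P)` -/
structure RepData (P : Sylow p G) (ρ : MulAut ↥(P : Subgroup G) →* GL (Fin 2) (ZMod p))
    (c : ↥(P : Subgroup G) → (Fin 2 → ZMod p)) : Prop where
  surj : Function.Surjective c
  add : ∀ x y, c (x * y) = c x + c y
  ker : ∀ x, c x = 0 ↔ x ∈ Subgroup.center ↥(P : Subgroup G)
  equiv : ∀ (φ : MulAut ↥(P : Subgroup G)) (x : ↥(P : Subgroup G)), c (φ x) = (ρ φ).1 *ᵥ c x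

/-- the composite `N_G(P) → Aut(P) → GL₂(p)` -/
noncomputable def rhoN (P : Sylow p G) (ρ : MulAut ↥(P : Subgroup G) →* GL (Fin 2) (ZMod p)) :
    ↥(Subgroup.normalizer ((P : Subgroup G) : Set G)) →* GL (Fin 2) (ZMod p) :=
  ρ.comp (P : Subgroup G).normalizerMonoidHom

theorem rhoN_mulVec {P : Sylow p G} {ρ : MulAut ↥(P : Subgroup G) →* GL (Fin 2) (ZMod p)}
    {c : ↥(P : Subgroup G) → (Fin 2 → ZMod p)} (hR : RepData P ρ c)
    (n : ↥(Subgroup.normalizer ((P : Subgroup G) : Set G))) (x : ↥(P : Subgroup G))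
    (y : ↥(P : Subgroup G)) (hy : (y : G) = n * x * (n : G)⁻¹) :
    (rhoN P ρ n).1 *ᵥ c x = c y := by
  have h1 := hR.equiv ((P : Subgroup G).normalizerMonoidHom n) x
  have h2 : (P : Subgroup G).normalizerMonoidHom n x = y := by
    apply Subtype.ext
    rw [hy]
    rfl
  rw [h2] at h1
  exact h1.symm

theorem rhoN_eq_one_of_mem {P : Sylow p G} {ρ : MulAut ↥(P : Subgroup G) →* GL (Fin 2) (ZMod p)}
    {c : ↥(P : Subgroup G) → (Fin 2 → ZMod p)} (hR : RepData P ρ c)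
    (n : ↥(Subgroup.normalizer ((P : Subgroup G) : Set G))) (hn : (n : G) ∈ (P : Subgroup G)) :
    rhoN P ρ n = 1 := by
  apply Units.ext
  have key : ∀ v : Fin 2 → ZMod p, (rhoN P ρ n).1 *ᵥ v = v := by
    intro v
    obtain ⟨x, rfl⟩ := hR.surj v
    have h1 := rhoN_mulVec hR n x (⟨n, hn⟩ * x * ⟨n, hn⟩⁻¹) (by simp)
    rw [h1, c_conj c hR.add]
  show (rhoN P ρ n).1 = 1
  ext i j
  have h2 := congrFun (key (Pi.single j 1)) i
  rw [Matrix.mulVec_single_one] at h2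
  rw [Matrix.one_apply, Pi.single_apply] at *
  simpa [eq_comm] using h2

/-- every central element of `P` is a power of a fixed nontrivial central element -/
theorem center_eq_zpowers (P : Sylow p G) (hE : Cfsg.IsExtraspecial p ↥(P : Subgroup G))
    (z₀ : ↥(P : Subgroup G)) (hz₀ : z₀ ∈ Subgroup.center ↥(P : Subgroup G)) (hz₀1 : z₀ ≠ 1)
    (w : ↥(P : Subgroup G)) (hw : w ∈ Subgroup.center ↥(P : Subgroup G)) :
    ∃ m : ℤ, z₀ ^ m = w := by
  have h1 : Subgroup.zpowers (⟨z₀, hz₀⟩ : ↥(Subgroup.center ↥(P : Subgroup G))) = ⊤ :=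
    zpowers_eq_top_of_prime_card hE.2 (fun h => hz₀1 (congrArg Subtype.val h))
  have h2 : (⟨w, hw⟩ : ↥(Subgroup.center ↥(P : Subgroup G))) ∈
      Subgroup.zpowers (⟨z₀, hz₀⟩ : ↥(Subgroup.center ↥(P : Subgroup G))) := by
    rw [h1]; exact Subgroup.mem_top _
  obtain ⟨m, hm⟩ := Subgroup.mem_zpowers_iff.mp h2
  refine ⟨m, ?_⟩
  have := congrArg Subtype.val hm
  simpa using this

/-- existence of a noncentral element in a subgroup of order `p²` -/
theorem exists_noncentral (P : Sylow p G) (hE : Cfsg.IsExtraspecial p ↥(P : Subgroup G))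
    (A : Subgroup G) (hAP : A ≤ (P : Subgroup G)) (hAcard : Nat.card A = p ^ 2) :
    ∃ a : ↥(P : Subgroup G), (a : G) ∈ A ∧ a ∉ Subgroup.center ↥(P : Subgroup G) := by
  have hpp : p.Prime := Fact.out
  by_contra hcon
  push_neg at hcon
  have hle : A ≤ (Subgroup.center ↥(P : Subgroup G)).map (P : Subgroup G).subtype := by
    intro a ha
    exact ⟨⟨a, hAP ha⟩, hcon ⟨a, hAP ha⟩ ha, rfl⟩
  have h1 := Subgroup.card_le_of_le hle
  rw [Subgroup.card_map_of_injective (Subgroup.subtype_injective _), hE.2, hAcard] at h1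
  have : p < p ^ 2 := by
    have := hpp.one_lt
    nlinarith
  omega

theorem line_data (P : Sylow p G) (hE : Cfsg.IsExtraspecial p ↥(P : Subgroup G))
    (hcard : Nat.card (P : Subgroup G) = p ^ 3) (hexpP : ∀ x : ↥(P : Subgroup G), x ^ p = 1)
    {ρ : MulAut ↥(P : Subgroup G) →* GL (Fin 2) (ZMod p)}
    {c : ↥(P : Subgroup G) → (Fin 2 → ZMod p)} (hR : RepData P ρ c)
    (lam : (ZMod p)ˣ)
    (A : Subgroup G) (hAP : A ≤ (P : Subgroup G)) (hAcard : Nat.card A = p ^ 2)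
    (hSL : ∀ φ : MulAut ↥A, orderOf φ = p → ∃ g : G, ∀ a : ↥A, (φ a : G) = g * (a : G) * g⁻¹) :
    ∃ (n : ↥(Subgroup.normalizer ((P : Subgroup G) : Set G))) (a : ↥(P : Subgroup G)),
      (a : G) ∈ A ∧ a ∉ Subgroup.center ↥(P : Subgroup G) ∧
      (rhoN P ρ n).1 *ᵥ c a = ((lam⁻¹ : (ZMod p)ˣ) : ZMod p) • c a ∧
      (rhoN P ρ n).1.det = (lam : ZMod p) := by
  classical
  have hpp : p.Prime := Fact.out
  -- a nontrivial central element
  obtain ⟨z₀, hz₀, hz₀1⟩ : ∃ z₀ : ↥(P : Subgroup G), z₀ ∈ Subgroup.center ↥(P : Subgroup G) ∧ z₀ ≠ 1 := by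
    have h1 : 1 < Nat.card (Subgroup.center ↥(P : Subgroup G)) := by rw [hE.2]; exact hpp.one_lt
    haveI : Finite (Subgroup.center ↥(P : Subgroup G)) := inferInstance
    haveI : Nontrivial (Subgroup.center ↥(P : Subgroup G)) := Finite.one_lt_card_iff_nontrivial.mp h1
    obtain ⟨w, hw⟩ := exists_ne (1 : Subgroup.center ↥(P : Subgroup G))
    exact ⟨w.1, w.2, fun h => hw (Subtype.ext h)⟩
  obtain ⟨a, haA, hanc⟩ := exists_noncentral P hE A hAP hAcard
  set k : ℕ := ((lam : (ZMod p)ˣ) : ZMod p).val with hk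
  set l : ℕ := ((lam⁻¹ : (ZMod p)ˣ) : ZMod p).val with hl
  have hkc : (k : ZMod p) = (lam : ZMod p) := ZMod.natCast_zmod_val _
  have hlc : (l : ZMod p) = ((lam⁻¹ : (ZMod p)ˣ) : ZMod p) := ZMod.natCast_zmod_val _
  have hkl : (k : ZMod p) * (l : ZMod p) = 1 := by
    rw [hkc, hlc, ← Units.val_mul, mul_inv_cancel, Units.val_one]
  have hexpG : ∀ x ∈ (P : Subgroup G), x ^ p = 1 := by
    intro x hx
    have := congrArg Subtype.val (hexpP ⟨x, hx⟩)
    simpa using this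
  have hzc : ∀ x ∈ (P : Subgroup G), x * (z₀ : G) = (z₀ : G) * x := by
    intro x hx
    have := congrArg Subtype.val (Subgroup.mem_center_iff.mp hz₀ ⟨x, hx⟩)
    simpa using this
  have hz1 : (z₀ : G) ≠ 1 := fun h => hz₀1 (Subtype.ext h)
  have hanc' : ∃ x ∈ (P : Subgroup G), x * (a : G) ≠ (a : G) * x := by
    by_contra hcon
    push_neg at hcon
    apply hanc
    rw [Subgroup.mem_center_iff]
    intro x
    exact Subtype.ext (hcon x x.2)
  have hPl : PlaneData p A (z₀ : G) (a : G) :=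
    planeData_of (P : Subgroup G) hE hcard hexpG A hAP hAcard z₀ a z₀.2 hzc hz1 haA hanc'
  obtain ⟨g, hgz, hga⟩ := exists_conj_diag hPl hSL k l hkl
  have hcomm : ∀ x ∈ (P : Subgroup G), ∀ y ∈ (P : Subgroup G),
      x * y * x⁻¹ * y⁻¹ ∈ Subgroup.zpowers (z₀ : G) := by
    intro x hx y hy
    have h1 : ⁅(⟨x, hx⟩ : ↥(P : Subgroup G)), ⟨y, hy⟩⁆ ∈ Subgroup.center ↥(P : Subgroup G) := by
      rw [← hE.1.2.2, commutator_def]
      exact Subgroup.commutator_mem_commutator (Subgroup.mem_top _) (Subgroup.mem_top _)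
    obtain ⟨m, hm⟩ := center_eq_zpowers P hE z₀ hz₀ hz₀1 _ h1
    rw [Subgroup.mem_zpowers_iff]
    refine ⟨m, ?_⟩
    have := congrArg Subtype.val hm
    rw [commutatorElement_def] at this
    simpa using this
  obtain ⟨h, hhN, hhz, hha⟩ := exists_normalizer_adjust P (z₀ : G) (a : G) g hcomm hzc
    (hexpG _ z₀.2) a.2 (hexpG _ a.2) k l hkl hgz hga
  refine ⟨⟨h, hhN⟩, a, haA, hanc, ?_, ?_⟩
  · -- eigenvector
    obtain ⟨m, hm⟩ := Subgroup.mem_zpowers_iff.mp hha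
    have hy : ((z₀ ^ m * a ^ l : ↥(P : Subgroup G)) : G) =
        ((⟨h, hhN⟩ : ↥(Subgroup.normalizer ((P : Subgroup G) : Set G))) : G) * (a : G) *
          ((⟨h, hhN⟩ : ↥(Subgroup.normalizer ((P : Subgroup G) : Set G))) : G)⁻¹ := by
      show ((z₀ ^ m * a ^ l : ↥(P : Subgroup G)) : G) = h * (a : G) * h⁻¹
      rw [Subgroup.coe_mul, Subgroup.coe_zpow, Subgroup.coe_pow, hm]
      group
    rw [rhoN_mulVec hR ⟨h, hhN⟩ a _ hy, hR.add, c_pow c hR.add, hlc]
    have h0 : c (z₀ ^ m) = 0 := (hR.ker _).mpr (Subgroup.zpow_mem _ hz₀ m)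
    rw [h0, zero_add]
  · -- determinant
    rw [← hkc]
    refine det_eq_of_center_action hE hcard hexpP c hR.surj hR.add hR.ker
      ((P : Subgroup G).normalizerMonoidHom ⟨h, hhN⟩) _ (fun x => hR.equiv _ x) k ?_
    intro w hw
    obtain ⟨m, rfl⟩ := center_eq_zpowers P hE z₀ hz₀ hz₀1 w hw
    apply Subtype.ext
    show h * ((z₀ ^ m : ↥(P : Subgroup G)) : G) * h⁻¹ = (((z₀ ^ m) ^ k : ↥(P : Subgroup G)) : G)
    rw [Subgroup.coe_pow, Subgroup.coe_zpow, ← conj_zpow, hhz, ← zpow_natCast, ← zpow_natCast,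
      ← _root_.zpow_mul, ← _root_.zpow_mul, mul_comm]

theorem exists_central_ne_one (P : Sylow p G) (hE : Cfsg.IsExtraspecial p ↥(P : Subgroup G)) :
    ∃ z₀ : ↥(P : Subgroup G), z₀ ∈ Subgroup.center ↥(P : Subgroup G) ∧ z₀ ≠ 1 := by
  have hpp : p.Prime := Fact.out
  have h1 : 1 < Nat.card (Subgroup.center ↥(P : Subgroup G)) := by rw [hE.2]; exact hpp.one_lt
  haveI : Finite (Subgroup.center ↥(P : Subgroup G)) := inferInstance
  haveI : Nontrivial (Subgroup.center ↥(P : Subgroup G)) := Finite.one_lt_card_iff_nontrivial.mp h1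
  obtain ⟨w, hw⟩ := exists_ne (1 : Subgroup.center ↥(P : Subgroup G))
  exact ⟨w.1, w.2, fun h => hw (Subtype.ext h)⟩

/-- plane data for a subgroup of order `p²` of `P` -/
theorem planeData_sub (P : Sylow p G) (hE : Cfsg.IsExtraspecial p ↥(P : Subgroup G))
    (hcard : Nat.card (P : Subgroup G) = p ^ 3) (hexpP : ∀ x : ↥(P : Subgroup G), x ^ p = 1)
    (z₀ : ↥(P : Subgroup G)) (hz₀ : z₀ ∈ Subgroup.center ↥(P : Subgroup G)) (hz₀1 : z₀ ≠ 1)
    (A : Subgroup G) (hAP : A ≤ (P : Subgroup G)) (hAcard : Nat.card A = p ^ 2)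
    (a : ↥(P : Subgroup G)) (haA : (a : G) ∈ A) (hanc : a ∉ Subgroup.center ↥(P : Subgroup G)) :
    PlaneData p A (z₀ : G) (a : G) := by
  have hexpG : ∀ x ∈ (P : Subgroup G), x ^ p = 1 := by
    intro x hx
    have := congrArg Subtype.val (hexpP ⟨x, hx⟩)
    simpa using this
  have hzc : ∀ x ∈ (P : Subgroup G), x * (z₀ : G) = (z₀ : G) * x := by
    intro x hx
    have := congrArg Subtype.val (Subgroup.mem_center_iff.mp hz₀ ⟨x, hx⟩)
    simpa using this
  have hz1 : (z₀ : G) ≠ 1 := fun h => hz₀1 (Subtype.ext h)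
  have hanc' : ∃ x ∈ (P : Subgroup G), x * (a : G) ≠ (a : G) * x := by
    by_contra hcon
    push_neg at hcon
    apply hanc
    rw [Subgroup.mem_center_iff]
    intro x
    exact Subtype.ext (hcon x x.2)
  exact planeData_of (P : Subgroup G) hE hcard hexpG A hAP hAcard z₀ a z₀.2 hzc hz1 haA hanc'

/-- distinct subgroups of order `p²` give independent vectors -/
theorem det_ne_zero_of_ne (P : Sylow p G) (hE : Cfsg.IsExtraspecial p ↥(P : Subgroup G))
    (hcard : Nat.card (P : Subgroup G) = p ^ 3) (hexpP : ∀ x : ↥(P : Subgroup G), x ^ p = 1)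
    {ρ : MulAut ↥(P : Subgroup G) →* GL (Fin 2) (ZMod p)}
    {c : ↥(P : Subgroup G) → (Fin 2 → ZMod p)} (hR : RepData P ρ c)
    (A₁ A₂ : Subgroup G) (h₁ : A₁ ≤ (P : Subgroup G)) (h₂ : A₂ ≤ (P : Subgroup G))
    (hc₁ : Nat.card A₁ = p ^ 2) (hc₂ : Nat.card A₂ = p ^ 2)
    (a₁ a₂ : ↥(P : Subgroup G)) (ha₁ : (a₁ : G) ∈ A₁) (ha₂ : (a₂ : G) ∈ A₂)
    (hn₁ : a₁ ∉ Subgroup.center ↥(P : Subgroup G)) (hn₂ : a₂ ∉ Subgroup.center ↥(P : Subgroup G))
    (hne : A₁ ≠ A₂) : c a₁ 0 * c a₂ 1 - c a₁ 1 * c a₂ 0 ≠ 0 := by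
  intro hD
  apply hne
  obtain ⟨z₀, hz₀, hz₀1⟩ := exists_central_ne_one P hE
  have hP1 := planeData_sub P hE hcard hexpP z₀ hz₀ hz₀1 A₁ h₁ hc₁ a₁ ha₁ hn₁
  have hP2 := planeData_sub P hE hcard hexpP z₀ hz₀ hz₀1 A₂ h₂ hc₂ a₂ ha₂ hn₂
  have hv1 : c a₁ ≠ 0 := fun h => hn₁ ((hR.ker _).mp h)
  obtain ⟨t, ht⟩ := exists_smul_of_det_eq_zero (c a₁) (c a₂) hv1 hD
  -- `a₂ ∈ A₁`
  have hw : a₂ * (a₁ ^ t.val)⁻¹ ∈ Subgroup.center ↥(P : Subgroup G) := by
    rw [← hR.ker, hR.add, c_inv c hR.add, c_pow c hR.add, ZMod.natCast_zmod_val, ht]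
    exact add_neg_cancel _
  obtain ⟨m, hm⟩ := center_eq_zpowers P hE z₀ hz₀ hz₀1 _ hw
  have ha₂1 : (a₂ : G) ∈ A₁ := by
    have e : (a₂ : G) = (z₀ : G) ^ m * (a₁ : G) ^ t.val := by
      have := congrArg Subtype.val hm
      rw [Subgroup.coe_zpow, Subgroup.coe_mul, Subgroup.coe_inv, Subgroup.coe_pow] at this
      rw [this]
      group
    rw [e]
    exact A₁.mul_mem (A₁.zpow_mem hP1.mem₁ _) (A₁.pow_mem ha₁ _)
  have hle : A₂ ≤ A₁ := by
    intro x hx
    have e : ((eFun hP2 (coord hP2 ⟨x, hx⟩) : ↥A₂) : G) = x :=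
      congrArg Subtype.val (eFun_coord hP2 ⟨x, hx⟩)
    rw [← e]
    exact A₁.mul_mem (A₁.pow_mem hP1.mem₁ _) (A₁.pow_mem ha₂1 _)
  haveI : Finite A₁ := Nat.finite_of_card_ne_zero (by rw [hc₁]; exact pow_ne_zero 2 (Fact.out : p.Prime).ne_zero)
  exact (Subgroup.eq_of_le_of_card_ge hle (by rw [hc₁, hc₂])).symm

theorem exists_generator_units (p : ℕ) [Fact p.Prime] : ∃ lam : (ZMod p)ˣ, orderOf lam = p - 1 := by
  obtain ⟨g, hg⟩ := IsCyclic.exists_ofOrder_eq_natCard (α := (ZMod p)ˣ)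
  refine ⟨g, ?_⟩
  rw [hg, Nat.card_eq_fintype_card, ZMod.card_units]

/-- three subgroups of order `p²` with `SL₂(p)` action: `p ≤ 13`, `p ≠ 11` -/
theorem bound_three (hp : p ≠ 2) (P : Sylow p G) (hE : Cfsg.IsExtraspecial p ↥(P : Subgroup G))
    (hcard : Nat.card (P : Subgroup G) = p ^ 3) (hexp : Monoid.exponent ↥(P : Subgroup G) = p)
    (A : Fin 3 → Subgroup G) (hA : Function.Injective A) (hAP : ∀ i, A i ≤ (P : Subgroup G))
    (hAcard : ∀ i, Nat.card ↥(A i) = p ^ 2)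
    (hSL : ∀ i, ∀ φ : MulAut ↥(A i), orderOf φ = p →
      ∃ g : G, ∀ a : ↥(A i), (φ a : G) = g * (a : G) * g⁻¹) :
    p ≤ 13 ∧ p ≠ 11 := by
  classical
  have hexpP : ∀ x : ↥(P : Subgroup G), x ^ p = 1 := fun x => by
    have h := Monoid.pow_exponent_eq_one x
    rwa [hexp] at h
  obtain ⟨ρ, c, h1, h2, h3, h4⟩ := exists_rep hE hcard hexpP
  have hR : RepData P ρ c := ⟨h1, h2, h3, h4⟩
  obtain ⟨lam, hlam⟩ := exists_generator_units p
  choose n a haA hanc heig hdet using fun i =>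
    line_data P hE hcard hexpP hR lam (A i) (hAP i) (hAcard i) (hSL i)
  refine core_three hp (rhoN P ρ).range
    (not_dvd_card_range P (rhoN P ρ) (fun m hm => rhoN_eq_one_of_mem hR m hm)) lam hlam
    (fun i => rhoN P ρ (n i)) (fun i => ⟨n i, rfl⟩) (fun i => c (a i)) ?_ heig hdet
  intro i j hij
  exact det_ne_zero_of_ne P hE hcard hexpP hR (A i) (A j) (hAP i) (hAP j) (hAcard i) (hAcard j)
    (a i) (a j) (haA i) (haA j) (hanc i) (hanc j) (fun h => hij (hA h))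

end Cfsg.Agent.Helper23.ES3
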