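import Mathlib
import Cfsg.Prelude.Def_Transfer
import Cfsg.Agent.Helper11.SL2Recog
import Cfsg.Agent.Helper23.ES3Main
import Cfsg.Agent.Helper14.ES3Core7
import Cfsg.Agent.Helper10.ES3SLGEN
import Cfsg.Agent.Helper60.ES3Transv

set_option autoImplicit false

namespace Cfsg.Agent.Helper23.ES3

open Matrix Cfsg.Agent.Helper11.SL2Recog Cfsg.Agent.Helper10.ES3
  Cfsg.Agent.Helper60.ES3 Cfsg.Agent.Helper14.ES3
open scoped commutatorElement

variable {G : Type*} [Group G] [Finite G] {p : ℕ} [Fact p.Prime]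

/-- under the conjugacy hypothesis, every subgroup of order `p²` has the `SL₂(p)` property -/
theorem hSL_of_conj (P : Sylow p G) (hE : Cfsg.IsExtraspecial p ↥(P : Subgroup G))
    (hcard : Nat.card (P : Subgroup G) = p ^ 3) (hexpP : ∀ x : ↥(P : Subgroup G), x ^ p = 1)
    (hconj : ∀ x y : ↥(P : Subgroup G), x ≠ 1 → y ≠ 1 → ∃ g : G, g * (x : G) * g⁻¹ = (y : G))
    (A : Subgroup G) (hAP : A ≤ (P : Subgroup G)) (hAcard : Nat.card A = p ^ 2) :
    ∀ φ : MulAut ↥A, orderOf φ = p → ∃ g : G, ∀ a : ↥A, (φ a : G) = g * (a : G) * g⁻¹ := by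
  obtain ⟨z₀, hz₀, hz₀1⟩ := exists_central_ne_one P hE
  obtain ⟨a, haA, hanc⟩ := exists_noncentral P hE A hAP hAcard
  have hPl := planeData_sub P hE hcard hexpP z₀ hz₀ hz₀1 A hAP hAcard a haA hanc
  have hexpG : ∀ x ∈ (P : Subgroup G), x ^ p = 1 := by
    intro x hx
    have := congrArg Subtype.val (hexpP ⟨x, hx⟩)
    simpa using this
  have hzc : ∀ x ∈ (P : Subgroup G), x * (z₀ : G) = (z₀ : G) * x := by
    intro x hx
    have := congrArg Subtype.val (Subgroup.mem_center_iff.mp hz₀ ⟨x, hx⟩)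
    simpa using this
  have hz1 : (z₀ : G) ≠ 1 := fun h => hz₀1 (Subtype.ext h)
  have hanc' : ∃ x ∈ (P : Subgroup G), x * (a : G) ≠ (a : G) * x := by
    by_contra hcon
    push_neg at hcon
    apply hanc
    rw [Subgroup.mem_center_iff]
    intro x
    exact Subtype.ext (hcon x x.2)
  obtain ⟨x, y, s, t, hs, ht, hx1, hx2, hy1, hy2⟩ := exists_transvections P hE hcard hexpG hconj A hAP
    hAcard z₀ a z₀.2 hzc hz1 haA hanc'
  exact hSL_of_transvections hPl x y s t hs ht hx1 hx2 hy1 hy2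

/-- a subgroup of order `p²` through a given nonidentity element -/
theorem exists_subgroup_sq (P : Sylow p G) (hcard : Nat.card (P : Subgroup G) = p ^ 3)
    (hexpP : ∀ x : ↥(P : Subgroup G), x ^ p = 1) (a : ↥(P : Subgroup G)) (ha : a ≠ 1) :
    ∃ A : Subgroup G, A ≤ (P : Subgroup G) ∧ Nat.card A = p ^ 2 ∧ (a : G) ∈ A := by
  have hpp : p.Prime := Fact.out
  have h1 : Nat.card (Subgroup.zpowers a) = p ^ 1 := by
    rw [Nat.card_zpowers, pow_one]
    exact orderOf_eq_prime (hexpP a) ha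
  obtain ⟨K, hK, hle⟩ := Sylow.exists_subgroup_card_pow_prime_le p
    (show p ^ 2 ∣ Nat.card ↥(P : Subgroup G) by rw [hcard]; exact pow_dvd_pow p (by norm_num))
    (Subgroup.zpowers a) h1 (by norm_num)
  refine ⟨K.map (P : Subgroup G).subtype, ?_, ?_, ?_⟩
  · rintro _ ⟨x, -, rfl⟩
    exact x.2
  · rw [Subgroup.card_map_of_injective (Subgroup.subtype_injective _), hK]
  · exact ⟨a, hle (Subgroup.mem_zpowers a), rfl⟩

/-- two noncentral elements of the same subgroup of order `p²` give dependent vectors -/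
theorem det_eq_zero_of_mem (P : Sylow p G) (hE : Cfsg.IsExtraspecial p ↥(P : Subgroup G))
    (hcard : Nat.card (P : Subgroup G) = p ^ 3) (hexpP : ∀ x : ↥(P : Subgroup G), x ^ p = 1)
    {ρ : MulAut ↥(P : Subgroup G) →* GL (Fin 2) (ZMod p)}
    {c : ↥(P : Subgroup G) → (Fin 2 → ZMod p)} (hR : RepData P ρ c)
    (A : Subgroup G) (hAP : A ≤ (P : Subgroup G)) (hAcard : Nat.card A = p ^ 2)
    (a₁ a₂ : ↥(P : Subgroup G)) (ha₁ : (a₁ : G) ∈ A) (ha₂ : (a₂ : G) ∈ A)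
    (hn₁ : a₁ ∉ Subgroup.center ↥(P : Subgroup G)) :
    c a₁ 0 * c a₂ 1 - c a₁ 1 * c a₂ 0 = 0 := by
  obtain ⟨z₀, hz₀, hz₀1⟩ := exists_central_ne_one P hE
  have hP1 := planeData_sub P hE hcard hexpP z₀ hz₀ hz₀1 A hAP hAcard a₁ ha₁ hn₁
  have e : ((eFun hP1 (coord hP1 ⟨a₂, ha₂⟩) : ↥A) : G) = a₂ :=
    congrArg Subtype.val (eFun_coord hP1 ⟨a₂, ha₂⟩)
  have e2 : a₂ = z₀ ^ (coord hP1 ⟨a₂, ha₂⟩ 0).val * a₁ ^ (coord hP1 ⟨a₂, ha₂⟩ 1).val := by
    apply Subtype.ext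
    exact e.symm
  have h0 : c (z₀ ^ (coord hP1 ⟨a₂, ha₂⟩ 0).val) = 0 := (hR.ker _).mpr (Subgroup.pow_mem _ hz₀ _)
  have e3 : c a₂ = ((coord hP1 ⟨a₂, ha₂⟩ 1).val : ZMod p) • c a₁ := by
    conv_lhs => rw [e2]
    rw [hR.add, h0, zero_add, c_pow c hR.add]
  rw [e3]
  simp only [Pi.smul_apply, smul_eq_mul]
  ring

/-- all nonidentity elements of `P` conjugate: `p ≤ 7` -/
theorem bound_seven (hp : p ≠ 2) (P : Sylow p G) (hE : Cfsg.IsExtraspecial p ↥(P : Subgroup G))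
    (hcard : Nat.card (P : Subgroup G) = p ^ 3) (hexp : Monoid.exponent ↥(P : Subgroup G) = p)
    (hconj : ∀ x y : ↥(P : Subgroup G), x ≠ 1 → y ≠ 1 → ∃ g : G, g * (x : G) * g⁻¹ = (y : G)) :
    p ≤ 7 := by
  classical
  by_contra hp7
  push_neg at hp7
  have hexpP : ∀ x : ↥(P : Subgroup G), x ^ p = 1 := fun x => by
    have h := Monoid.pow_exponent_eq_one x
    rwa [hexp] at h
  obtain ⟨ρ, c, h1, h2, h3, h4⟩ := exists_rep hE hcard hexpP
  have hR : RepData P ρ c := ⟨h1, h2, h3, h4⟩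
  obtain ⟨lam, hlam⟩ := exists_generator_units p
  have hex : ∀ t : Fin 7, ∃ b : ↥(P : Subgroup G), c b = ![1, ((t : ℕ) : ZMod p)] := fun t => hR.surj _
  choose b hb using hex
  have hbnc : ∀ t, b t ∉ Subgroup.center ↥(P : Subgroup G) := by
    intro t ht
    have h0 := (hR.ker _).mpr ht
    rw [hb] at h0
    have h00 := congrFun h0 0
    simp at h00
  have hb1 : ∀ t, b t ≠ 1 := fun t h => hbnc t (h ▸ Subgroup.one_mem _)
  choose A hAP hAcard hbA using fun t => exists_subgroup_sq P hcard hexpP (b t) (hb1 t)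
  have hSL := fun t => hSL_of_conj P hE hcard hexpP hconj (A t) (hAP t) (hAcard t)
  choose n a haA hanc heig hdet using fun t =>
    line_data P hE hcard hexpP hR lam (A t) (hAP t) (hAcard t) (hSL t)
  refine absurd (core_seven hp (rhoN P ρ).range
    (not_dvd_card_range P (rhoN P ρ) (fun m hm => rhoN_eq_one_of_mem hR m hm)) lam hlam
    (fun t => rhoN P ρ (n t)) (fun t => ⟨n t, rfl⟩) (fun t => c (a t)) ?_ heig hdet) (not_le.mpr hp7)
  intro i j hij
  refine det_ne_zero_of_ne P hE hcard hexpP hR (A i) (A j) (hAP i) (hAP j) (hAcard i) (hAcard j)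
    (a i) (a j) (haA i) (haA j) (hanc i) (hanc j) ?_
  intro hAij
  have hD := det_eq_zero_of_mem P hE hcard hexpP hR (A j) (hAP j) (hAcard j) (b i) (b j)
    (hAij ▸ hbA i) (hbA j) (hbnc i)
  rw [hb, hb] at hD
  simp only [Matrix.cons_val_zero, Matrix.cons_val_one] at hD
  have h5 : ((j : ℕ) : ZMod p) = ((i : ℕ) : ZMod p) := by linear_combination hD
  rw [ZMod.natCast_eq_natCast_iff'] at h5
  rw [Nat.mod_eq_of_lt (by omega), Nat.mod_eq_of_lt (by omega)] at h5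
  exact hij (Fin.ext h5.symm)

end Cfsg.Agent.Helper23.ES3
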