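import Cfsg.Agent.Helper23.PComponent

set_option autoImplicit false

namespace Cfsg.Agent.Helper23

/-- `O_{p'}(C)` for a subgroup `C` of `X`, as a subgroup of `X`. -/
def pPrimeCoreOf {X : Type*} [Group X] (p : ℕ) (C : Subgroup X) : Subgroup X :=
  (Cfsg.pPrimeCore p ↥C).map C.subtype

theorem pPrimeCoreOf_le {X : Type*} [Group X] (p : ℕ) (C : Subgroup X) : pPrimeCoreOf p C ≤ C := by
  rintro _ ⟨x, -, rfl⟩
  exact x.2

theorem pPrimeCoreOf_map_mulEquiv {X Y : Type*} [Group X] [Group Y] (p : ℕ) (e : X ≃* Y)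
    (C : Subgroup X) : pPrimeCoreOf p (C.map e.toMonoidHom) = (pPrimeCoreOf p C).map e.toMonoidHom := by
  unfold pPrimeCoreOf
  change Subgroup.map (Subgroup.map (e : X →* Y) C).subtype
    (Cfsg.pPrimeCore p ↥(Subgroup.map (e : X →* Y) C)) = _
  rw [← pPrimeCore_map_mulEquiv p (e.subgroupMap C), Subgroup.map_map, Subgroup.map_map]
  congr 1

theorem map_centralizer_mulEquiv {X Y : Type*} [Group X] [Group Y] (e : X ≃* Y) (T : Subgroup X) :
    (Subgroup.centralizer (T : Set X)).map e.toMonoidHom =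
      Subgroup.centralizer ((T.map e.toMonoidHom : Subgroup Y) : Set Y) := by
  ext y
  simp only [Subgroup.mem_map, Subgroup.mem_centralizer_iff, SetLike.mem_coe,
    MulEquiv.coe_toMonoidHom]
  constructor
  · rintro ⟨x, hx, rfl⟩ _ ⟨t, ht, rfl⟩
    rw [← map_mul, ← map_mul, hx t ht]
  · intro hy
    refine ⟨e.symm y, fun t ht => ?_, by simp⟩
    apply e.injective
    have := hy (e t) ⟨t, ht, rfl⟩
    simpa using this

/-- `O(C_X(T))` as a subgroup of `X`. -/
def oddCoreCent {X : Type*} [Group X] (T : Subgroup X) : Subgroup X :=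
  pPrimeCoreOf 2 (Subgroup.centralizer (T : Set X))

theorem oddCoreCent_le_centralizer {X : Type*} [Group X] (T : Subgroup X) :
    oddCoreCent T ≤ Subgroup.centralizer (T : Set X) :=
  pPrimeCoreOf_le 2 _

theorem oddCoreCent_map_mulEquiv {X Y : Type*} [Group X] [Group Y] (e : X ≃* Y) (T : Subgroup X) :
    oddCoreCent (T.map e.toMonoidHom) = (oddCoreCent T).map e.toMonoidHom := by
  unfold oddCoreCent
  rw [← map_centralizer_mulEquiv, pPrimeCoreOf_map_mulEquiv]

/-- `S` is (the image in `X` of) a Sylow `p`-subgroup of the subgroup `N`. -/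
def IsSylowIn {X : Type*} [Group X] (p : ℕ) (S N : Subgroup X) : Prop :=
  S ≤ N ∧ IsPGroup p S ∧ ∀ Q : Subgroup X, Q ≤ N → IsPGroup p Q → S ≤ Q → Q = S

theorem isSylowIn_of_sylow {X : Type*} [Group X] {p : ℕ} {N : Subgroup X} (T : Sylow p ↥N) :
    IsSylowIn p ((T : Subgroup ↥N).map N.subtype) N := by
  refine ⟨?_, T.2.map _, ?_⟩
  · rintro _ ⟨x, -, rfl⟩; exact x.2
  · intro Q hQN hQ hTQ
    have h1 : IsPGroup p ↥(Q.subgroupOf N) := hQ.comap_of_injective N.subtype N.subtype_injective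
    have h2 : (T : Subgroup ↥N) ≤ Q.subgroupOf N := by
      intro x hx
      rw [Subgroup.mem_subgroupOf]
      exact hTQ ⟨x, hx, rfl⟩
    have h3 := T.3 h1 h2
    rw [← h3, Subgroup.map_subgroupOf_eq_of_le hQN]

theorem exists_sylow_of_isSylowIn {X : Type*} [Group X] {p : ℕ} {S N : Subgroup X}
    (h : IsSylowIn p S N) : ∃ T : Sylow p ↥N, (T : Subgroup ↥N).map N.subtype = S := by
  obtain ⟨h1, h2, h3⟩ := h
  refine ⟨⟨S.subgroupOf N, h2.comap_of_injective N.subtype N.subtype_injective, ?_⟩, ?_⟩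
  · intro Q hQ hSQ
    have hQ' : IsPGroup p ↥(Q.map N.subtype) := hQ.map _
    have hle : Q.map N.subtype ≤ N := by
      rintro _ ⟨x, -, rfl⟩; exact x.2
    have hSQ' : S ≤ Q.map N.subtype := by
      intro x hx
      exact ⟨⟨x, h1 hx⟩, hSQ (by rw [Subgroup.mem_subgroupOf]; exact hx), rfl⟩
    have := h3 _ hle hQ' hSQ'
    rw [← this]
    ext x
    rw [Subgroup.mem_subgroupOf]
    constructor
    · intro hx; exact ⟨x, hx, rfl⟩
    · rintro ⟨y, hy, hyx⟩
      have : y = x := Subtype.ext hyx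
      rwa [← this]
  · exact Subgroup.map_subgroupOf_eq_of_le h1

theorem iSup_sylow_eq {X : Type*} [Group X] (p : ℕ) (N : Subgroup X) (f : Subgroup X → Subgroup X) :
    (⨆ T : Sylow p ↥N, f ((T : Subgroup ↥N).map N.subtype)) =
      ⨆ S : {S : Subgroup X // IsSylowIn p S N}, f S.1 := by
  apply le_antisymm
  · exact iSup_le fun T => le_iSup_of_le ⟨_, isSylowIn_of_sylow T⟩ le_rfl
  · refine iSup_le fun ⟨S, hS⟩ => ?_
    obtain ⟨T, hT⟩ := exists_sylow_of_isSylowIn hS
    exact le_iSup_of_le T (by rw [hT])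

theorem isSylowIn_map_mulEquiv {X Y : Type*} [Group X] [Group Y] {p : ℕ} (e : X ≃* Y)
    {S N : Subgroup X} (h : IsSylowIn p S N) :
    IsSylowIn p (S.map e.toMonoidHom) (N.map e.toMonoidHom) := by
  obtain ⟨h1, h2, h3⟩ := h
  refine ⟨Subgroup.map_mono h1, h2.map _, ?_⟩
  intro Q hQN hQ hSQ
  have hQ' : IsPGroup p ↥(Q.map e.symm.toMonoidHom) := hQ.map _
  have hle : Q.map e.symm.toMonoidHom ≤ N := by
    have := Subgroup.map_mono (f := e.symm.toMonoidHom) hQN
    rwa [map_symm_map_mulEquiv] at this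
  have hSQ' : S ≤ Q.map e.symm.toMonoidHom := by
    have := Subgroup.map_mono (f := e.symm.toMonoidHom) hSQ
    rwa [map_symm_map_mulEquiv] at this
  have := h3 _ hle hQ' hSQ'
  rw [← this, map_map_symm_mulEquiv]

theorem extendedTwoLayer_eq (X : Type*) [Group X] :
    Cfsg.extendedTwoLayer X = Cfsg.pLayer 2 X ⊔ Cfsg.oddCore X ⊔
      ⨆ S : {S : Subgroup X // IsSylowIn 2 S (Cfsg.pLayer 2 X ⊔ Cfsg.pPrimePCore 2 X)},
        oddCoreCent S.1 := by
  rw [← iSup_sylow_eq 2 (Cfsg.pLayer 2 X ⊔ Cfsg.pPrimePCore 2 X) oddCoreCent]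
  rfl

theorem extendedTwoLayer_map_le {X Y : Type*} [Group X] [Group Y] (e : X ≃* Y) :
    (Cfsg.extendedTwoLayer X).map e.toMonoidHom ≤ Cfsg.extendedTwoLayer Y := by
  rw [extendedTwoLayer_eq, extendedTwoLayer_eq, Subgroup.map_sup, Subgroup.map_sup,
    pLayer_map_mulEquiv, pPrimeCore_map_mulEquiv, Subgroup.map_iSup]
  refine sup_le_sup le_rfl ?_
  refine iSup_le fun ⟨S, hS⟩ => ?_
  have hS' := isSylowIn_map_mulEquiv e hS
  rw [Subgroup.map_sup, pLayer_map_mulEquiv, pPrimePCore_map_mulEquiv] at hS'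
  rw [← oddCoreCent_map_mulEquiv]
  exact le_iSup_of_le ⟨_, hS'⟩ le_rfl

theorem extendedTwoLayer_characteristic (X : Type*) [Group X] :
    (Cfsg.extendedTwoLayer X).Characteristic :=
  Subgroup.characteristic_iff_map_le.mpr fun e => extendedTwoLayer_map_le e

end Cfsg.Agent.Helper23
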