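import Cfsg.Agent.Helper23.ExtLayer
import Cfsg.Agent.Helper23.Conn
import Cfsg.Agent.Helper23.Sup
import Cfsg.Agent.Lib.Cores

set_option autoImplicit false

namespace Cfsg.Agent.Helper23

theorem sylow_smul_map_subtype {X : Type*} [Group X] {p : ℕ} {N : Subgroup X} (n : ↥N)
    (T : Sylow p ↥N) :
    ((n • T : Sylow p ↥N) : Subgroup ↥N).map N.subtype = cj (n : X) ((T : Subgroup ↥N).map N.subtype) := by
  ext x
  rw [mem_cj, Sylow.coe_subgroup_smul]
  constructor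
  · rintro ⟨y, hy, rfl⟩
    rw [SetLike.mem_coe, Subgroup.mem_pointwise_smul_iff_inv_smul_mem] at hy
    refine ⟨_, hy, ?_⟩
    simp [MulAut.smul_def, mul_assoc]
  · rintro ⟨y, hy, hyx⟩
    refine ⟨n * y * n⁻¹, ?_, ?_⟩
    · rw [SetLike.mem_coe, Subgroup.mem_pointwise_smul_iff_inv_smul_mem]
      have h1 : (MulAut.conj n)⁻¹ • (n * y * n⁻¹) = y := by simp [MulAut.smul_def, mul_assoc]
      rw [h1]; exact hy
    · simp only [Subgroup.subtype_apply, Subgroup.coe_mul, Subgroup.coe_inv] at hyx ⊢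
      rw [hyx]; simp [mul_assoc]

theorem cj_eq_self_of_le_centralizer {X : Type*} [Group X] {T D : Subgroup X}
    (hD : D ≤ Subgroup.centralizer (T : Set X)) {t : X} (ht : t ∈ T) : cj t D = D := by
  have key : ∀ d ∈ D, t⁻¹ * d * t = d := by
    intro d hd
    have := (Subgroup.mem_centralizer_iff.mp (hD hd)) t ht
    rw [mul_assoc, ← this, inv_mul_cancel_left]
  ext x
  rw [mem_cj]
  constructor
  · intro h
    have h2 := key _ h
    have : x = t⁻¹ * x * t := by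
      have h3 : t * (t⁻¹ * (t⁻¹ * x * t) * t) * t⁻¹ = t * (t⁻¹ * x * t) * t⁻¹ := by rw [h2]
      simpa [mul_assoc] using h3.symm
    rw [this]; exact h
  · intro h
    rw [key x h]; exact h

theorem cj_le_sup_of_mem {X : Type*} [Group X] {M D : Subgroup X} {m : X} (hm : m ∈ M) :
    cj m D ≤ M ⊔ D := by
  intro x hx
  rw [mem_cj] at hx
  have h1 : m * (m⁻¹ * x * m) * m⁻¹ ∈ M ⊔ D :=
    Subgroup.mul_mem _ (Subgroup.mul_mem _ (Subgroup.mem_sup_left hm) (Subgroup.mem_sup_right hx))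
      (Subgroup.mem_sup_left (M.inv_mem hm))
  simpa [mul_assoc] using h1

theorem oddCoreCent_cj {X : Type*} [Group X] (g : X) (T : Subgroup X) :
    oddCoreCent (cj g T) = cj g (oddCoreCent T) :=
  oddCoreCent_map_mulEquiv (MulAut.conj g) T

end Cfsg.Agent.Helper23

namespace Cfsg.Agent.Helper23

theorem oddCore_le_pPrimePCore (p : ℕ) (X : Type*) [Group X] :
    Cfsg.pPrimeCore p X ≤ Cfsg.pPrimePCore p X := by
  unfold Cfsg.pPrimePCore
  have h := MonoidHom.ker_le_comap (QuotientGroup.mk' (Cfsg.pPrimeCore p X))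
    (Cfsg.pCore p (X ⧸ Cfsg.pPrimeCore p X))
  rwa [QuotientGroup.ker_mk'] at h

theorem relIndex_pPrimeCore_pPrimePCore (p : ℕ) [Fact p.Prime] (X : Type*) [Group X] [Finite X] :
    ∃ a : ℕ, (Cfsg.pPrimeCore p X).relIndex (Cfsg.pPrimePCore p X) = p ^ a := by
  have h1 := Subgroup.relIndex_ker (K := Cfsg.pPrimePCore p X) (QuotientGroup.mk' (Cfsg.pPrimeCore p X))
  rw [QuotientGroup.ker_mk'] at h1
  have h2 : (Cfsg.pPrimePCore p X).map (QuotientGroup.mk' (Cfsg.pPrimeCore p X)) =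
      Cfsg.pCore p (X ⧸ Cfsg.pPrimeCore p X) := by
    unfold Cfsg.pPrimePCore
    exact Subgroup.map_comap_eq_self_of_surjective (QuotientGroup.mk'_surjective _) _
  rw [h2] at h1
  rw [h1]
  exact (Cfsg.Agent.Lib.isPGroup_pCore p).exists_card_eq

theorem le_sup_sylow_of_relIndex_dvd_pow {X : Type*} [Group X] [Finite X] {p : ℕ} [Fact p.Prime]
    (N M : Subgroup X) (a : ℕ) (h1 : M.relIndex N ∣ p ^ a) (T : Sylow p ↥N) :
    N ≤ M ⊔ (T : Subgroup ↥N).map N.subtype := by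
  have hp : p.Prime := Fact.out
  have h2 : ((T : Subgroup ↥N).map N.subtype).relIndex N = (T : Subgroup ↥N).index := by
    unfold Subgroup.relIndex
    congr 1
    rw [Subgroup.subgroupOf]
    exact Subgroup.comap_map_eq_self_of_injective N.subtype_injective _
  have h3 : ¬ p ∣ ((T : Subgroup ↥N).map N.subtype).relIndex N := by
    rw [h2]; exact T.not_dvd_index
  have h4 : (M ⊔ (T : Subgroup ↥N).map N.subtype).relIndex N ∣ M.relIndex N :=
    Subgroup.relIndex_dvd_of_le_left N le_sup_left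
  have h5 : (M ⊔ (T : Subgroup ↥N).map N.subtype).relIndex N ∣
      ((T : Subgroup ↥N).map N.subtype).relIndex N :=
    Subgroup.relIndex_dvd_of_le_left N le_sup_right
  have h6 : (p ^ a).Coprime (((T : Subgroup ↥N).map N.subtype).relIndex N) :=
    Nat.Coprime.pow_left a ((Nat.Prime.coprime_iff_not_dvd hp).mpr h3)
  have h7 : (M ⊔ (T : Subgroup ↥N).map N.subtype).relIndex N = 1 :=
    Nat.eq_one_of_dvd_coprimes h6 (h4.trans h1) h5
  exact Subgroup.relIndex_eq_one.mp h7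

theorem layer_core_le_sup_sylow {X : Type*} [Group X] [Finite X]
    (T : Sylow 2 ↥(Cfsg.pLayer 2 X ⊔ Cfsg.pPrimePCore 2 X)) :
    Cfsg.pLayer 2 X ⊔ Cfsg.pPrimePCore 2 X ≤
      (Cfsg.pLayer 2 X ⊔ Cfsg.oddCore X) ⊔
        (T : Subgroup ↥(Cfsg.pLayer 2 X ⊔ Cfsg.pPrimePCore 2 X)).map
          (Cfsg.pLayer 2 X ⊔ Cfsg.pPrimePCore 2 X).subtype := by
  have : Fact (Nat.Prime 2) := ⟨Nat.prime_two⟩
  have hOO22 : Cfsg.oddCore X ≤ Cfsg.pPrimePCore 2 X := oddCore_le_pPrimePCore 2 X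
  have hNeq : Cfsg.pLayer 2 X ⊔ Cfsg.pPrimePCore 2 X =
      (Cfsg.pLayer 2 X ⊔ Cfsg.oddCore X) ⊔ Cfsg.pPrimePCore 2 X := by
    rw [sup_assoc, sup_eq_right.mpr hOO22]
  obtain ⟨a, ha⟩ := relIndex_pPrimeCore_pPrimePCore 2 X
  have h1 : (Cfsg.pLayer 2 X ⊔ Cfsg.oddCore X).relIndex (Cfsg.pLayer 2 X ⊔ Cfsg.pPrimePCore 2 X)
      ∣ 2 ^ a := by
    rw [hNeq, Subgroup.relIndex_sup_left, ← ha]
    exact Subgroup.relIndex_dvd_of_le_left _ (le_sup_right : Cfsg.oddCore X ≤ _)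
  exact le_sup_sylow_of_relIndex_dvd_pow _ _ a h1 T

end Cfsg.Agent.Helper23
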