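import Mathlib

/-!
# Piece (FR) of helper58's plan for S3613 (board #9337): Frattini and a subgroup of index two
-/

set_option autoImplicit false

namespace Cfsg.Agent.Helper23.N3

open MulAction
open scoped Pointwise

/-- (FR) Frattini: a Sylow `q`-normalizer (`q` odd) of a group with a subgroup of index 2 has
even order -/
theorem even_card_normalizer_of_index_two {Γ : Type*} [Group Γ] [Finite Γ] (K : Subgroup Γ)
    (hK : K.index = 2) {q : ℕ} [Fact q.Prime] (hq2 : q ≠ 2) (Q : Sylow q Γ) :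
    Even (Nat.card ↥(Subgroup.normalizer ((Q : Subgroup Γ) : Set Γ))) := by
  have hq : q.Prime := Fact.out
  have hKn : K.Normal := Subgroup.normal_of_index_eq_two hK
  -- `Q ≤ K`
  have hQK : (Q : Subgroup Γ) ≤ K := by
    rw [← Subgroup.relIndex_eq_one]
    have h1 : K.relIndex (Q : Subgroup Γ) ∣ 2 := hK ▸ Subgroup.relIndex_dvd_index_of_normal K _
    have h2 : K.relIndex (Q : Subgroup Γ) ∣ Nat.card (Q : Subgroup Γ) := Subgroup.relIndex_dvd_card _ _
    obtain ⟨n, hn⟩ := (IsPGroup.iff_card.mp Q.isPGroup')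
    rw [hn] at h2
    obtain ⟨k, -, hk⟩ := (Nat.dvd_prime_pow hq).mp h2
    rw [hk] at h1 ⊢
    rcases Nat.eq_zero_or_pos k with rfl | hkpos
    · rfl
    · exfalso
      have : q ∣ 2 := (dvd_pow_self q hkpos.ne').trans h1
      exact hq2 ((Nat.prime_dvd_prime_iff_eq hq Nat.prime_two).mp this)
  set N := Subgroup.normalizer ((Q : Subgroup Γ) : Set Γ) with hN
  have hsup : N ⊔ K = ⊤ := Sylow.normalizer_sup_eq_top' Q hQK
  have hNK : ¬ N ≤ K := by
    intro hle
    rw [sup_of_le_right hle] at hsup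
    rw [hsup, Subgroup.index_top] at hK
    omega
  have h1 : K.relIndex N ∣ 2 := hK ▸ Subgroup.relIndex_dvd_index_of_normal K _
  have h2 : K.relIndex N ≠ 1 := fun e => hNK (Subgroup.relIndex_eq_one.mp e)
  have h3 : K.relIndex N = 2 := by
    rcases (Nat.dvd_prime Nat.prime_two).mp h1 with h | h
    · exact absurd h h2
    · exact h
  have h4 : K.relIndex N ∣ Nat.card N := Subgroup.relIndex_dvd_card _ _
  rw [h3] at h4
  exact even_iff_two_dvd.mpr h4

end Cfsg.Agent.Helper23.N3
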