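import Mathlib

/-!
# Piece (I2) of helper58's plan for S3613 (board #9337): the pointwise stabilizer of a pair has
index two in the setwise stabilizer
-/

set_option autoImplicit false

namespace Cfsg.Agent.Helper23.N3

open MulAction
open scoped Pointwise

/-- an element of the setwise stabilizer of a pair fixes or swaps the two points -/
theorem fix_or_swap_of_mem_stabilizer {G Ω : Type*} [Group G] [MulAction G Ω] (a b : Ω)
    (hab : a ≠ b) (s : G) (hs : s ∈ stabilizer G ({a, b} : Set Ω)) :
    (s • a = a ∧ s • b = b) ∨ (s • a = b ∧ s • b = a) := by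
  rw [mem_stabilizer_iff] at hs
  have ha : s • a ∈ ({a, b} : Set Ω) := by
    rw [← hs]
    exact Set.smul_mem_smul_set (Set.mem_insert _ _)
  have hb : s • b ∈ ({a, b} : Set Ω) := by
    rw [← hs]
    exact Set.smul_mem_smul_set (Set.mem_insert_of_mem _ rfl)
  have hne : s • a ≠ s • b := fun e => hab (MulAction.injective s e)
  rcases ha with ha | ha <;> rcases hb with hb | hb
  · exact absurd (ha.trans hb.symm) hne
  · exact Or.inl ⟨ha, hb⟩
  · exact Or.inr ⟨ha, hb⟩
  · exact absurd (ha.trans hb.symm) hne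

/-- (I2) the pointwise stabilizer of a pair has index 2 in the setwise stabilizer as soon as some
element swaps the two points -/
theorem index_fixing_pair {G Ω : Type*} [Group G] [MulAction G Ω] (a b : Ω) (hab : a ≠ b)
    (g : G) (hga : g • a = b) (hgb : g • b = a) :
    ((fixingSubgroup G ({a, b} : Set Ω)).subgroupOf (stabilizer G ({a, b} : Set Ω))).index = 2 := by
  have hgS : g ∈ stabilizer G ({a, b} : Set Ω) := by
    rw [mem_stabilizer_iff, Set.smul_set_insert, Set.smul_set_singleton, hga, hgb, Set.pair_comm]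
  have hmem : ∀ s : ↥(stabilizer G ({a, b} : Set Ω)),
      s ∈ (fixingSubgroup G ({a, b} : Set Ω)).subgroupOf (stabilizer G ({a, b} : Set Ω)) ↔
        ((s : G) • a = a ∧ (s : G) • b = b) := by
    intro s
    rw [Subgroup.mem_subgroupOf, mem_fixingSubgroup_iff]
    constructor
    · intro h
      exact ⟨h a (Set.mem_insert _ _), h b (Set.mem_insert_of_mem _ rfl)⟩
    · rintro ⟨h1, h2⟩ y hy
      rcases hy with rfl | rfl
      · exact h1
      · exact h2
  rw [Subgroup.index_eq_two_iff]
  refine ⟨⟨g, hgS⟩, fun s => ?_⟩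
  rw [hmem, hmem]
  have e1 : ((s * ⟨g, hgS⟩ : ↥(stabilizer G ({a, b} : Set Ω))) : G) • a = (s : G) • b := by
    rw [Subgroup.coe_mul, mul_smul]
    show (s : G) • g • a = _
    rw [hga]
  have e2 : ((s * ⟨g, hgS⟩ : ↥(stabilizer G ({a, b} : Set Ω))) : G) • b = (s : G) • a := by
    rw [Subgroup.coe_mul, mul_smul]
    show (s : G) • g • b = _
    rw [hgb]
  rw [e1, e2]
  rcases fix_or_swap_of_mem_stabilizer a b hab (s : G) s.2 with ⟨h1, h2⟩ | ⟨h1, h2⟩
  · rw [h1, h2]
    right
    exact ⟨⟨rfl, rfl⟩, fun h => hab h.2⟩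
  · rw [h1, h2]
    left
    exact ⟨⟨rfl, rfl⟩, fun h => hab h.1.symm⟩

end Cfsg.Agent.Helper23.N3
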