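import Mathlib

/-!
# Piece (COMM) of helper58's plan for S3614 (board #10017)

Commutators of elements normalizing a cyclic group centralize it.
-/

set_option autoImplicit false

namespace Cfsg.Agent.Helper23.N4

/-- conjugation by a normalizing element maps `ρ` to a power of `ρ` -/
theorem conj_eq_zpow_of_mem_normalizer {G : Type*} [Group G] (ρ n : G)
    (h : n ∈ Subgroup.normalizer ((Subgroup.zpowers ρ : Subgroup G) : Set G)) :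
    ∃ i : ℤ, n * ρ * n⁻¹ = ρ ^ i := by
  have h1 : n * ρ * n⁻¹ ∈ Subgroup.zpowers ρ :=
    (Subgroup.mem_normalizer_iff.mp h ρ).mp (Subgroup.mem_zpowers ρ)
  obtain ⟨i, hi⟩ := Subgroup.mem_zpowers_iff.mp h1
  exact ⟨i, hi.symm⟩

/-- the conjugation actions of two normalizing elements on `ρ` commute -/
theorem conj_conj_comm {G : Type*} [Group G] (ρ m₁ m₂ : G)
    (h₁ : m₁ ∈ Subgroup.normalizer ((Subgroup.zpowers ρ : Subgroup G) : Set G))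
    (h₂ : m₂ ∈ Subgroup.normalizer ((Subgroup.zpowers ρ : Subgroup G) : Set G)) :
    m₁ * (m₂ * ρ * m₂⁻¹) * m₁⁻¹ = m₂ * (m₁ * ρ * m₁⁻¹) * m₂⁻¹ := by
  obtain ⟨i, hi⟩ := conj_eq_zpow_of_mem_normalizer ρ m₁ h₁
  obtain ⟨j, hj⟩ := conj_eq_zpow_of_mem_normalizer ρ m₂ h₂
  have e1 : m₁ * ρ ^ j * m₁⁻¹ = (m₁ * ρ * m₁⁻¹) ^ j := conj_zpow.symm
  have e2 : m₂ * ρ ^ i * m₂⁻¹ = (m₂ * ρ * m₂⁻¹) ^ i := conj_zpow.symm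
  rw [hi, hj, e1, e2, hi, hj, ← zpow_mul, ← zpow_mul, mul_comm]

/-- (COMM) commutators of elements normalizing a cyclic group centralize it -/
theorem commutator_mem_centralizer {G : Type*} [Group G] (ρ n₁ n₂ : G)
    (h₁ : n₁ ∈ Subgroup.normalizer ((Subgroup.zpowers ρ : Subgroup G) : Set G))
    (h₂ : n₂ ∈ Subgroup.normalizer ((Subgroup.zpowers ρ : Subgroup G) : Set G)) :
    n₁ * n₂ * n₁⁻¹ * n₂⁻¹ ∈ Subgroup.centralizer ({ρ} : Set G) := by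
  have h := conj_conj_comm ρ n₁⁻¹ n₂⁻¹ (inv_mem h₁) (inv_mem h₂)
  rw [inv_inv, inv_inv] at h
  rw [Subgroup.mem_centralizer_singleton_iff]
  -- `h : n₁⁻¹ * (n₂⁻¹ * ρ * n₂) * n₁ = n₂⁻¹ * (n₁⁻¹ * ρ * n₁) * n₂`
  have h' : n₁ * n₂ * (n₁⁻¹ * (n₂⁻¹ * ρ * n₂) * n₁) = n₁ * n₂ * (n₂⁻¹ * (n₁⁻¹ * ρ * n₁) * n₂) := by
    rw [h]
  have key : (n₁ * n₂ * n₁⁻¹ * n₂⁻¹) * ρ = ρ * (n₁ * n₂ * n₁⁻¹ * n₂⁻¹) := by
    have e1 : n₁ * n₂ * (n₁⁻¹ * (n₂⁻¹ * ρ * n₂) * n₁) = (n₁ * n₂ * n₁⁻¹ * n₂⁻¹) * ρ * (n₂ * n₁) := by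
      group
    have e2 : n₁ * n₂ * (n₂⁻¹ * (n₁⁻¹ * ρ * n₁) * n₂) = ρ * (n₁ * n₂) := by group
    rw [e1, e2] at h'
    calc (n₁ * n₂ * n₁⁻¹ * n₂⁻¹) * ρ
        = ((n₁ * n₂ * n₁⁻¹ * n₂⁻¹) * ρ * (n₂ * n₁)) * (n₂ * n₁)⁻¹ := by group
      _ = ρ * (n₁ * n₂) * (n₂ * n₁)⁻¹ := by rw [h']
      _ = ρ * (n₁ * n₂ * n₁⁻¹ * n₂⁻¹) := by group
  exact key

end Cfsg.Agent.Helper23.N4
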