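import Mathlib

/-!
# Piece (FIXMOD) of helper58's plan for S3614 (board #10017)

The number of fixed points of an element `ρ` with `ρ ^ r = 1` (`r` prime) is congruent to the
degree modulo `r`.
-/

set_option autoImplicit false

namespace Cfsg.Agent.Helper23.N4

open MulAction

/-- (FIXMOD) the number of fixed points of an element of prime power order -/
theorem card_fixed_modEq {G Ω : Type*} [Group G] [MulAction G Ω] [Fintype Ω] [DecidableEq Ω]
    {r : ℕ} [Fact r.Prime] (ρ : G) (hρ : ρ ^ r = 1) :
    (Finset.univ.filter (fun x : Ω => ρ • x = x)).card ≡ Fintype.card Ω [MOD r] := by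
  have hP : IsPGroup r (Subgroup.zpowers ρ) := by
    apply IsPGroup.of_card (n := if orderOf ρ = 1 then 0 else 1)
    rw [Nat.card_zpowers]
    have hd : orderOf ρ ∣ r := orderOf_dvd_of_pow_eq_one hρ
    rcases (Nat.dvd_prime (Fact.out : r.Prime)).mp hd with h | h
    · rw [if_pos h, h, pow_zero]
    · have : orderOf ρ ≠ 1 := by rw [h]; exact (Fact.out : r.Prime).one_lt.ne'
      rw [if_neg this, h, pow_one]
  have hmain := hP.card_modEq_card_fixedPoints Ω
  have hset : (fixedPoints (Subgroup.zpowers ρ) Ω) = {x : Ω | ρ • x = x} := by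
    ext x
    simp only [mem_fixedPoints, Set.mem_ofPred_eq]
    constructor
    · intro h
      exact h ⟨ρ, Subgroup.mem_zpowers ρ⟩
    · intro h g
      have : Subgroup.zpowers ρ ≤ stabilizer G x :=
        Subgroup.zpowers_le.mpr (mem_stabilizer_iff.mpr h)
      exact mem_stabilizer_iff.mp (this g.2)
  have hcard : Nat.card (fixedPoints (Subgroup.zpowers ρ) Ω) =
      (Finset.univ.filter (fun x : Ω => ρ • x = x)).card := by
    rw [hset, Nat.card_eq_fintype_card, Fintype.card_subtype]
    rfl
  rw [hcard, Nat.card_eq_fintype_card] at hmain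
  exact hmain.symm

end Cfsg.Agent.Helper23.N4
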