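import Mathlib
import Cfsg.Agent.Helper91.O7.Defs

/-!
# Piece (I) of helper91's plan for S5514 (board #11190): codes of isometries
-/

set_option autoImplicit false

namespace Cfsg.Agent.Helper23.O7
open Matrix Cfsg.Agent.Helper91.O7

/-- the entries of the Gram matrix -/
def J7 : M7 :=
  !![2, 0, 0, 0, 0, 0, 0;
     0, 0, 0, 0, 1, 0, 0;
     0, 0, 0, 0, 0, 1, 0;
     0, 0, 0, 0, 0, 0, 1;
     0, 1, 0, 0, 0, 0, 0;
     0, 0, 1, 0, 0, 0, 0;
     0, 0, 0, 1, 0, 0, 0]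

theorem Jm_eq : Jm = J7 := by
  ext i j
  show ((ent Jcode i j : ℕ) : ZMod 3) = J7 i j
  fin_cases i <;> fin_cases j <;> rfl

theorem Jm_mul_Jm : Jm * Jm = 1 := by
  have h : mulCode Jcode Jcode = idCode := by decide +kernel
  rw [Jm, ← toMat_mulCode, h, toMat_idCode]

theorem Q7_eq (v : Fin 7 → ZMod 3) : Q7 v = 2 * (v ⬝ᵥ (Jm *ᵥ v)) := by
  have h4 : (4 : ZMod 3) = 1 := by decide
  rw [Jm_eq]
  simp only [Q7, J7, dotProduct, mulVec, Fin.sum_univ_seven, Matrix.of_apply, Matrix.cons_val',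
    Matrix.cons_val_zero, Matrix.cons_val_one, Matrix.cons_val]
  simp
  linear_combination (-(v 0 ^ 2 + (v 1 * v 4 + v 2 * v 5 + v 3 * v 6))) * h4

/-- a matrix preserving a Gram matrix of square one is invertible and preserves the form -/
theorem exists_unit_of_gram (J : M7) (hJ : J * J = 1) (Q : (Fin 7 → ZMod 3) → ZMod 3)
    (hQ : ∀ v, Q v = 2 * (v ⬝ᵥ (J *ᵥ v)))
    (M : M7) (h2 : Mᵀ * J * M = J) :
    ∃ u : U7, u.val = M ∧ ∀ v, Q (u.val *ᵥ v) = Q v := by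
  have hleft : (J * Mᵀ * J) * M = 1 := by
    rw [mul_assoc, mul_assoc, ← mul_assoc Mᵀ, h2, hJ]
  have hright : M * (J * Mᵀ * J) = 1 := mul_eq_one_comm.1 hleft
  have key : ∀ v, Q (M *ᵥ v) = Q v := by
    intro v
    rw [hQ, hQ]
    have hd : ∀ w : Fin 7 → ZMod 3, (M *ᵥ v) ⬝ᵥ w = v ⬝ᵥ (Mᵀ *ᵥ w) := by
      intro w
      rw [← Matrix.vecMul_transpose, ← Matrix.dotProduct_mulVec]
    rw [hd, Matrix.mulVec_mulVec, Matrix.mulVec_mulVec, h2]
  exact ⟨⟨M, J * Mᵀ * J, hright, hleft⟩, rfl, key⟩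

theorem toMat_gram_of_gramOK {A : ℕ} (h : gramOK A = true) :
    (toMat A)ᵀ * Jm * toMat A = Jm := by
  have h1 : mulCode (mulCode (trCode A) Jcode) A = Jcode := by
    unfold gramOK at h
    exact beq_iff_eq.1 h
  have := congrArg toMat h1
  rw [toMat_mulCode, toMat_mulCode, toMat_trCode] at this
  exact this

/-- the unit with matrix `toMat A` for a code passing the Gram check -/
theorem exists_unit_of_gramOK {A : ℕ} (h : gramOK A = true) :
    ∃ u : U7, u.val = toMat A ∧ u ∈ OM :=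
  exists_unit_of_gram Jm Jm_mul_Jm Q7 Q7_eq (toMat A) (toMat_gram_of_gramOK h)

end Cfsg.Agent.Helper23.O7
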