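import Mathlib
import Cfsg.Agent.Helper91.O7.Defs

/-!
# Piece (P) of helper91's plan for S5514 (board #11190): the Sylow subgroup from its table
-/

set_option autoImplicit false

namespace Cfsg.Agent.Helper23.O7

open Matrix Cfsg.Agent.Helper91.O7

theorem table_injective (T n : ℕ) (hnorm : ∀ c < n, normCode (tab T c) = tab T c)
    (hsort : ∀ c, c + 1 < n → tab T c < tab T (c + 1)) :
    ∀ c < n, ∀ c' < n, toMat (tab T c) = toMat (tab T c') → c = c' := by
  -- strictly increasing below `n`
  have hmono : ∀ d c : ℕ, c + d + 1 < n → tab T c < tab T (c + d + 1) := by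
    intro d
    induction d with
    | zero => intro c hc; exact hsort c hc
    | succ d ih =>
      intro c hc
      have h1 := ih c (by omega)
      have h2 := hsort (c + d + 1) (by omega)
      have : c + (d + 1) + 1 = c + d + 1 + 1 := by ring
      rw [this]
      exact lt_trans h1 h2
  have hlt : ∀ c c' : ℕ, c < c' → c' < n → tab T c < tab T c' := by
    intro c c' hcc' hc'
    obtain ⟨d, rfl⟩ : ∃ d, c' = c + d + 1 := ⟨c' - c - 1, by omega⟩
    exact hmono d c hc'
  intro c hc c' hc' h
  have h1 : tab T c = tab T c' := by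
    rw [← hnorm c hc, ← hnorm c' hc']
    exact normCode_congr h
  rcases lt_trichotomy c c' with h2 | h2 | h2
  · exact absurd h1 (ne_of_lt (hlt c c' h2 hc'))
  · exact h2
  · exact absurd h1.symm (ne_of_lt (hlt c' c h2 hc))

theorem closure_table (T n : ℕ) (g : Fin 3 → ℕ) (nxt : Fin 3 → ℕ → ℕ) (par dep : ℕ → ℕ)
    (gu : Fin 3 → U7) (hgu : ∀ i, (gu i).val = toMat (g i)) (hg3 : ∀ i, gu i ^ 3 = 1)
    (hn : 0 < n) (h0 : tab T 0 = idCode)
    (hnxt : ∀ i, ∀ c < n, nxt i c < n ∧ mulCode (g i) (tab T c) = tab T (nxt i c))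
    (htree : ∀ c < n, c = 0 ∨
      (par c < n ∧ dep (par c) < dep c ∧ ∃ i : Fin 3, nxt i (par c) = c))
    (hinj : ∀ c < n, ∀ c' < n, toMat (tab T c) = toMat (tab T c') → c = c') :
    ∃ t : ℕ → U7, (∀ c < n, (t c).val = toMat (tab T c)) ∧
      (∀ u, u ∈ Subgroup.closure (Set.range gu) ↔ ∃ c < n, u = t c) ∧
      Nat.card (Subgroup.closure (Set.range gu)) = n := by
  classical
  -- every table entry is the matrix of an element of the closure
  have hex : ∀ d c : ℕ, dep c = d → c < n →
      ∃ u : U7, u ∈ Subgroup.closure (Set.range gu) ∧ u.val = toMat (tab T c) := by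
    intro d
    induction d using Nat.strong_induction_on with
    | _ d ih =>
      intro c hd hc
      rcases htree c hc with rfl | ⟨hp, hdep, i, hi⟩
      · exact ⟨1, Subgroup.one_mem _, by rw [h0, toMat_idCode, Units.val_one]⟩
      · obtain ⟨u, hu, huv⟩ := ih (dep (par c)) (by rw [← hd]; exact hdep) (par c) rfl hp
        refine ⟨gu i * u, Subgroup.mul_mem _ (Subgroup.subset_closure ⟨i, rfl⟩) hu, ?_⟩
        rw [Units.val_mul, hgu, huv, ← toMat_mulCode, (hnxt i (par c) hp).2, hi]
  have hex' : ∀ c : ℕ, ∃ u : U7, c < n →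
      (u ∈ Subgroup.closure (Set.range gu) ∧ u.val = toMat (tab T c)) := by
    intro c
    by_cases hc : c < n
    · obtain ⟨u, hu⟩ := hex (dep c) c rfl hc
      exact ⟨u, fun _ => hu⟩
    · exact ⟨1, fun h => absurd h hc⟩
  choose t ht using hex'
  have htval : ∀ c < n, (t c).val = toMat (tab T c) := fun c hc => (ht c hc).2
  have htmem : ∀ c < n, t c ∈ Subgroup.closure (Set.range gu) := fun c hc => (ht c hc).1
  have ht0 : t 0 = 1 := by
    apply Units.ext
    rw [htval 0 hn, h0, toMat_idCode, Units.val_one]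
  have hstep : ∀ i, ∀ c < n, gu i * t c = t (nxt i c) := by
    intro i c hc
    apply Units.ext
    rw [Units.val_mul, hgu, htval c hc, htval _ (hnxt i c hc).1, ← toMat_mulCode, (hnxt i c hc).2]
  have hinv : ∀ i, (gu i)⁻¹ = gu i * gu i := by
    intro i
    apply inv_eq_of_mul_eq_one_right
    rw [← hg3 i, pow_succ, pow_two, mul_assoc]
  have hmem : ∀ u, u ∈ Subgroup.closure (Set.range gu) ↔ ∃ c < n, u = t c := by
    intro u
    constructor
    · intro hu
      induction hu using Subgroup.closure_induction_left with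
      | one => exact ⟨0, hn, ht0.symm⟩
      | mul_left x hx y hy ih =>
        obtain ⟨i, rfl⟩ := hx
        obtain ⟨c, hc, rfl⟩ := ih
        exact ⟨nxt i c, (hnxt i c hc).1, hstep i c hc⟩
      | inv_mul_cancel x hx y hy ih =>
        obtain ⟨i, rfl⟩ := hx
        obtain ⟨c, hc, rfl⟩ := ih
        refine ⟨nxt i (nxt i c), (hnxt i _ (hnxt i c hc).1).1, ?_⟩
        rw [hinv i, mul_assoc, hstep i c hc, hstep i _ (hnxt i c hc).1]
    · rintro ⟨c, hc, rfl⟩
      exact htmem c hc
  refine ⟨t, htval, hmem, ?_⟩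
  have hbij : Function.Bijective
      (fun c : Fin n => (⟨t c, htmem c c.isLt⟩ : Subgroup.closure (Set.range gu))) := by
    constructor
    · intro c c' h
      have h1 : t c = t c' := congrArg Subtype.val h
      have h2 : toMat (tab T c) = toMat (tab T c') := by
        rw [← htval c c.isLt, ← htval c' c'.isLt, h1]
      exact Fin.ext (hinj c c.isLt c' c'.isLt h2)
    · rintro ⟨u, hu⟩
      obtain ⟨c, hc, rfl⟩ := (hmem u).1 hu
      exact ⟨⟨c, hc⟩, rfl⟩
  rw [← Nat.card_congr (Equiv.ofBijective _ hbij), Nat.card_fin]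

end Cfsg.Agent.Helper23.O7
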