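import Mathlib
import Cfsg.Agent.Helper99.O9.Defs
import Cfsg.Agent.Helper99.OrthJTG

set_option autoImplicit false
set_option linter.unusedSectionVars false
set_option linter.unusedVariables false

/-!
# S2517 (helper99's O9 farm #13715), piece (EXUO): unipotent isometries of Jordan type `(t, 1, …, 1)` in odd dimension

Also the common lemma `EXU_nil_of_kdim` (the exact nilpotency index read off the kernel dimensions), used for (EXUE) too.
-/

namespace Cfsg.Agent.Helper23.O9

open Matrix QuadraticMap Cfsg.Agent.Helper44 Cfsg.Agent.Helper44.QType Cfsg.Agent.Helper99.O9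
open Module Cfsg.Agent.Helper43 Cfsg.Agent.Helper43.JT Cfsg.Agent.Helper99.KdimSplit Cfsg.Agent.Helper99.OrthJT

universe u

variable {F : Type u} [Field F]

theorem EXU_minSum (t k l : ℕ) :
    minSum (t ::ₘ Multiset.replicate k 1) l = min l t + k * min l 1 := by
  rw [minSum_cons]
  unfold minSum
  rw [Multiset.map_replicate, Multiset.sum_replicate, smul_eq_mul]

theorem EXU_count_even (t k : ℕ) (ht : Odd t) (e : ℕ) (he : Even e) :
    Even ((t ::ₘ Multiset.replicate k 1).count e) := by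
  have h1 : e ≠ t := by
    rintro rfl
    exact (Nat.not_even_iff_odd.mpr ht) he
  have h2 : e ≠ 1 := by
    rintro rfl
    exact absurd he (by decide)
  rw [Multiset.count_cons_of_ne h1, Multiset.count_replicate, if_neg (Ne.symm h2)]
  exact Even.zero

theorem EXU_sum (t k : ℕ) : (t ::ₘ Multiset.replicate k 1).sum = t + k := by
  rw [Multiset.sum_cons, Multiset.sum_replicate, smul_eq_mul, mul_one]

/-- the exact nilpotency index from the kernel dimensions of the Jordan type `(t, 1, …, 1)` -/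
theorem EXU_nil_of_kdim {ι : Type} [Fintype ι] [DecidableEq ι] (M : Matrix ι ι F) (t k : ℕ)
    (ht : 1 ≤ t) (hcard : Fintype.card ι = t + k)
    (hk : ∀ l, kdim (Matrix.toLin' (M - 1)) l = minSum (t ::ₘ Multiset.replicate k 1) l) :
    (M - 1) ^ t = 0 ∧ ∀ s, s < t → (M - 1) ^ s ≠ 0 := by
  constructor
  · have h1 : kdim (Matrix.toLin' (M - 1)) t = finrank F (ι → F) := by
      rw [hk, EXU_minSum, Module.finrank_fintype_fun_eq_card, hcard, min_self, Nat.min_eq_right ht,
        mul_one]
    have h2 := Cfsg.Agent.Helper99.JordanElt.pow_eq_zero_of_kdim_eq _ t h1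
    rw [← Matrix.toLin'_pow] at h2
    apply (Matrix.toLin' (R := F)).injective
    rw [h2, map_zero]
  · intro s hs h0
    have h1 : kdim (Matrix.toLin' (M - 1)) s = Fintype.card ι := by
      unfold kdim
      rw [← Matrix.toLin'_pow, h0, map_zero, LinearMap.ker_zero, finrank_top,
        Module.finrank_fintype_fun_eq_card]
    rw [hk, EXU_minSum, hcard, Nat.min_eq_left hs.le] at h1
    have h3 : k * min s 1 ≤ k * 1 := Nat.mul_le_mul_left k (Nat.min_le_right s 1)
    omega

variable [Fintype F]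

/-- (EXUO) the same in odd dimension `n`: route `oddGood_of_multiset`, `exists_odd_isometry` -/
theorem exu_odd (hF : Odd (Fintype.card F)) (n t : ℕ) (hn : Odd n) (ht : Odd t) (htn : t ≤ n) :
    ∃ P : OPair F, P.ND ∧ P.dim = n ∧ P.Nil t := by
  classical
  have h2 : (2 : F) ≠ 0 := Cfsg.Agent.Helper44.two_ne_zero_of_odd_card rfl hF
  obtain ⟨d, hd⟩ := hn
  obtain ⟨k, rfl⟩ : ∃ k, n = t + k := ⟨n - t, by omega⟩
  have ht1 : 1 ≤ t := by
    obtain ⟨c, hc⟩ := ht
    omega
  set μ : Multiset ℕ := t ::ₘ Multiset.replicate k 1 with hμ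
  have hsum : μ.sum = 2 * d + 1 := by rw [hμ, EXU_sum, hd]
  obtain ⟨α, hα, hg⟩ := oddGood_of_multiset (F := F) h2 _ μ rfl (EXU_count_even t k ht)
    ⟨d, by rw [hsum]⟩
  have hg2 := oddGood_scale hg (2 / α) (div_ne_zero h2 hα)
  rw [div_mul_cancel₀ _ hα] at hg2
  obtain ⟨x, hxQ, hxk⟩ := exists_odd_isometry h2 (d := d) hg2 μ.sum (fun l hl => by
    rw [minSum_of_le μ l (fun b hb => (Multiset.le_sum_of_mem hb).trans hl), hsum])
  have hcard : Fintype.card (Unit ⊕ (Fin d ⊕ Fin d)) = t + k := by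
    rw [Fintype.card_sum, Fintype.card_sum, Fintype.card_fin, Fintype.card_unit, hd]
    ring
  have hxiso : x ∈ Cfsg.isometryGroup F ⇑(Cfsg.Agent.Helper44.oddForm d F) :=
    fun u _ => hxQ u
  refine ⟨{ ι := Unit ⊕ (Fin d ⊕ Fin d), Q := Cfsg.Agent.Helper44.oddForm d F, g := ⟨x, hxiso⟩ },
    ?_, hcard, ?_⟩
  · rw [OPair.nd_def]
    intro v hv
    exact (nondegenerate_oddForm h2 d).1 v (fun y => by
      rw [QuadraticMap.polarBilin_apply_apply]
      exact hv y)
  · rw [OPair.nil_def]
    exact EXU_nil_of_kdim (x : Matrix (Unit ⊕ (Fin d ⊕ Fin d)) (Unit ⊕ (Fin d ⊕ Fin d)) F) t k ht1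
      hcard hxk

end Cfsg.Agent.Helper23.O9
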