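import Mathlib
import Cfsg.Agent.Helper99.O9.Defs
import Cfsg.Agent.Helper99.OrthJTF
import Cfsg.Agent.Helper99.OrthJTH
import Cfsg.Agent.Helper23.O9EXUO

set_option autoImplicit false
set_option linter.unusedSectionVars false
set_option linter.unusedVariables false

/-!
# S2517 (helper99's O9 farm #13715), piece (EXUE): unipotent isometries of Jordan type `(t, 1, …, 1)`, `t` odd,
on a space of dimension `2 m` of either type
-/

namespace Cfsg.Agent.Helper23.O9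

open Matrix QuadraticMap Cfsg.Agent.Helper44 Cfsg.Agent.Helper44.QType Cfsg.Agent.Helper99.O9
open Module Cfsg.Agent.Helper43 Cfsg.Agent.Helper43.JT Cfsg.Agent.Helper99.KdimSplit Cfsg.Agent.Helper99.OrthJT

universe u

variable {F : Type u} [Field F] [Fintype F]

/-- plus type -/
theorem EXUE_plus (h2 : (2 : F) ≠ 0) (m t : ℕ) (ht : Odd t) (htm : t + 1 ≤ 2 * m) :
    ∃ P : OPair F, P.ND ∧ P.Typ m 1 ∧ P.Nil t := by
  classical
  obtain ⟨k, hk⟩ : ∃ k, 2 * m = t + k := ⟨2 * m - t, by omega⟩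
  have ht1 : 1 ≤ t := by
    obtain ⟨c, hc⟩ := ht
    omega
  set μ : Multiset ℕ := t ::ₘ Multiset.replicate k 1 with hμ
  have hsum : μ.sum = 2 * m := by rw [hμ, EXU_sum, hk]
  have hg := hgood_of_multiset (F := F) h2 _ μ rfl (EXU_count_even t k ht) ⟨m, by rw [hsum]; ring⟩
  obtain ⟨x, hxQ, hxk⟩ := exists_plus_isometry h2 (d := m) hg μ.sum (fun l hl => by
    rw [minSum_of_le μ l (fun b hb => (Multiset.le_sum_of_mem hb).trans hl), hsum])
  have hcard : Fintype.card (Fin m ⊕ Fin m) = t + k := by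
    rw [Fintype.card_sum, Fintype.card_fin, ← hk, two_mul]
  have hxiso : x ∈ Cfsg.isometryGroup F ⇑(Cfsg.Agent.Helper44.plusForm m F) :=
    fun u _ => hxQ u
  refine ⟨{ ι := Fin m ⊕ Fin m, Q := Cfsg.Agent.Helper44.plusForm m F, g := ⟨x, hxiso⟩ },
    ?_, ?_, ?_⟩
  · rw [OPair.nd_def]
    intro v hv
    exact (Cfsg.Agent.Helper44.nondegenerate_plusForm (F := F) m).1 v (fun y => by
      rw [QuadraticMap.polarBilin_apply_apply]
      exact hv y)
  · rw [OPair.typ_def]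
    refine ⟨?_, hasType_plus m⟩
    rw [OPair.dim_def]
    show Fintype.card (Fin m ⊕ Fin m) = 2 * m
    rw [hcard, hk]
  · rw [OPair.nil_def]
    exact EXU_nil_of_kdim (x : Matrix (Fin m ⊕ Fin m) (Fin m ⊕ Fin m) F) t k ht1 hcard hxk

/-- minus type -/
theorem EXUE_minus (h2 : (2 : F) ≠ 0) (m t : ℕ) (ht : Odd t) (htm : t + 1 ≤ 2 * m) :
    ∃ P : OPair F, P.ND ∧ P.Typ m (-1) ∧ P.Nil t := by
  classical
  obtain ⟨k, hk⟩ : ∃ k, 2 * m = t + k := ⟨2 * m - t, by omega⟩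
  obtain ⟨ko, hko⟩ := ht
  obtain ⟨k0, rfl⟩ : ∃ k0, m = k0 + 1 := ⟨m - 1, by omega⟩
  have ht1 : 1 ≤ t := by omega
  -- a nonsquare
  obtain ⟨c, hc⟩ := FiniteField.exists_nonsquare
    (Cfsg.Agent.Helper44.ringChar_ne_two_of_two_ne_zero h2)
  have hc0 : c ≠ 0 := by
    rintro rfl
    exact hc ⟨0, by simp⟩
  have hb' : ∀ x y : F, x ^ 2 + 0 * x * y + (-c) * y ^ 2 = 0 → x = 0 ∧ y = 0 := by
    intro x y hxy
    have hy : y = 0 := by
      by_contra hy
      apply hc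
      refine ⟨x / y, ?_⟩
      field_simp
      linear_combination -hxy
    refine ⟨?_, hy⟩
    rw [hy] at hxy
    simpa using hxy
  set μ : Multiset ℕ := t ::ₘ Multiset.replicate k 1 with hμ
  have hsum : μ.sum = 2 * k0 + 2 := by rw [hμ, EXU_sum, ← hk]; ring
  -- the pieces
  have hs₁ : Odd (Multiset.replicate k 1).sum := by
    rw [Multiset.sum_replicate, smul_eq_mul, mul_one]
    exact ⟨k0 - ko, by omega⟩
  have heven₁ : ∀ e : ℕ, Even e → Even ((Multiset.replicate k 1).count e) := by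
    intro e he
    have h1 : (1 : ℕ) ≠ e := by
      rintro rfl
      exact absurd he (by decide)
    rw [Multiset.count_replicate, if_neg h1]
    exact Even.zero
  obtain ⟨α, hα, hg₁⟩ := oddGood_of_multiset (F := F) h2 _ (Multiset.replicate k 1) rfl heven₁ hs₁
  have hg₁' := oddGood_scale hg₁ (2 * (-c) / α) (div_ne_zero (mul_ne_zero h2 (neg_ne_zero.mpr hc0)) hα)
  rw [div_mul_cancel₀ _ hα] at hg₁'
  have hg₀ := oddGood_scale (oddGood_block (F := F) h2 ko) (2 / (-1) ^ ko)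
    (div_ne_zero h2 (pow_ne_zero _ (neg_ne_zero.mpr one_ne_zero)))
  rw [div_mul_cancel₀ _ (pow_ne_zero _ (neg_ne_zero.mpr one_ne_zero))] at hg₀
  have hm : MGood F (minSum μ) 2 (2 * (-c)) := by
    refine mgood_congr ?_ (mgood_of_oddGood_oddGood hg₀ hg₁')
    intro l
    rw [hμ, minSum_cons, hko]
  obtain ⟨x, hxQ, hxk⟩ := exists_minus_isometry h2 (k := k0) 0 (-c) hb' (-c) hb' hm μ.sum
    (fun l hl => by
      rw [minSum_of_le μ l (fun e he => (Multiset.le_sum_of_mem he).trans hl), hsum])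
  have hcard : Fintype.card ((Fin k0 ⊕ Fin k0) ⊕ Fin 2) = t + k := by
    rw [Fintype.card_sum, Fintype.card_sum, Fintype.card_fin, Fintype.card_fin, ← hk]
    ring
  have hxiso : x ∈ Cfsg.isometryGroup F ⇑(Cfsg.Agent.Helper44.minusForm k0 F 0 (-c)) :=
    fun u _ => hxQ u
  refine ⟨{ ι := (Fin k0 ⊕ Fin k0) ⊕ Fin 2, Q := Cfsg.Agent.Helper44.minusForm k0 F 0 (-c), g := ⟨x, hxiso⟩ },
    ?_, ?_, ?_⟩
  · rw [OPair.nd_def]
    intro v hv
    exact (Cfsg.Agent.Helper44.nondegenerate_minusForm k0 0 (-c)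
      (disc_ne_zero_of_aniso h2 0 (-c) hb')).1 v (fun y => by
      rw [QuadraticMap.polarBilin_apply_apply]
      exact hv y)
  · rw [OPair.typ_def]
    refine ⟨?_, hasType_minus k0 0 (-c) hb'⟩
    rw [OPair.dim_def]
    show Fintype.card ((Fin k0 ⊕ Fin k0) ⊕ Fin 2) = 2 * (k0 + 1)
    rw [hcard, hk]
  · rw [OPair.nil_def]
    exact EXU_nil_of_kdim
      (x : Matrix ((Fin k0 ⊕ Fin k0) ⊕ Fin 2) ((Fin k0 ⊕ Fin k0) ⊕ Fin 2) F) t k ht1 hcard
      hxk

/-- (EXUE) a unipotent isometry of Jordan type `(t, 1, …, 1)` on a space of dimension `2 m` and type `ε`. -/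
theorem exu_even (hF : Odd (Fintype.card F)) (m : ℕ) (ε : ℤ) (hε : ε = 1 ∨ ε = -1) (t : ℕ)
    (ht : Odd t) (htm : t + 1 ≤ 2 * m) : ∃ P : OPair F, P.ND ∧ P.Typ m ε ∧ P.Nil t := by
  have h2 : (2 : F) ≠ 0 := Cfsg.Agent.Helper44.two_ne_zero_of_odd_card rfl hF
  rcases hε with rfl | rfl
  · exact EXUE_plus h2 m t ht htm
  · exact EXUE_minus h2 m t ht htm

end Cfsg.Agent.Helper23.O9
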