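import Mathlib
import Cfsg.Agent.Helper99.O9.Defs

set_option autoImplicit false
set_option linter.unusedSectionVars false
set_option linter.unusedVariables false

/-!
# S2517 (helper99's O9 farm #13715), piece (NEGF): `-g` has no eigenvalue `1` iff `g` has no eigenvalue `-1`
-/

namespace Cfsg.Agent.Helper23.O9

open Matrix QuadraticMap Cfsg.Agent.Helper44 Cfsg.Agent.Helper44.QType Cfsg.Agent.Helper99.O9

universe u

variable {F : Type u} [Field F] [Fintype F]

/-- the matrix of `-g` -/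
theorem neg_M_eq (P : OPair F) : (P.neg.M : Matrix P.ι P.ι F) = -P.M := by
  show (((Cfsg.Agent.Helper99.O9.negOne P.Q * P.g : ↥(Cfsg.isometryGroup F ⇑P.Q)) : GL P.ι F) :
    Matrix P.ι P.ι F) = -P.M
  rw [Subgroup.coe_mul, Units.val_mul, negOne_coe, neg_one_mul]
  rfl

theorem NEGF_aux {ι : Type} [Fintype ι] [DecidableEq ι] (M : Matrix ι ι F) :
    IsUnit (-M - 1) ↔ IsUnit (M + 1) := by
  have h : -M - 1 = -(M + 1) := by rw [neg_add, sub_eq_add_neg]
  rw [h, IsUnit.neg_iff]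

/-- (NEGF) `(-g) - 1 = -(g + 1)` -/
theorem neg_fpf_iff {P : OPair F} : P.neg.Fpf ↔ P.Fpf' := by
  have h1 : (P.neg.M : Matrix P.ι P.ι F) = -P.M := neg_M_eq P
  have h2 : IsUnit ((P.neg.M : Matrix P.ι P.ι F) - 1) ↔ IsUnit (P.M + 1) := by
    rw [h1]; exact NEGF_aux P.M
  exact h2

end Cfsg.Agent.Helper23.O9
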