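import Mathlib
import Cfsg.Agent.Helper99.O9.Defs

set_option autoImplicit false
set_option linter.unusedSectionVars false
set_option linter.unusedVariables false

/-!
# S2517 (helper99's O9 farm #13715), piece (NILEX): a unipotent isometry has an exact nilpotency index `t ≤ dim`
-/

namespace Cfsg.Agent.Helper23.O9

open Matrix QuadraticMap Cfsg.Agent.Helper44 Cfsg.Agent.Helper44.QType Cfsg.Agent.Helper99.O9

universe u

variable {F : Type u} [Field F] [Fintype F]

/-- (NILEX) -/
theorem exists_nil {P : OPair F} (hu : P.Unip) : ∃ t, P.Nil t ∧ t ≤ P.dim := by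
  classical
  rw [OPair.unip_def] at hu
  have hex : ∃ t, (P.M - 1) ^ t = 0 := ⟨P.dim, hu⟩
  refine ⟨Nat.find hex, ?_, Nat.find_min' hex hu⟩
  rw [OPair.nil_def]
  exact ⟨Nat.find_spec hex, fun s hs => Nat.find_min hex hs⟩

end Cfsg.Agent.Helper23.O9
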