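import Mathlib
import Cfsg.Agent.Helper99.O9.Defs
import Cfsg.Agent.Helper99.KdimSplit
import Cfsg.Agent.Helper43.JTKer

set_option autoImplicit false
set_option linter.unusedSectionVars false
set_option linter.unusedVariables false

/-!
# S2517 (helper99's O9 farm #13715), piece (PAR), backup (#14137): a unipotent isometry of a non-degenerate space
of even dimension `n` has `(u - 1)^(n-1) = 0`
-/

namespace Cfsg.Agent.Helper23.O9

open Matrix QuadraticMap Cfsg.Agent.Helper44 Cfsg.Agent.Helper44.QType Cfsg.Agent.Helper99.O9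
open Module Cfsg.Agent.Helper43 Cfsg.Agent.Helper43.JT Cfsg.Agent.Helper99.KdimSplit

universe u v

/-- the linear algebra: an isometry `u` of a non-degenerate symmetric bilinear form on a space of even dimension `n`
(characteristic not two) with `u - 1` nilpotent of exact index `t` has `t < n` -/
theorem PAR_core {F : Type u} {V : Type v} [Field F] [AddCommGroup V] [Module F V] [FiniteDimensional F V]
    (h2 : (2 : F) ≠ 0) (B : LinearMap.BilinForm F V) (hs : ∀ x y, B x y = B y x)
    (hnd : ∀ x, (∀ y, B x y = 0) → x = 0)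
    (u : Module.End F V) (hu : ∀ x y, B (u x) (u y) = B x y)
    (he : Even (finrank F V)) (h1 : 1 ≤ finrank F V) (t : ℕ) (ht0 : (u - 1) ^ t = 0)
    (hts : ∀ s, s < t → (u - 1) ^ s ≠ 0) :
    t + 1 ≤ finrank F V := by
  set N : Module.End F V := u - 1 with hN
  -- the kernel dimensions grow strictly
  have hstep : ∀ j l, l + 1 + j = t → kdim N l + 1 ≤ kdim N (l + 1) := by
    intro j
    induction j with
    | zero =>
      intro l hl
      have e1 : kdim N (l + 1) = finrank F V := by
        rw [show l + 1 = t by omega]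
        exact kdim_of_pow_eq_zero ht0
      have e2 : kdim N l < finrank F V := by
        unfold kdim
        apply Submodule.finrank_lt
        intro htop
        exact hts l (by omega) (LinearMap.ker_eq_top.mp htop)
      omega
    | succ j ih =>
      intro l hl
      have h3 := ih (l + 1) (by omega)
      have h4 := kdim_concave N l
      have e : l + 1 + 1 = l + 2 := rfl
      rw [e] at h3
      omega
  have hK : ∀ l, l ≤ t → l ≤ kdim N l := by
    intro l
    induction l with
    | zero => intro _; exact Nat.zero_le _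
    | succ l ih =>
      intro hl
      have h3 := ih (by omega)
      have h4 := hstep (t - (l + 1)) l (by omega)
      omega
  have htn : t ≤ finrank F V := le_trans (hK t le_rfl) (kdim_le_finrank N t)
  by_contra hcon
  have htn' : t = finrank F V := by omega
  obtain ⟨m, hm⟩ : ∃ m, finrank F V = m + 1 := ⟨finrank F V - 1, by omega⟩
  have hmodd : Odd m := by
    rcases he with ⟨c, hc⟩
    exact ⟨c - 1, by omega⟩
  have hA0 : N ^ m ≠ 0 := hts m (by omega)
  have hNA : N * N ^ m = 0 := by
    rw [← pow_succ', ← hm, ← htn']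
    exact ht0
  have hkm : m ≤ kdim N m := hK m (by omega)
  -- the adjoint of `N`
  have hNapp : ∀ x, N x = u x - x := fun x => by
    rw [hN, LinearMap.sub_apply, Module.End.one_apply]
  have hadj : ∀ x y, B (N x) y = - B (u x) (N y) := by
    intro x y
    rw [hNapp x, hNapp y]
    simp only [map_sub, LinearMap.sub_apply]
    rw [hu]
    ring
  have hcomm : Commute u N := by
    rw [hN]
    exact (Commute.refl u).sub_right (Commute.one_right u)
  have hpow : ∀ k x y, B ((N ^ k) x) y = (-1) ^ k * B ((u ^ k) x) ((N ^ k) y) := by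
    intro k
    induction k with
    | zero =>
      intro x y
      simp
    | succ k ih =>
      intro x y
      have e1 : (N ^ (k + 1)) x = (N ^ k) (N x) := by
        rw [pow_succ]
        rfl
      have e2 : (u ^ k) (N x) = N ((u ^ k) x) :=
        congrArg (fun f : Module.End F V => f x) (hcomm.pow_left k).eq
      have e3 : (u ^ (k + 1)) x = u ((u ^ k) x) := by
        rw [pow_succ']
        rfl
      have e4 : (N ^ (k + 1)) y = N ((N ^ k) y) := by
        rw [pow_succ']
        rfl
      rw [e1, ih (N x) y, e2, hadj, e3, e4, pow_succ]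
      ring
  have huA : ∀ y, u ((N ^ m) y) = (N ^ m) y := by
    intro y
    have h3 : N ((N ^ m) y) = 0 := by
      have h4 := congrArg (fun f : Module.End F V => f y) hNA
      simpa using h4
    rw [hNapp] at h3
    exact sub_eq_zero.mp h3
  have hukA : ∀ k y, (u ^ k) ((N ^ m) y) = (N ^ m) y := by
    intro k
    induction k with
    | zero =>
      intro y
      simp
    | succ k ih =>
      intro y
      rw [pow_succ', Module.End.mul_apply, ih, huA]
  have hupow : ∀ k x y, B ((u ^ k) x) ((u ^ k) y) = B x y := by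
    intro k
    induction k with
    | zero =>
      intro x y
      simp
    | succ k ih =>
      intro x y
      rw [pow_succ', Module.End.mul_apply, Module.End.mul_apply, hu, ih]
  have hanti : ∀ x y, B ((N ^ m) x) y = - B ((N ^ m) y) x := by
    intro x y
    rw [hpow m x y, hmodd.neg_one_pow]
    have h3 : B ((u ^ m) x) ((N ^ m) y) = B x ((N ^ m) y) := by
      conv_lhs => rw [← hukA m y]
      exact hupow m x ((N ^ m) y)
    rw [h3, hs x ((N ^ m) y)]
    ring
  -- a vector outside the kernel of `N ^ m`
  obtain ⟨x₀, hx₀⟩ : ∃ x₀, (N ^ m) x₀ ≠ 0 := by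
    by_contra h
    apply hA0
    apply LinearMap.ext
    intro x
    by_contra hx
    exact h ⟨x, hx⟩
  have hx₀K : x₀ ∉ LinearMap.ker (N ^ m) := fun h => hx₀ (LinearMap.mem_ker.mp h)
  have hlt : LinearMap.ker (N ^ m) < LinearMap.ker (N ^ m) ⊔ Submodule.span F {x₀} := by
    apply lt_of_le_of_ne le_sup_left
    intro h
    apply hx₀K
    rw [h]
    exact Submodule.mem_sup_right (Submodule.mem_span_singleton_self x₀)
  have htop : LinearMap.ker (N ^ m) ⊔ Submodule.span F {x₀} = ⊤ := by
    apply Submodule.eq_top_of_finrank_eq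
    have h3 := Submodule.finrank_lt_finrank_of_lt hlt
    have h4 := Submodule.finrank_le (LinearMap.ker (N ^ m) ⊔ Submodule.span F {x₀})
    have h5 : m ≤ finrank F ↥(LinearMap.ker (N ^ m)) := hkm
    omega
  have h00 : B ((N ^ m) x₀) x₀ = 0 := by
    have h3 := hanti x₀ x₀
    have h' : (2 : F) * B ((N ^ m) x₀) x₀ = 0 := by linear_combination h3
    rcases mul_eq_zero.mp h' with h | h
    · exact absurd h h2
    · exact h
  apply hx₀
  apply hnd
  intro y
  have hy : y ∈ LinearMap.ker (N ^ m) ⊔ Submodule.span F {x₀} := by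
    rw [htop]
    trivial
  obtain ⟨k, hk, z, hz, rfl⟩ := Submodule.mem_sup.mp hy
  obtain ⟨c, rfl⟩ := Submodule.mem_span_singleton.mp hz
  rw [map_add, map_smul, smul_eq_mul, h00, mul_zero, add_zero, hanti, LinearMap.mem_ker.mp hk]
  simp

variable {F : Type u} [Field F] [Fintype F]

/-- (PAR) a unipotent isometry `u` of a non-degenerate space of even dimension `n > 0` has `(u - 1)^(n-1) = 0`. -/
theorem nil_lt_of_even (hF : Odd (Fintype.card F)) {P : OPair F} (hP : P.ND) (he : Even P.dim)
    (h1 : 1 ≤ P.dim) {t : ℕ} (h : P.Nil t) : t + 1 ≤ P.dim := by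
  have h2 : (2 : F) ≠ 0 := Cfsg.Agent.Helper44.two_ne_zero_of_odd_card rfl hF
  rw [OPair.nd_def] at hP
  rw [OPair.nil_def] at h
  have hdim : P.dim = finrank F (P.ι → F) := by
    rw [OPair.dim_def, Module.finrank_fintype_fun_eq_card]
  rw [hdim] at he h1 ⊢
  have hiso : ∀ v, P.Q (P.M *ᵥ v) = P.Q v :=
    (Cfsg.Agent.Helper44.mem_isometryGroup_iff (⇑P.Q) (P.g : GL P.ι F)).mp P.g.2
  have hN : Matrix.toLin' (P.M - 1) = Matrix.toLin' P.M - 1 := by
    rw [map_sub, Matrix.toLin'_one]
    rfl
  refine PAR_core h2 (QuadraticMap.polarBilin P.Q) ?_ ?_ (Matrix.toLin' P.M) ?_ he h1 t ?_ ?_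
  · intro x y
    rw [QuadraticMap.polarBilin_apply_apply, QuadraticMap.polarBilin_apply_apply,
      QuadraticMap.polar_comm]
  · intro x hx
    apply hP x
    intro y
    have := hx y
    rwa [QuadraticMap.polarBilin_apply_apply] at this
  · intro x y
    rw [QuadraticMap.polarBilin_apply_apply, QuadraticMap.polarBilin_apply_apply,
      Matrix.toLin'_apply, Matrix.toLin'_apply]
    unfold QuadraticMap.polar
    rw [← Matrix.mulVec_add, hiso, hiso, hiso]
  · rw [← hN, ← Matrix.toLin'_pow, h.1, map_zero]
  · intro s hs h0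
    apply h.2 s hs
    rw [← hN, ← Matrix.toLin'_pow] at h0
    apply (Matrix.toLin' (R := F)).injective
    rw [h0, map_zero]

end Cfsg.Agent.Helper23.O9
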