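import Mathlib
import Cfsg.Agent.Helper45.OddBN.SgDefs

/-!
# Piece (SG3) of helper45's plan for S2547 (board #10585)

Clearing row `j` of an upper unitriangular orthogonal matrix `u` whose rows `< j` are trivial, by
the Siegel element `ρ(w)` with `w b = u j b` for `j < b < rev j`.
-/

set_option autoImplicit false

namespace Cfsg.Agent.Helper23.OddStSG3

open Matrix Cfsg.Agent.Helper5.SuBN Cfsg.Agent.Helper45.OddBN

variable {F : Type*} [Field F] {n : ℕ}

/-- (SG3) clearing row `j` of an upper unitriangular orthogonal matrix whose rows `< j` are trivial -/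
theorem sg_step (h2 : (2 : F) ≠ 0) (j : Fin n) (hj : j < Fin.rev j) (u : SOJ n F)
    (hu : u ∈ Usub n (RingHom.id F)) (hrow : RowFix j.val u) :
    ∃ w : Fin n → F, (∀ b : Fin n, b ≤ j → w b = 0) ∧ (∀ b : Fin n, Fin.rev j ≤ b → w b = 0) ∧
      ∀ r : SOJ n F, mat r = sgMat j w →
        r ∈ Usub n (RingHom.id F) ∧ RowFix (j.val + 1) (u * r⁻¹) := by
  classical
  obtain ⟨hutri, hudiag⟩ := (mem_Usub_iff u).mp hu
  have hjv : j.val < n - 1 - j.val := by
    have := hj
    rw [Fin.lt_def, val_rev] at this
    exact this
  -- the parameter
  set W : Fin n → F := fun b => if j < b ∧ b < Fin.rev j then mat u j b else 0 with hW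
  have hW1 : ∀ b : Fin n, b ≤ j → W b = 0 := by
    intro b hb
    simp only [hW]
    rw [if_neg]
    rintro ⟨h1, -⟩
    exact absurd hb (not_le.mpr h1)
  have hW2 : ∀ b : Fin n, Fin.rev j ≤ b → W b = 0 := by
    intro b hb
    simp only [hW]
    rw [if_neg]
    rintro ⟨-, h1⟩
    exact absurd hb (not_le.mpr h1)
  have hWmid : ∀ b : Fin n, j < b → b < Fin.rev j → W b = mat u j b := by
    intro b h1 h3
    simp only [hW]
    rw [if_pos ⟨h1, h3⟩]
  -- `W (rev c) = 0` unless `j < c < rev j`
  have hWrev0 : ∀ c : Fin n, ¬ (j < c ∧ c < Fin.rev j) → W (Fin.rev c) = 0 := by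
    intro c hc
    by_cases h1 : j < c
    · have h3 : Fin.rev j ≤ c := not_lt.mp (fun h => hc ⟨h1, h⟩)
      apply hW1
      rw [Fin.le_def, val_rev]
      rw [Fin.le_def, val_rev] at h3
      have := c.2
      omega
    · apply hW2
      rw [Fin.le_def, val_rev, val_rev]
      have h3 : c.val ≤ j.val := not_lt.mp h1
      have := c.2
      omega
  -- facts about row `j` of `u`
  have hF1 : ∀ c : Fin n, c < j → mat u j c = 0 := fun c hc => hutri j c hc
  have hF3 : ∀ c : Fin n, Fin.rev j < c → mat u j c = 0 := by
    intro c hc
    have hrc : (Fin.rev c).val < j.val := by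
      rw [Fin.lt_def, val_rev] at hc
      rw [val_rev]
      have := c.2
      omega
    have h := unitary_rel_row (σ := RingHom.id F) (fun x => rfl) u (Fin.rev c) j
    have hne : Fin.rev c ≠ Fin.rev j := by
      intro h'
      rw [Fin.ext_iff, val_rev] at h'
      rw [val_rev] at hrc
      omega
    rw [if_neg hne] at h
    rw [Finset.sum_eq_single (Fin.rev c)] at h
    · rw [hrow (Fin.rev c) (Fin.rev c) hrc, if_pos rfl, one_mul, Fin.rev_rev] at h
      exact h
    · intro k _ hk
      rw [hrow (Fin.rev c) k hrc, if_neg (Ne.symm hk), zero_mul]
    · intro h'; exact absurd (Finset.mem_univ _) h'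
  -- the sum `S`
  set S : F := ∑ c, W c * W (Fin.rev c) with hS
  have hsumS : ∑ c, mat u j c * W (Fin.rev c) = S := by
    apply Finset.sum_congr rfl
    intro c _
    by_cases hc : j < c ∧ c < Fin.rev j
    · rw [hWmid c hc.1 hc.2]
    · rw [hWrev0 c hc, mul_zero, mul_zero]
  -- the quadratic relation
  have hquad : 2 * mat u j (Fin.rev j) + S = 0 := by
    have h := unitary_rel_row (σ := RingHom.id F) (fun x => rfl) u j j
    rw [if_neg (ne_of_lt hj)] at h
    have hterm : ∀ c : Fin n, mat u j c * (RingHom.id F) (mat u j (Fin.rev c)) =
        (if c = j then mat u j (Fin.rev j) else 0) + (if c = Fin.rev j then mat u j (Fin.rev j) else 0)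
          + W c * W (Fin.rev c) := by
      intro c
      rw [RingHom.id_apply]
      by_cases h1 : c < j
      · rw [hF1 c h1, zero_mul, if_neg (ne_of_lt h1), if_neg (ne_of_lt (lt_trans h1 hj)),
          hW1 c (le_of_lt h1)]
        ring
      · by_cases h3 : c = j
        · subst h3
          rw [hudiag, one_mul, if_pos rfl, if_neg (ne_of_lt hj), hW1 c (le_refl _)]
          ring
        · have h4 : j < c := lt_of_le_of_ne (not_lt.mp h1) (Ne.symm h3)
          by_cases h5 : c < Fin.rev j
          · have h6 : j < Fin.rev c := by
              rw [Fin.lt_def, val_rev]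
              rw [Fin.lt_def, val_rev] at h5
              have := c.2
              omega
            have h7 : Fin.rev c < Fin.rev j := by
              rw [Fin.lt_def, val_rev, val_rev]
              rw [Fin.lt_def] at h4
              have := c.2
              omega
            rw [if_neg h3, if_neg (ne_of_lt h5), hWmid c h4 h5, hWmid _ h6 h7]
            ring
          · by_cases h6 : c = Fin.rev j
            · subst h6
              rw [Fin.rev_rev, hudiag, mul_one, if_neg h3, if_pos rfl, hW2 _ (le_refl _)]
              ring
            · have h7 : Fin.rev j < c := lt_of_le_of_ne (not_lt.mp h5) (Ne.symm h6)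
              rw [hF3 c h7, zero_mul, if_neg h3, if_neg h6, hW2 c (le_of_lt h7)]
              ring
    rw [Finset.sum_congr rfl (fun c _ => hterm c), Finset.sum_add_distrib, Finset.sum_add_distrib,
      Finset.sum_ite_eq' Finset.univ j, Finset.sum_ite_eq' Finset.univ (Fin.rev j),
      if_pos (Finset.mem_univ _), if_pos (Finset.mem_univ _)] at h
    rw [← h, hS]
    ring
  refine ⟨W, hW1, hW2, ?_⟩
  intro r hr
  constructor
  · -- `r` is upper unitriangular
    rw [mem_Usub_iff]
    constructor
    · intro a b hab
      rw [hr, sgMat_apply, if_neg (ne_of_gt hab)]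
      have e1 : (if a = j then W b else 0) = 0 := by
        by_cases h : a = j
        · rw [if_pos h, hW1 b (le_of_lt (h ▸ hab))]
        · rw [if_neg h]
      have e2 : (if b = Fin.rev j then W (Fin.rev a) else 0) = 0 := by
        by_cases h : b = Fin.rev j
        · rw [if_pos h]
          apply hW1
          rw [Fin.le_def, val_rev]
          rw [h, Fin.lt_def, val_rev] at hab
          have := a.2
          omega
        · rw [if_neg h]
      have e3 : ¬ (a = j ∧ b = Fin.rev j) := by
        rintro ⟨h1, h3⟩
        rw [h1, h3] at hab
        exact absurd hab (not_lt.mpr (le_of_lt hj))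
      rw [e1, e2, if_neg e3]
      ring
    · intro a
      rw [hr, sgMat_apply, if_pos rfl]
      have e1 : (if a = j then W a else 0) = 0 := by
        by_cases h : a = j
        · rw [if_pos h, hW1 a (le_of_eq h)]
        · rw [if_neg h]
      have e2 : (if a = Fin.rev j then W (Fin.rev a) else 0) = 0 := by
        by_cases h : a = Fin.rev j
        · rw [if_pos h, h, Fin.rev_rev, hW1 j (le_refl _)]
        · rw [if_neg h]
      have e3 : ¬ (a = j ∧ a = Fin.rev j) := by
        rintro ⟨h1, h3⟩
        rw [h1] at h3
        exact absurd h3 (ne_of_lt hj)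
      rw [e1, e2, if_neg e3]
      ring
  · -- the rows `≤ j` of `u * r⁻¹`
    intro a b ha
    have hinv : ∀ c : Fin n, mat r⁻¹ c b = sgMat j W (Fin.rev b) (Fin.rev c) := by
      intro c
      rw [inv_apply, RingHom.id_apply, hr]
    rw [mat_mul, Matrix.mul_apply]
    by_cases haj : a.val < j.val
    · -- rows above `j`
      rw [Finset.sum_eq_single a]
      · rw [hrow a a haj, if_pos rfl, one_mul, hinv, sgMat_apply]
        have hane : Fin.rev a ≠ Fin.rev j := by
          intro h'
          rw [Fin.ext_iff, val_rev, val_rev] at h'
          have := a.2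
          have := j.2
          omega
        have e0 : (if Fin.rev b = Fin.rev a then (1 : F) else 0) = if a = b then 1 else 0 := by
          by_cases h : a = b
          · rw [if_pos h, if_pos (by rw [h])]
          · rw [if_neg h, if_neg (fun h' => h (Fin.rev_injective h').symm)]
        have e1 : (if Fin.rev b = j then W (Fin.rev a) else 0) = 0 := by
          by_cases h : Fin.rev b = j
          · rw [if_pos h]
            apply hW2
            rw [Fin.le_def, val_rev, val_rev]
            omega
          · rw [if_neg h]
        rw [e0, e1, if_neg hane,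
          if_neg (fun h : Fin.rev b = j ∧ Fin.rev a = Fin.rev j => hane h.2)]
        ring
      · intro c _ hc
        rw [hrow a c haj, if_neg (Ne.symm hc), zero_mul]
      · intro h'; exact absurd (Finset.mem_univ _) h'
    · -- row `j`
      have haj' : a = j := by
        apply Fin.ext
        omega
      subst haj'
      by_cases hb : b = Fin.rev a
      · -- the corner entry
        subst hb
        rw [if_neg (ne_of_lt hj)]
        have hterm : ∀ c : Fin n, mat u a c * mat r⁻¹ c (Fin.rev a) =
            (if c = Fin.rev a then mat u a c else 0) + mat u a c * W (Fin.rev c)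
              - (if c = a then mat u a c * (2⁻¹ * S) else 0) := by
          intro c
          rw [hinv, sgMat_apply, Fin.rev_rev, if_pos rfl]
          have e0 : (if a = Fin.rev c then (1 : F) else 0) = if c = Fin.rev a then 1 else 0 := by
            by_cases h : c = Fin.rev a
            · rw [if_pos h, if_pos (by rw [h, Fin.rev_rev])]
            · rw [if_neg h, if_neg (fun h' => h (by rw [h', Fin.rev_rev]))]
          have e1 : (if Fin.rev c = Fin.rev a then W (Fin.rev a) else 0) = 0 := by
            rw [hW2 _ (le_refl _)]; simp
          have e2 : (if a = a ∧ Fin.rev c = Fin.rev a then 2⁻¹ * ∑ c, W c * W (Fin.rev c) else 0) =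
              if c = a then 2⁻¹ * S else 0 := by
            by_cases h : c = a
            · rw [if_pos h, if_pos ⟨rfl, by rw [h]⟩]
            · rw [if_neg h, if_neg (fun h' => h (Fin.rev_injective h'.2))]
          rw [e0, e1, e2]
          by_cases h : c = Fin.rev a
          · by_cases h' : c = a
            · rw [if_pos h, if_pos h', if_pos h, if_pos h']; ring
            · rw [if_pos h, if_neg h', if_pos h, if_neg h']; ring
          · by_cases h' : c = a
            · rw [if_neg h, if_pos h', if_neg h, if_pos h']; ring
            · rw [if_neg h, if_neg h', if_neg h, if_neg h']; ring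
        rw [Finset.sum_congr rfl (fun c _ => hterm c), Finset.sum_sub_distrib,
          Finset.sum_add_distrib, Finset.sum_ite_eq' Finset.univ (Fin.rev a),
          Finset.sum_ite_eq' Finset.univ a, if_pos (Finset.mem_univ _), if_pos (Finset.mem_univ _),
          hsumS, hudiag]
        have h2' : (2 : F) * 2⁻¹ = 1 := mul_inv_cancel₀ h2
        linear_combination (2⁻¹ : F) * hquad - (mat u a (Fin.rev a) + S) * h2'
      · -- the other entries of row `j`
        have hbne : Fin.rev b ≠ a := by
          intro h'
          apply hb
          rw [← h', Fin.rev_rev]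
        have hterm : ∀ c : Fin n, mat u a c * mat r⁻¹ c b =
            (if c = b then mat u a c else 0) - (if c = a then mat u a c * W b else 0) := by
          intro c
          rw [hinv, sgMat_apply, Fin.rev_rev, if_neg hbne,
            if_neg (fun h : Fin.rev b = a ∧ Fin.rev c = Fin.rev a => hbne h.1)]
          have e0 : (if Fin.rev b = Fin.rev c then (1 : F) else 0) = if c = b then 1 else 0 := by
            by_cases h : c = b
            · rw [if_pos h, if_pos (by rw [h])]
            · rw [if_neg h, if_neg (fun h' => h (Fin.rev_injective h').symm)]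
          have e1 : (if Fin.rev c = Fin.rev a then W b else 0) = if c = a then W b else 0 := by
            by_cases h : c = a
            · rw [if_pos h, if_pos (by rw [h])]
            · rw [if_neg h, if_neg (fun h' => h (Fin.rev_injective h'))]
          rw [e0, e1]
          by_cases h : c = b
          · by_cases h' : c = a
            · rw [if_pos h, if_pos h', if_pos h, if_pos h']; ring
            · rw [if_pos h, if_neg h', if_pos h, if_neg h']; ring
          · by_cases h' : c = a
            · rw [if_neg h, if_pos h', if_neg h, if_pos h']; ring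
            · rw [if_neg h, if_neg h', if_neg h, if_neg h']; ring
        rw [Finset.sum_congr rfl (fun c _ => hterm c), Finset.sum_sub_distrib,
          Finset.sum_ite_eq' Finset.univ b, Finset.sum_ite_eq' Finset.univ a,
          if_pos (Finset.mem_univ _), if_pos (Finset.mem_univ _), hudiag, one_mul]
        -- `u a b - W b = δ_{ab}`
        by_cases h1 : b < a
        · rw [hF1 b h1, hW1 b (le_of_lt h1), if_neg (ne_of_gt h1)]; ring
        · by_cases h3 : a = b
          · subst h3
            rw [hudiag, hW1 a (le_refl _), if_pos rfl]; ring
          · have h4 : a < b := lt_of_le_of_ne (not_lt.mp h1) h3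
            rw [if_neg h3]
            by_cases h5 : b < Fin.rev a
            · rw [hWmid b h4 h5]; ring
            · have h6 : Fin.rev a < b := lt_of_le_of_ne (not_lt.mp h5) (Ne.symm hb)
              rw [hF3 b h6, hW2 b (le_of_lt h6)]; ring

end Cfsg.Agent.Helper23.OddStSG3
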