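import Mathlib
import Cfsg.Agent.Helper45.OddBN.SgDefs

/-!
# Piece (SG5) of helper45's plan for S2547 (board #10585)

The induction: the upper unitriangular subgroup of `SO_n` lies in the commutator subgroup, from the
four hypotheses on Siegel elements.
-/

set_option autoImplicit false

namespace Cfsg.Agent.Helper23.OddStSG5

open Matrix Cfsg.Agent.Helper5.SuBN Cfsg.Agent.Helper45.OddBN

variable {F : Type*} [Field F] {n : ℕ}

theorem rowFix_mono {j k : ℕ} (hjk : k ≤ j) (g : SOJ n F) (h : RowFix j g) : RowFix k g :=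
  fun a b ha => h a b (lt_of_lt_of_le ha hjk)

/-- (SG5) the induction -/
theorem Usub_le_commutator_of
    (H1 : ∀ (j : Fin n), j < Fin.rev j → ∀ w : Fin n → F, (∀ b : Fin n, b ≤ j → w b = 0) →
      (∀ b : Fin n, Fin.rev j ≤ b → w b = 0) → IsUJ (RingHom.id F) (sgMat j w))
    (H2 : ∀ (j : Fin n), j < Fin.rev j → ∀ w : Fin n → F, (∀ b : Fin n, b ≤ j → w b = 0) →
      (∀ b : Fin n, Fin.rev j ≤ b → w b = 0) → ∀ r : SOJ n F, mat r = sgMat j w →
      r ∈ commutator (SOJ n F))
    (H3 : ∀ (j : Fin n), j < Fin.rev j → ∀ u : SOJ n F, u ∈ Usub n (RingHom.id F) →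
      RowFix j.val u →
      ∃ w : Fin n → F, (∀ b : Fin n, b ≤ j → w b = 0) ∧ (∀ b : Fin n, Fin.rev j ≤ b → w b = 0) ∧
        ∀ r : SOJ n F, mat r = sgMat j w →
          r ∈ Usub n (RingHom.id F) ∧ RowFix (j.val + 1) (u * r⁻¹))
    (H4 : ∀ u : SOJ n F, u ∈ Usub n (RingHom.id F) → RowFix (n / 2) u → u = 1) :
    Usub n (RingHom.id F) ≤ commutator (SOJ n F) := by
  -- induction on `d = n / 2 - j`
  have key : ∀ d : ℕ, ∀ j : ℕ, n / 2 ≤ j + d → ∀ u : SOJ n F, u ∈ Usub n (RingHom.id F) →
      RowFix j u → u ∈ commutator (SOJ n F) := by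
    intro d
    induction d with
    | zero =>
      intro j hj u hu hrow
      rw [H4 u hu (rowFix_mono (by omega) u hrow)]
      exact Subgroup.one_mem _
    | succ d ih =>
      intro j hj u hu hrow
      by_cases hjn : n / 2 ≤ j
      · rw [H4 u hu (rowFix_mono hjn u hrow)]
        exact Subgroup.one_mem _
      · have hjlt : j < n := by omega
        let jj : Fin n := ⟨j, hjlt⟩
        have hjrev : jj < Fin.rev jj := by
          rw [Fin.lt_def, val_rev]
          show j < n - 1 - j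
          omega
        obtain ⟨w, hw1, hw2, hw3⟩ := H3 jj hjrev u hu hrow
        obtain ⟨r, hr⟩ := exists_of_isUJ (H1 jj hjrev w hw1 hw2)
        have hrc : r ∈ commutator (SOJ n F) := H2 jj hjrev w hw1 hw2 r hr
        obtain ⟨hrU, hrow'⟩ := hw3 r hr
        have hur : u * r⁻¹ ∈ Usub n (RingHom.id F) :=
          Subgroup.mul_mem _ hu (Subgroup.inv_mem _ hrU)
        have h1 : u * r⁻¹ ∈ commutator (SOJ n F) := ih (j + 1) (by omega) (u * r⁻¹) hur hrow'
        have h2 : u = (u * r⁻¹) * r := by group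
        rw [h2]
        exact Subgroup.mul_mem _ h1 hrc
  intro u hu
  exact key (n / 2) 0 (by omega) u hu (fun a b ha => absurd ha (Nat.not_lt_zero _))

end Cfsg.Agent.Helper23.OddStSG5
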