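import Cfsg.Agent.Helper78.Olsson.Defs

/-! (REB) of helper78's WANTED #7662 (S4539, Olsson): change to a basic set with reduced Cartan
matrix. `exists_reduced_of` takes the Gauss reduction (RED) as a hypothesis. (helper23) -/

set_option autoImplicit false
set_option linter.style.haveILetI false
set_option linter.unusedSectionVars false
set_option linter.unusedVariables false

noncomputable section

namespace Cfsg.Agent.Helper23.Olsson

open Cfsg
open scoped ComplexConjugate
open Cfsg.Agent.S4426 (cut)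
open Cfsg.Agent.Helper78.Olsson

section HLevel

variable {H : Type*} [Group H] [Fintype H] {p : ℕ}

/-- `A x = 1` -/
theorem latData_AX {b : Set (IrrCharacter H)} (L : LatData p b) (i k : Fin 2) :
    ∑ θ : IrrCharacter H, L.A i θ * L.x θ k = if i = k then 1 else 0 := by
  have h1 : ∀ h : H, L.φ i h =
      ∑ k : Fin 2, ((∑ θ : IrrCharacter H, L.A i θ * L.x θ k : ℤ) : ℂ) * L.φ k h := by
    intro h
    rw [L.hA i h, Fin.sum_univ_two]
    push_cast
    rw [Finset.sum_mul, Finset.sum_mul, ← Finset.sum_add_distrib]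
    apply Finset.sum_congr rfl
    intro θ _
    by_cases hθ : θ ∈ b
    · rw [L.hx θ hθ h]
      ring
    · rw [L.hA0 i θ hθ]
      simp
  have h2 := Fintype.linearIndependent_iff.1 L.hli
    (fun k => ((∑ θ : IrrCharacter H, L.A i θ * L.x θ k : ℤ) : ℂ) - if i = k then 1 else 0) ?_ k
  · have h3 : ((∑ θ : IrrCharacter H, L.A i θ * L.x θ k : ℤ) : ℂ) =
        ((if i = k then 1 else 0 : ℤ) : ℂ) := by
      rw [sub_eq_zero] at h2
      rw [h2]
      split_ifs <;> simp
    exact_mod_cast h3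
  · funext h
    simp only [Finset.sum_apply, Pi.smul_apply, smul_eq_mul, Pi.zero_apply, sub_mul]
    rw [Finset.sum_sub_distrib, ← h1 h]
    simp [ite_mul]

/-- the Cartan form is positive definite -/
theorem latData_quad_pos {b : Set (IrrCharacter H)} (L : LatData p b) (v : Fin 2 → ℤ)
    (hv : v ≠ 0) : 0 < ∑ θ : IrrCharacter H, (∑ i : Fin 2, L.x θ i * v i) ^ 2 := by
  by_contra hcon
  have hsum : ∑ θ : IrrCharacter H, (∑ i : Fin 2, L.x θ i * v i) ^ 2 = 0 :=
    le_antisymm (not_lt.1 hcon) (Finset.sum_nonneg (fun θ _ => sq_nonneg _))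
  have h0 : ∀ θ : IrrCharacter H, ∑ i : Fin 2, L.x θ i * v i = 0 := by
    intro θ
    have := (Finset.sum_eq_zero_iff_of_nonneg (fun θ _ => sq_nonneg _)).1 hsum θ
      (Finset.mem_univ _)
    exact (pow_eq_zero_iff two_ne_zero).1 this
  apply hv
  funext i
  have h1 : v i = ∑ k : Fin 2, (∑ θ : IrrCharacter H, L.A i θ * L.x θ k) * v k := by
    simp only [latData_AX L i]
    simp [ite_mul]
  rw [h1]
  simp only [Finset.sum_mul]
  rw [Finset.sum_comm]
  apply Finset.sum_eq_zero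
  intro θ _
  have h2 : ∑ k : Fin 2, L.A i θ * L.x θ k * v k = L.A i θ * ∑ k : Fin 2, L.x θ k * v k := by
    rw [Finset.mul_sum]
    apply Finset.sum_congr rfl
    intro k _
    ring
  rw [h2, h0 θ, mul_zero]

theorem latData_C_apply {b : Set (IrrCharacter H)} (L : LatData p b) (i j : Fin 2) :
    L.C i j = ∑ θ : IrrCharacter H, L.x θ i * L.x θ j := rfl

theorem latData_C_symm {b : Set (IrrCharacter H)} (L : LatData p b) : L.C 0 1 = L.C 1 0 := by
  rw [latData_C_apply, latData_C_apply]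
  apply Finset.sum_congr rfl
  intro θ _
  ring

theorem latData_C00_pos {b : Set (IrrCharacter H)} (L : LatData p b) : 0 < L.C 0 0 := by
  have h := latData_quad_pos L ![1, 0] (by
    intro h
    have := congrFun h 0
    simp at this)
  have h2 : ∑ θ : IrrCharacter H, (∑ i : Fin 2, L.x θ i * (![1, 0] : Fin 2 → ℤ) i) ^ 2 =
      L.C 0 0 := by
    rw [latData_C_apply]
    apply Finset.sum_congr rfl
    intro θ _
    rw [Fin.sum_univ_two]
    simp
    ring
  rwa [h2] at h

theorem latData_det_pos {b : Set (IrrCharacter H)} (L : LatData p b) :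
    0 < L.C 0 0 * L.C 1 1 - L.C 0 1 ^ 2 := by
  have ha := latData_C00_pos L
  have h := latData_quad_pos L ![-L.C 0 1, L.C 0 0] (by
    intro h
    have := congrFun h 1
    simp at this
    omega)
  have h2 : ∑ θ : IrrCharacter H,
      (∑ i : Fin 2, L.x θ i * (![-L.C 0 1, L.C 0 0] : Fin 2 → ℤ) i) ^ 2 =
      L.C 0 0 * (L.C 0 0 * L.C 1 1 - L.C 0 1 ^ 2) := by
    have e : ∀ θ : IrrCharacter H,
        (∑ i : Fin 2, L.x θ i * (![-L.C 0 1, L.C 0 0] : Fin 2 → ℤ) i) ^ 2 =
        L.C 0 1 ^ 2 * (L.x θ 0 * L.x θ 0) - 2 * L.C 0 0 * L.C 0 1 * (L.x θ 0 * L.x θ 1) +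
          L.C 0 0 ^ 2 * (L.x θ 1 * L.x θ 1) := by
      intro θ
      rw [Fin.sum_univ_two]
      simp
      ring
    rw [Finset.sum_congr rfl (fun θ _ => e θ), Finset.sum_add_distrib, Finset.sum_sub_distrib,
      ← Finset.mul_sum, ← Finset.mul_sum, ← Finset.mul_sum, ← latData_C_apply, ← latData_C_apply,
      ← latData_C_apply]
    ring
  rw [h2] at h
  exact (mul_pos_iff_of_pos_left ha).1 h

/-- change of basic set by a unimodular matrix -/
def rebase {b : Set (IrrCharacter H)} (L : LatData p b) (P Q : Matrix (Fin 2) (Fin 2) ℤ)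
    (hPQ : P * Q = 1) (hQP : Q * P = 1) : LatData p b where
  φ := fun j h => ∑ i : Fin 2, (Q j i : ℂ) * L.φ i h
  x := fun θ j => ∑ i : Fin 2, P i j * L.x θ i
  A := fun j θ => ∑ i : Fin 2, Q j i * L.A i θ
  hx0 := by
    intro θ hθ
    funext j
    simp [L.hx0 θ hθ]
  hA0 := by
    intro j θ hθ
    simp [L.hA0 _ θ hθ]
  hx := by
    intro θ hθ h
    have e00 := congrFun (congrFun hPQ 0) 0
    have e01 := congrFun (congrFun hPQ 0) 1
    have e10 := congrFun (congrFun hPQ 1) 0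
    have e11 := congrFun (congrFun hPQ 1) 1
    simp only [Matrix.mul_apply, Fin.sum_univ_two, Matrix.one_apply] at e00 e01 e10 e11
    simp at e00 e01 e10 e11
    have c00 : (P 0 0 : ℂ) * Q 0 0 + P 0 1 * Q 1 0 = 1 := by exact_mod_cast e00
    have c01 : (P 0 0 : ℂ) * Q 0 1 + P 0 1 * Q 1 1 = 0 := by exact_mod_cast e01
    have c10 : (P 1 0 : ℂ) * Q 0 0 + P 1 1 * Q 1 0 = 0 := by exact_mod_cast e10
    have c11 : (P 1 0 : ℂ) * Q 0 1 + P 1 1 * Q 1 1 = 1 := by exact_mod_cast e11
    rw [L.hx θ hθ h]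
    simp only [Fin.sum_univ_two]
    push_cast
    linear_combination (-(L.x θ 0 : ℂ) * L.φ 0 h) * c00 + (-(L.x θ 0 : ℂ) * L.φ 1 h) * c01 +
      (-(L.x θ 1 : ℂ) * L.φ 0 h) * c10 + (-(L.x θ 1 : ℂ) * L.φ 1 h) * c11
  hA := by
    intro j h
    simp only [Fin.sum_univ_two]
    rw [L.hA 0 h, L.hA 1 h, Finset.mul_sum, Finset.mul_sum, ← Finset.sum_add_distrib]
    apply Finset.sum_congr rfl
    intro θ _
    push_cast
    ring
  hli := by
    rw [Fintype.linearIndependent_iff]
    intro g hg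
    have e00 := congrFun (congrFun hQP 0) 0
    have e01 := congrFun (congrFun hQP 0) 1
    have e10 := congrFun (congrFun hQP 1) 0
    have e11 := congrFun (congrFun hQP 1) 1
    simp only [Matrix.mul_apply, Fin.sum_univ_two, Matrix.one_apply] at e00 e01 e10 e11
    simp at e00 e01 e10 e11
    have c00 : (Q 0 0 : ℂ) * P 0 0 + Q 0 1 * P 1 0 = 1 := by exact_mod_cast e00
    have c01 : (Q 0 0 : ℂ) * P 0 1 + Q 0 1 * P 1 1 = 0 := by exact_mod_cast e01
    have c10 : (Q 1 0 : ℂ) * P 0 0 + Q 1 1 * P 1 0 = 0 := by exact_mod_cast e10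
    have c11 : (Q 1 0 : ℂ) * P 0 1 + Q 1 1 * P 1 1 = 1 := by exact_mod_cast e11
    have h1 := Fintype.linearIndependent_iff.1 L.hli
      (fun i => g 0 * (Q 0 i : ℂ) + g 1 * (Q 1 i : ℂ)) (by
        funext h
        have := congrFun hg h
        simp only [Fin.sum_univ_two, Finset.sum_apply, Pi.smul_apply, smul_eq_mul,
          Pi.zero_apply, Pi.add_apply] at this ⊢
        linear_combination this)
    have k0 := h1 0
    have k1 := h1 1
    intro j
    fin_cases j
    · show g 0 = 0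
      linear_combination (P 0 0 : ℂ) * k0 + (P 1 0 : ℂ) * k1 - g 0 * c00 - g 1 * c10
    · show g 1 = 0
      linear_combination (P 0 1 : ℂ) * k0 + (P 1 1 : ℂ) * k1 - g 0 * c01 - g 1 * c11

theorem latData_sum_bilin {b : Set (IrrCharacter H)} (L : LatData p b) (a b' c d : ℤ) :
    ∑ θ : IrrCharacter H, (a * L.x θ 0 + b' * L.x θ 1) * (c * L.x θ 0 + d * L.x θ 1) =
      a * c * L.C 0 0 + (a * d + b' * c) * L.C 0 1 + b' * d * L.C 1 1 := by
  rw [latData_C_apply, latData_C_apply, latData_C_apply, Finset.mul_sum, Finset.mul_sum,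
    Finset.mul_sum, ← Finset.sum_add_distrib, ← Finset.sum_add_distrib]
  apply Finset.sum_congr rfl
  intro θ _
  ring

theorem rebase_C {b : Set (IrrCharacter H)} (L : LatData p b) (P Q : Matrix (Fin 2) (Fin 2) ℤ)
    (hPQ : P * Q = 1) (hQP : Q * P = 1) :
    (rebase L P Q hPQ hQP).C = P.transpose * L.C * P := by
  ext i j
  rw [latData_C_apply]
  show ∑ θ : IrrCharacter H, (∑ k : Fin 2, P k i * L.x θ k) * (∑ k : Fin 2, P k j * L.x θ k) = _
  simp only [Fin.sum_univ_two]
  rw [latData_sum_bilin]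
  simp only [Matrix.mul_apply, Matrix.transpose_apply, Fin.sum_univ_two]
  rw [← latData_C_symm L]
  ring

/-- (REB), with the Gauss reduction (RED) as a hypothesis -/
theorem exists_reduced_of
    (hRED : ∀ (C : Matrix (Fin 2) (Fin 2) ℤ), C 0 1 = C 1 0 → 0 < C 0 0 →
      0 < C 0 0 * C 1 1 - C 0 1 ^ 2 →
      ∃ P Q : Matrix (Fin 2) (Fin 2) ℤ, P * Q = 1 ∧ Q * P = 1 ∧
        IsReduced (P.transpose * C * P) ∧ 0 < (P.transpose * C * P) 0 0)
    {b : Set (IrrCharacter H)} (L : LatData p b) :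
    ∃ L' : LatData p b, IsReduced L'.C ∧ 0 < L'.C 0 0 := by
  obtain ⟨P, Q, hPQ, hQP, hred, hpos⟩ :=
    hRED L.C (latData_C_symm L) (latData_C00_pos L) (latData_det_pos L)
  refine ⟨rebase L P Q hPQ hQP, ?_, ?_⟩
  · rw [rebase_C]
    exact hred
  · rw [rebase_C]
    exact hpos

end HLevel

end Cfsg.Agent.Helper23.Olsson

end
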