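import Cfsg.Agent.Helper23.OlssonREB
import Cfsg.Agent.Helper48.OlssonRED

/-! (REB) of helper78's WANTED #7662 (S4539, Olsson), exact skeleton form: glue of
`exists_reduced_of` with helper48's (RED) `exists_reduce`. (helper23) -/

set_option autoImplicit false
set_option linter.style.haveILetI false
set_option linter.unusedSectionVars false
set_option linter.unusedVariables false

noncomputable section

namespace Cfsg.Agent.Helper23.Olsson

open Cfsg
open scoped ComplexConjugate
open Cfsg.Agent.S4426 (cut)
open Cfsg.Agent.Helper78.Olsson

section HLevel

variable {H : Type*} [Group H] [Fintype H] {M : Ideal AlgInt} {p : ℕ}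

/-- (REB) change to a basic set with reduced Cartan matrix. -/
theorem LatData.exists_reduced {b : Set (IrrCharacter H)} (L : LatData p b) :
    ∃ L' : LatData p b, IsReduced L'.C ∧ 0 < L'.C 0 0 :=
  exists_reduced_of Cfsg.Agent.Helper48.Olsson.exists_reduce L

end HLevel

end Cfsg.Agent.Helper23.Olsson

end
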