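import Mathlib.GroupTheory.GroupAction.Quotient
import Mathlib.GroupTheory.Index

set_option autoImplicit false

namespace Cfsg.Agent.Helper23

/-- If `d` divides the length of the orbit of every member of an invariant finite set, then `d`
divides its cardinality. (Same as helper66's lemma, restated here with light imports.) -/
theorem dvd_card_of_forall_dvd_index_stabilizer' {α β : Type*} [Group α] [MulAction α β] (d : ℕ) :
    ∀ (k : ℕ) (T : Finset β), T.card = k → (∀ g : α, ∀ t ∈ T, g • t ∈ T) →
      (∀ t ∈ T, d ∣ (MulAction.stabilizer α t).index) → d ∣ T.card := by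
  classical
  intro k
  induction k using Nat.strong_induction_on with
  | _ k ih =>
    intro T hk hinv hd
    rcases T.eq_empty_or_nonempty with rfl | ⟨t, ht⟩
    · simp
    · set O := T.filter (fun s => s ∈ MulAction.orbit α t) with hO
      set T' := T.filter (fun s => ¬ s ∈ MulAction.orbit α t) with hT'
      have hsplit : O.card + T'.card = T.card :=
        Finset.card_filter_add_card_filter_not (s := T) (fun s => s ∈ MulAction.orbit α t)
      have hOset : (O : Set β) = MulAction.orbit α t := by
        ext s
        simp only [hO, Finset.coe_filter, Set.mem_setOf_eq]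
        constructor
        · exact fun h => h.2
        · rintro ⟨g, rfl⟩
          exact ⟨hinv g t ht, ⟨g, rfl⟩⟩
      have hOcard : O.card = (MulAction.stabilizer α t).index := by
        rw [MulAction.index_stabilizer, ← hOset, Set.ncard_coe_finset]
      have htO : t ∈ O := by
        rw [hO, Finset.mem_filter]; exact ⟨ht, MulAction.mem_orbit_self t⟩
      have hlt : T'.card < k := by
        have : 0 < O.card := Finset.card_pos.mpr ⟨t, htO⟩
        omega
      have hinv' : ∀ g : α, ∀ s ∈ T', g • s ∈ T' := by
        intro g s hs
        rw [hT', Finset.mem_filter] at hs ⊢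
        refine ⟨hinv g s hs.1, fun hgs => hs.2 ?_⟩
        have h1 : MulAction.orbit α (g • s) = MulAction.orbit α t := MulAction.orbit_eq_iff.mpr hgs
        rw [MulAction.orbit_smul] at h1
        rw [← h1]
        exact MulAction.mem_orbit_self s
      have hd' : ∀ s ∈ T', d ∣ (MulAction.stabilizer α s).index := by
        intro s hs
        exact hd s (Finset.mem_filter.mp hs).1
      have h2 := ih T'.card hlt T' rfl hinv' hd'
      rw [← hsplit, hOcard]
      exact (Nat.dvd_add_right (hd t ht)).mpr h2

end Cfsg.Agent.Helper23
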