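import Cfsg.Agent.Helper86.PG63.Defs
import Cfsg.Agent.Helper6.Sz6

/-!
# Piece (CMP2) of helper86's plan for S3664 (board #9537): the elements `x13` and `h7` of `Sz(8)`
-/

set_option autoImplicit false

namespace Cfsg.Agent.Helper23.PG63

open Cfsg Cfsg.Agent.Helper86.PG63 Cfsg.Agent.Helper6

/-- the matrix of `x13` -/
def A13m : M4 :=
  !![F8.mk false false false, F8.mk false false false, F8.mk false false false, F8.mk true false false; F8.mk false false false, F8.mk false false false, F8.mk true false false, F8.mk false true false; F8.mk false false false, F8.mk true false false, F8.mk false true true, F8.mk false false false; F8.mk true false false, F8.mk false true false, F8.mk true true true, F8.mk true false true]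

/-- its square -/
def A13m2 : M4 :=
  !![F8.mk true false false, F8.mk false true false, F8.mk true true true, F8.mk true false true; F8.mk false true false, F8.mk true false true, F8.mk true true false, F8.mk true false false; F8.mk false false false, F8.mk false true true, F8.mk true true false, F8.mk false true false; F8.mk true false true, F8.mk false true true, F8.mk false false false, F8.mk false true false]

/-- its fourth power -/
def A13m4 : M4 :=
  !![F8.mk false true false, F8.mk false false true, F8.mk true true false, F8.mk true true false; F8.mk false true true, F8.mk false false true, F8.mk false false true, F8.mk false false false; F8.mk false true true, F8.mk true false true, F8.mk false false true, F8.mk false false true; F8.mk true true false, F8.mk true false true, F8.mk true true true, F8.mk true false true]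

/-- its eighth power -/
def A13m8 : M4 :=
  !![F8.mk true false true, F8.mk true false true, F8.mk true false true, F8.mk true false true; F8.mk true true true, F8.mk true false false, F8.mk true false false, F8.mk true true true; F8.mk false true true, F8.mk true true true, F8.mk false false true, F8.mk true false true; F8.mk true false true, F8.mk false false true, F8.mk false false false, F8.mk true true false]

/-- its twelfth power -/
def A13m12 : M4 :=
  !![F8.mk true false true, F8.mk false false false, F8.mk false true false, F8.mk true false false; F8.mk true true true, F8.mk false true true, F8.mk true false false, F8.mk false false false; F8.mk false true false, F8.mk true false false, F8.mk false false false, F8.mk false false false; F8.mk true false false, F8.mk false false false, F8.mk false false false, F8.mk false false false]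

theorem x13_coe : (x13 : M4) = A13m := by
  show tMat F8 * uMat F8.α 0 (F8.α ^ (2 ^ (1 + 1))) (ovF F8 1 F8.α 0) = A13m
  decide +kernel

theorem A13m_sq : A13m * A13m = A13m2 := by decide +kernel

theorem A13m2_sq : A13m2 * A13m2 = A13m4 := by decide +kernel

theorem A13m4_sq : A13m4 * A13m4 = A13m8 := by decide +kernel

theorem A13m8_mul : A13m8 * A13m4 = A13m12 := by decide +kernel

theorem A13m12_mul : A13m12 * A13m = 1 := by decide +kernel

theorem A13m_ne_one : A13m ≠ 1 := by decide +kernel

theorem A13m_pow : A13m ^ 13 = 1 := by
  have h2 : A13m ^ 2 = A13m2 := by rw [pow_two, A13m_sq]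
  have h4 : A13m ^ 4 = A13m4 := by
    rw [(pow_mul A13m 2 2 : A13m ^ 4 = (A13m ^ 2) ^ 2), h2, pow_two, A13m2_sq]
  have h8 : A13m ^ 8 = A13m8 := by
    rw [(pow_mul A13m 4 2 : A13m ^ 8 = (A13m ^ 4) ^ 2), h4, pow_two, A13m4_sq]
  have e : A13m ^ 13 = A13m ^ 8 * A13m ^ 4 * A13m ^ 1 := by
    rw [← pow_add A13m 8 4, ← pow_add A13m (8 + 4) 1]
  rw [e, h8, h4, pow_one, A13m8_mul, A13m12_mul]

/-- (CMP2) the elements `x13`, `h7` -/
theorem x13_facts : x13 ∈ SzG ∧ orderOf x13 = 13 := by
  constructor
  · exact (Cfsg.Sz F8 1).mul_mem (szT_mem F8.card_eq') (szU_mem F8.card_eq' _ _)
  · have : Fact (Nat.Prime 13) := ⟨by norm_num⟩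
    apply orderOf_eq_prime
    · apply Subtype.ext
      rw [Matrix.SpecialLinearGroup.coe_pow, x13_coe, A13m_pow]
      rfl
    · intro e
      have h := congrArg (fun g : SL4 => (g : M4)) e
      simp only [x13_coe] at h
      exact A13m_ne_one h

theorem αu_pow : αu ^ 7 = 1 := by
  apply Units.ext
  rw [Units.val_pow_eq_pow_val]
  exact F8.α_pow_seven

theorem αu_ne_one : αu ≠ 1 := by
  intro e
  have := congrArg Units.val e
  revert this
  show F8.α = 1 → False
  decide

theorem h7_facts : h7 ∈ SzG ∧ orderOf h7 = 7 := by
  constructor
  · exact szD_mem F8.card_eq' _
  · have : Fact (Nat.Prime 7) := ⟨by norm_num⟩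
    have h : orderOf αu = 7 := orderOf_eq_prime αu_pow αu_ne_one
    rw [← h]
    exact orderOf_injective (szDHom F8 1) szD_injective αu

end Cfsg.Agent.Helper23.PG63
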