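import Cfsg.Agent.Helper86.PG63.Defs
import Cfsg.Agent.Helper96.SpFour

/-!
# Piece (L0) of helper86's plan for S3664 (board #9537): `PSp(6, F) ≅ PSp(6, ZMod 3)` for `|F| = 3`
-/

set_option autoImplicit false

namespace Cfsg.Agent.Helper23.PG63

open Cfsg Cfsg.Agent.Helper86.PG63 Cfsg.Agent.Helper6

/-- a group isomorphism maps the centre onto the centre -/
theorem map_center_mulEquiv {G H : Type*} [Group G] [Group H] (e : G ≃* H) :
    (Subgroup.center G).map (e : G →* H) = Subgroup.center H := by
  ext y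
  constructor
  · rintro ⟨x, hx, rfl⟩
    rw [Subgroup.mem_center_iff]
    intro h
    have hx' := Subgroup.mem_center_iff.mp hx (e.symm h)
    have := congrArg e hx'
    rw [map_mul, map_mul, MulEquiv.apply_symm_apply] at this
    exact this
  · intro hy
    refine ⟨e.symm y, ?_, by simp⟩
    show e.symm y ∈ Subgroup.center G
    rw [Subgroup.mem_center_iff]
    intro g
    have hy' := Subgroup.mem_center_iff.mp hy (e g)
    apply e.injective
    rw [map_mul, map_mul, MulEquiv.apply_symm_apply]
    exact hy'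

/-- (L0) transfer to `ZMod 3` -/
theorem psp_equiv {F : Type*} [Field F] [Fintype F] (hF : Fintype.card F = 3) :
    Nonempty (Cfsg.PSp 3 F ≃* Cfsg.PSp 3 (ZMod 3)) := by
  have : Fact (Nat.Prime 3) := ⟨Nat.prime_three⟩
  have e : Matrix.symplecticGroup (Fin 3) F ≃* Matrix.symplecticGroup (Fin 3) (ZMod 3) :=
    Cfsg.Agent.Helper96.SpFour.symplecticMapEquiv
      (ZMod.ringEquivOfPrime F Nat.prime_three hF).symm
  exact ⟨QuotientGroup.congr _ _ e (map_center_mulEquiv e)⟩

end Cfsg.Agent.Helper23.PG63
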