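import Mathlib
import Cfsg.Prelude.Def_Classical
import Cfsg.Agent.Helper99.PGDefs
import Cfsg.Agent.Helper44.OmegaIndex
import Cfsg.Agent.Helper44.StdForms
import Cfsg.Agent.Helper44.PlusForm

/-!
# Piece (G1) of helper99's plan for S2474 (board #10721)

`|O_{2n+1}(q) : Ω_{2n+1}(q)| = 4`, so elements of odd order lie in `Ω`.
-/

set_option autoImplicit false
set_option linter.unusedSimpArgs false

universe u

namespace Cfsg.Agent.Helper23.PG

open Module Matrix Cfsg.Agent.Helper99.PG Cfsg.Agent.Helper44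

variable {F : Type u} [Field F]

/-- nondegeneracy of the standard odd-dimensional form (direct proof on the coordinate vectors) -/
theorem nondegenerate_oddForm_pg (h2 : (2 : F) ≠ 0) (d : ℕ) :
    (QuadraticMap.polarBilin (Cfsg.Agent.Helper44.oddForm d F)).Nondegenerate := by
  classical
  have hrefl : (QuadraticMap.polarBilin (Cfsg.Agent.Helper44.oddForm d F)).IsRefl := by
    intro x y hxy
    rw [QuadraticMap.polarBilin_apply_apply] at hxy ⊢
    rw [QuadraticMap.polar_comm]
    exact hxy
  refine (LinearMap.IsRefl.nondegenerate_iff_separatingLeft hrefl).mpr ?_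
  intro x hx
  have hx' : ∀ y, QuadraticMap.polar (Cfsg.quadFormOdd d F) x y = 0 := by
    intro y
    have := hx y
    rwa [QuadraticMap.polarBilin_apply_apply] at this
  funext j
  rcases j with ⟨⟩ | i | i
  · have h1 := hx' (Pi.single (Sum.inl ()) 1)
    rw [Cfsg.Agent.Helper44.polar_quadFormOdd, Cfsg.Agent.Helper44.polar_quadFormPlus] at h1
    simp only [Function.comp_apply, Pi.single_apply, reduceCtorEq, if_false, mul_zero, zero_mul,
      add_zero, Finset.sum_const_zero, if_true, mul_one] at h1
    rcases mul_eq_zero.mp h1 with h | h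
    · exact absurd h h2
    · exact h
  · have h1 := hx' (Pi.single (Sum.inr (Sum.inr i)) 1)
    rw [Cfsg.Agent.Helper44.polar_quadFormOdd, Cfsg.Agent.Helper44.polar_quadFormPlus] at h1
    simp only [Function.comp_apply, Pi.single_apply, Sum.inr.injEq, reduceCtorEq, if_false,
      mul_zero, zero_mul, add_zero, zero_add, mul_ite, mul_one, ite_mul, one_mul,
      Finset.sum_ite_eq, Finset.mem_univ, if_true] at h1
    simpa using h1
  · have h1 := hx' (Pi.single (Sum.inr (Sum.inl i)) 1)
    rw [Cfsg.Agent.Helper44.polar_quadFormOdd, Cfsg.Agent.Helper44.polar_quadFormPlus] at h1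
    simp only [Function.comp_apply, Pi.single_apply, Sum.inr.injEq, Sum.inl.injEq, reduceCtorEq,
      if_false, mul_zero, zero_mul, add_zero, zero_add, mul_ite, mul_one, ite_mul, one_mul,
      Finset.sum_ite_eq, Finset.mem_univ, if_true] at h1
    simpa using h1

variable [Fintype F]

/-- `|O_{2n+1}(q) : Ω_{2n+1}(q)| = 4` -/
theorem index_Omega_odd (h2 : (2 : F) ≠ 0) (n : ℕ) (hn : 1 ≤ n) :
    (Cfsg.Omega F (Cfsg.quadFormOdd n F)).index = 4 := by
  have hfr : 2 ≤ Module.finrank F (Unit ⊕ (Fin n ⊕ Fin n) → F) := by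
    rw [Module.finrank_fintype_fun_eq_card, Fintype.card_sum, Fintype.card_sum, Fintype.card_fin,
      Fintype.card_unit]
    omega
  have h := index_Omega_eq_four (Cfsg.Agent.Helper44.oddForm n F) h2
    (nondegenerate_oddForm_pg h2 n) hfr
  rwa [oddForm_coe] at h

/-- in a group with a normal subgroup of index `4`, elements of odd order lie in the subgroup -/
theorem mem_of_odd_order_of_index_four {G : Type*} [Group G] (N : Subgroup G) [N.Normal]
    (hN : N.index = 4) (x : G) (hx : Odd (orderOf x)) : x ∈ N := by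
  have h1 : orderOf (QuotientGroup.mk' N x) ∣ orderOf x := orderOf_map_dvd _ x
  have h2 : orderOf (QuotientGroup.mk' N x) ∣ 4 := by
    have := orderOf_dvd_natCard (QuotientGroup.mk' N x)
    rwa [← Subgroup.index_eq_card, hN] at this
  have h3 : orderOf (QuotientGroup.mk' N x) ∣ Nat.gcd (orderOf x) 4 := Nat.dvd_gcd h1 h2
  have h4 : Nat.gcd (orderOf x) 4 = 1 := by
    have : Nat.Coprime (orderOf x) (2 ^ 2) := Nat.Coprime.pow_right 2 hx.coprime_two_right
    exact this
  rw [h4, Nat.dvd_one, orderOf_eq_one_iff] at h3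
  exact (QuotientGroup.eq_one_iff x).mp h3

/-- (G1) elements of odd order lie in `Ω` -/
theorem mem_Omega_of_odd_order (h2 : (2 : F) ≠ 0) (n : ℕ) (hn : 1 ≤ n) (x : OOdd n F)
    (hx : Odd (orderOf x)) : x ∈ Cfsg.Omega F (Cfsg.quadFormOdd n F) :=
  mem_of_odd_order_of_index_four _ (index_Omega_odd h2 n hn) x hx

end Cfsg.Agent.Helper23.PG
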