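import Mathlib
import Cfsg.Prelude.Def_Classical
import Cfsg.Agent.Helper99.PGDefs
import Cfsg.Agent.Helper23.PGG1

/-!
# Piece (G2) of helper99's plan for S2474 (board #10721)

An element of order `2s` of `Ω_{2n+1}(q)` is the same as a commuting pair (order `s`, involution in
`Ω`).
-/

set_option autoImplicit false

universe u

namespace Cfsg.Agent.Helper23.PG

open Module Matrix Cfsg.Agent.Helper99.PG Cfsg.Agent.Helper44

variable {F : Type u} [Field F] [Fintype F]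

/-- (G2) -/
theorem omega_two_mul_iff (h2 : (2 : F) ≠ 0) (n : ℕ) (hn : 1 ≤ n) (s : ℕ) (hs : s.Prime)
    (hs2 : s ≠ 2) :
    (∃ x : OOdd n F, x ∈ Cfsg.Omega F (Cfsg.quadFormOdd n F) ∧ orderOf x = 2 * s) ↔
    ∃ a t : OOdd n F, Commute a t ∧ orderOf a = s ∧ orderOf t = 2 ∧
      t ∈ Cfsg.Omega F (Cfsg.quadFormOdd n F) := by
  have hsodd : Odd s := hs.odd_of_ne_two hs2
  have hcop : Nat.Coprime s 2 := hsodd.coprime_two_right
  constructor
  · rintro ⟨x, hxΩ, hx⟩
    refine ⟨x ^ 2, x ^ s, (Commute.refl x).pow_pow 2 s, ?_, ?_, Subgroup.pow_mem _ hxΩ s⟩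
    · rw [orderOf_pow' x (by norm_num), hx, Nat.gcd_mul_right_left,
        Nat.mul_div_cancel_left s (by norm_num)]
    · rw [orderOf_pow' x hs.ne_zero, hx, Nat.gcd_mul_left_left]
      exact Nat.mul_div_cancel 2 hs.pos
  · rintro ⟨a, t, hc, ha, ht, htΩ⟩
    have haΩ : a ∈ Cfsg.Omega F (Cfsg.quadFormOdd n F) :=
      mem_Omega_of_odd_order h2 n hn a (by rw [ha]; exact hsodd)
    refine ⟨a * t, Subgroup.mul_mem _ haΩ htΩ, ?_⟩
    rw [hc.orderOf_mul_eq_mul_orderOf_of_coprime (by rw [ha, ht]; exact hcop), ha, ht, mul_comm]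

end Cfsg.Agent.Helper23.PG
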