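import Cfsg.Agent.Helper6.SPrep2
import Cfsg.Agent.Helper60.SUG1
import Cfsg.Agent.Helper65.SUG3
import Cfsg.Agent.Helper73.SUR

/-! (A1c) of helper6's WANTED #8058 (S2347, smallest degree of Sp_2n(q), q odd): the Heisenberg
bound `le_finrank_range_fpr`, core form: the sibling pieces (S0b), (S0g), (S0h), (S0j) enter as
hypotheses typed as (instances of) the skeleton statements. (helper23) -/

set_option autoImplicit false

namespace Cfsg.Agent.Helper23.SPrep

open Matrix Cfsg.Agent.Helper13 Cfsg.Agent.Helper5 Cfsg.Agent.Helper6.SUrep Module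
open Cfsg.Agent.Helper6.SPrep

variable {F : Type*} [Field F] {m : ℕ}

local notation "Vec" => (Fin m ⊕ Fin m → F)
local notation "⟪" x ", " y "⟫" => Cfsg.sympForm m F x y

theorem eiW_congr_aux (W : Submodule F (Fin m ⊕ Fin m → F)) (u : Vec) (hu : u ∈ W) {y y' : Vec}
    (h : y = y') (hy : y ∈ W) (hy' : y' ∈ W) {c c' : F} (hc : c = c') :
    eiW W u y hu hy c = eiW W u y' hu hy' c' := by
  subst h
  subst hc
  rfl

section A1

variable [Fintype F] {M : Type*} [AddCommGroup M] [Module ℂ M]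

/-- (A1c) the Heisenberg bound, core form -/
theorem le_finrank_range_fpr_of [FiniteDimensional ℂ M]
    {W : Submodule F (Fin m ⊕ Fin m → F)} (hW : RelNondeg W) (k : ℕ)
    (hk : finrank F W = 2 * k) (ρ : Representation ℂ ↥(spW W) M) (u : Vec) (hu : u ∈ W)
    (hu0 : u ≠ 0) (ψ : AddChar F ℂ) (hψ : ψ ≠ 0)
    (hne : LinearMap.range (fpr (rootOp W ρ u hu) ψ) ≠ ⊥)
    -- (S0b)
    (hS0b : ∀ u' : Vec, u' ∈ W → ⟪u, u'⟫ = 1 → finrank F (hypCompl W u u') + 2 = finrank F W)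
    -- (S0g)
    (hS0g : ∀ (u' : Vec), u' ∈ W → ⟪u, u'⟫ = 1 → ∀ (y₀ : Vec) (hy₀ : y₀ ∈ hypCompl W u u'),
      y₀ ≠ 0 → ∀ c₀ s : F, ∃ (y₁ : Vec) (hy₁ : y₁ ∈ hypCompl W u u') (c₁ : F),
        eiW W u y₁ hu (hypCompl_le W u u' hy₁) c₁ * eiW W u y₀ hu (hypCompl_le W u u' hy₀) c₀ *
            (eiW W u y₁ hu (hypCompl_le W u u' hy₁) c₁)⁻¹ =
          eiW W u y₀ hu (hypCompl_le W u u' hy₀) c₀ * tvW W u hu s)
    -- (S0h)
    (hS0h : ∀ (y : Vec) (hy : y ∈ W), ⟪y, u⟫ = 0 → ∀ c s : F,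
      eiW W u y hu hy c * tvW W u hu s = tvW W u hu s * eiW W u y hu hy c)
    -- (S0j)
    (hS0j : ∀ (y y' : Vec) (hy : y ∈ W) (hy' : y' ∈ W), ⟪y, u⟫ = 0 → ⟪y', u⟫ = 0 →
      ∀ c c' : F, eiW W u y hu hy c * eiW W u y' hu hy' c' =
        eiW W u (y + y') hu (W.add_mem hy hy') (c + c' + ⟪y', y⟫)) :
    Fintype.card F ^ (k - 1) ≤ finrank ℂ (LinearMap.range (fpr (rootOp W ρ u hu) ψ)) := by
  classical
  obtain ⟨u', hu', huu'⟩ := exists_partner hW hu hu0
  obtain ⟨s₀, hs₀⟩ := AddChar.ne_zero_iff.1 hψ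
  have hs : ∀ x y : F, rootOp W ρ u hu (x + y) = rootOp W ρ u hu x * rootOp W ρ u hu y :=
    fun x y => rootOp_add W ρ u hu x y
  generalize hP : fpr (rootOp W ρ u hu) ψ = P at hne ⊢
  have hNT : Nontrivial (LinearMap.range P) := Submodule.nontrivial_iff_ne_bot.2 hne
  -- the centralizer of the root group
  let Q : Subgroup (spW W) := Subgroup.centralizer (Set.range (tvW W u hu))
  have hQ : ∀ g : Q, ∀ c, (g : spW W) * tvW W u hu c = tvW W u hu c * g := by
    intro g c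
    exact (Subgroup.mem_centralizer_iff.1 g.2 _ ⟨c, rfl⟩).symm
  have hcomm : ∀ g : Q, ρ (g : spW W) * P = P * ρ (g : spW W) := by
    intro g
    rw [← hP]
    apply Cfsg.Agent.Helper60.SUrep.commute_fpr
    intro c
    show ρ (g : spW W) * ρ (tvW W u hu c) = ρ (tvW W u hu c) * ρ (g : spW W)
    rw [← map_mul, ← map_mul, hQ g c]
  have hinv : ∀ g : Q, ∀ x ∈ LinearMap.range P, ρ (g : spW W) x ∈ LinearMap.range P := by
    intro g x hx
    obtain ⟨x', rfl⟩ := hx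
    refine ⟨ρ (g : spW W) x', ?_⟩
    have := congrArg (fun f : Module.End ℂ M => f x') (hcomm g)
    exact this.symm
  let ρN : Q →* Module.End ℂ (LinearMap.range P) :=
    { toFun := fun g => (ρ (g : spW W)).restrict (hinv g)
      map_one' := by
        apply LinearMap.ext
        intro x
        apply Subtype.ext
        show ρ ((1 : Q) : spW W) (x : M) = x
        rw [Subgroup.coe_one, map_one]
        rfl
      map_mul' := by
        intro g h
        apply LinearMap.ext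
        intro x
        apply Subtype.ext
        show ρ ((g * h : Q) : spW W) (x : M) = ρ (g : spW W) (ρ (h : spW W) (x : M))
        rw [Subgroup.coe_mul, map_mul]
        rfl }
  have hscal : ∀ (c : F) (x : M), x ∈ LinearMap.range P → ρ (tvW W u hu c) x = ψ c • x := by
    intro c x hx
    obtain ⟨x', rfl⟩ := hx
    have := congrArg (fun f : Module.End ℂ M => f x')
      (Cfsg.Agent.Helper60.SUrep.mul_fpr' (rootOp W ρ u hu) hs c ψ)
    rw [hP] at this
    exact this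
  have htvQ : ∀ c, tvW W u hu c ∈ Q := by
    intro c
    rw [Subgroup.mem_centralizer_iff]
    rintro _ ⟨c', rfl⟩
    rw [← tvW_add, ← tvW_add, add_comm]
  have heiQ : ∀ (y : Vec) (c : F) (hy : y ∈ W) (hyu : ⟪y, u⟫ = 0), eiW W u y hu hy c ∈ Q := by
    intro y c hy hyu
    rw [Subgroup.mem_centralizer_iff]
    rintro _ ⟨c', rfl⟩
    exact (hS0h y hy hyu c c').symm
  have hρNtv : ∀ c, ρN ⟨tvW W u hu c, htvQ c⟩ =
      ψ c • (1 : Module.End ℂ (LinearMap.range P)) := by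
    intro c
    apply LinearMap.ext
    intro x
    apply Subtype.ext
    show ρ (tvW W u hu c) (x : M) = ψ c • (x : M)
    exact hscal c x x.2
  have hFY : Fintype ↥(hypCompl W u u') := Fintype.ofFinite _
  let x : ↥(hypCompl W u u') → Q := fun y =>
    ⟨eiW W u y.1 hu (hypCompl_le W u u' y.2) 0, heiQ _ _ _ y.2.2.1⟩
  have hG3 : ∀ y y' : ↥(hypCompl W u u'), y ≠ y' → ∃ (w : Q) (z : ℂ), z ≠ 1 ∧
      ρN (w * (x y * (x y')⁻¹) * w⁻¹) = z • ρN (x y * (x y')⁻¹) := by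
    intro y y' hne'
    have hy₀ : (y : Vec) - y' ∈ hypCompl W u u' := (hypCompl W u u').sub_mem y.2 y'.2
    have hy₀0 : (y : Vec) - y' ≠ 0 := by
      intro h
      apply hne'
      apply Subtype.ext
      exact sub_eq_zero.1 h
    have hg : ((x y * (x y')⁻¹ : Q) : spW W) =
        eiW W u ((y : Vec) - y') hu (hypCompl_le W u u' hy₀) (-⟪(y' : Vec), (y : Vec)⟫) := by
      rw [Subgroup.coe_mul, Subgroup.coe_inv, mul_inv_eq_iff_eq_mul]
      show eiW W u (y : Vec) hu (hypCompl_le W u u' y.2) 0 =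
        eiW W u ((y : Vec) - y') hu (hypCompl_le W u u' hy₀) (-⟪(y' : Vec), (y : Vec)⟫) *
          eiW W u (y' : Vec) hu (hypCompl_le W u u' y'.2) 0
      rw [hS0j _ _ _ _ hy₀.2.1 y'.2.2.1]
      apply eiW_congr_aux
      · abel
      · rw [sympForm_sub_right, sympForm_self]
        ring
    obtain ⟨y₁, hy₁, c₁, hconj⟩ := hS0g u' hu' huu' ((y : Vec) - y') hy₀ hy₀0
      (-⟪(y' : Vec), (y : Vec)⟫) s₀
    refine ⟨⟨eiW W u y₁ hu (hypCompl_le W u u' hy₁) c₁, heiQ _ _ _ hy₁.2.1⟩, ψ s₀, hs₀, ?_⟩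
    have hconjQ : (⟨eiW W u y₁ hu (hypCompl_le W u u' hy₁) c₁, heiQ _ _ _ hy₁.2.1⟩ : Q) *
          (x y * (x y')⁻¹) *
        (⟨eiW W u y₁ hu (hypCompl_le W u u' hy₁) c₁, heiQ _ _ _ hy₁.2.1⟩ : Q)⁻¹ =
        (x y * (x y')⁻¹) * ⟨tvW W u hu s₀, htvQ s₀⟩ := by
      apply Subtype.ext
      rw [Subgroup.coe_mul, Subgroup.coe_mul, Subgroup.coe_inv,
        Subgroup.coe_mul _ (x y * (x y')⁻¹), hg]
      exact hconj
    rw [hconjQ, map_mul, hρNtv, mul_smul_comm, mul_one]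
  have hcard := Cfsg.Agent.Helper65.SUrep.card_le_sq_finrank_of_conj ρN x hG3
  have h1 : Fintype.card ↥(hypCompl W u u') =
      Fintype.card F ^ (finrank F ↥(hypCompl W u u')) := by
    rw [Module.card_eq_pow_finrank (K := F) (V := ↥(hypCompl W u u'))]
  have h2 := hS0b u' hu' huu'
  have h3 : finrank F ↥(hypCompl W u u') = 2 * (k - 1) := by omega
  rw [h1, h3, mul_comm, pow_mul] at hcard
  exact (Nat.pow_le_pow_iff_left (by norm_num)).1 hcard

end A1

end Cfsg.Agent.Helper23.SPrep
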