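import Cfsg.Agent.Helper6.SPrep2
import Cfsg.Agent.Helper60.SUG1
import Cfsg.Agent.Helper65.SUG3
import Cfsg.Agent.Helper73.SUR

/-! (A3) of helper6's WANTED #8058 (S2347, smallest degree of Sp_2n(q), q odd): `exists_tv_fixZ_ne`,
core form: the sibling piece (A3c) `fixZ_eq_of_le` enters as a hypothesis typed as (an instance of)
the skeleton statement. (helper23) -/

set_option autoImplicit false

namespace Cfsg.Agent.Helper23.SPrep

open Matrix Cfsg.Agent.Helper13 Cfsg.Agent.Helper5 Cfsg.Agent.Helper6.SUrep Module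
open Cfsg.Agent.Helper6.SPrep

variable {F : Type*} [Field F] {m : ℕ}

local notation "Vec" => (Fin m ⊕ Fin m → F)
local notation "⟪" x ", " y "⟫" => Cfsg.sympForm m F x y

section A3

variable {M : Type*} [AddCommGroup M] [Module ℂ M]

/-- (A3a), proved here to keep the file self-contained -/
theorem map_fixZ_aux {W : Submodule F (Fin m ⊕ Fin m → F)} (ρ : Representation ℂ ↥(spW W) M)
    (g : spW W) (p : Vec) (hp : p ∈ W) (x : M) (hx : x ∈ fixZ W ρ p hp) :
    ρ g x ∈ fixZ W ρ (spMat g *ᵥ p) (spMat_mulVec_mem g hp) := by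
  intro c
  rw [← conj_tvW g p hp c, map_mul, map_mul, Module.End.mul_apply, Module.End.mul_apply,
    ← Module.End.mul_apply (ρ g⁻¹), ← map_mul, inv_mul_cancel, map_one, Module.End.one_apply, hx c]

/-- (A3), core form -/
theorem exists_tv_fixZ_ne_of [FiniteDimensional ℂ M] {W : Submodule F (Fin m ⊕ Fin m → F)}
    (ρ : Representation ℂ ↥(spW W) M)
    (hirr : ρ.IsIrreducible) (u u' : Vec) (hu : u ∈ W) (hu' : u' ∈ W) (huu' : ⟪u, u'⟫ = 1)
    (c₀ : F) (hc₀ : ρ (tvW W u hu c₀) ≠ 1) (hne : fixZ W ρ u hu ≠ ⊥)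
    -- (A3c)
    (h3c : (∀ (v : Vec) (hv : v ∈ hypCompl W u u'),
        fixZ W ρ u hu ≤ fixZ W ρ v (hypCompl_le W u u' hv)) →
      ∀ (p : Vec) (hp : p ∈ W), p ≠ 0 → fixZ W ρ p hp = fixZ W ρ u hu) :
    ∃ (v : Vec) (hv : v ∈ hypCompl W u u') (c : F) (x : M),
      x ∈ fixZ W ρ u hu ∧ ρ (tvW W v (hypCompl_le W u u' hv) c) x ≠ x := by
  by_contra hcon
  push Not at hcon
  have H : ∀ (v : Vec) (hv : v ∈ hypCompl W u u'),
      fixZ W ρ u hu ≤ fixZ W ρ v (hypCompl_le W u u' hv) := by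
    intro v hv x hx c
    exact hcon v hv c x hx
  have hall := h3c H
  have hu0 : u ≠ 0 := by
    intro h
    rw [h, sympForm_zero_left] at huu'
    exact zero_ne_one huu'
  have hinv : ∀ (g : spW W) ⦃x : M⦄, x ∈ fixZ W ρ u hu → ρ g x ∈ fixZ W ρ u hu := by
    intro g x hx
    have h1 := map_fixZ_aux ρ g u hu x hx
    have hgu0 : spMat g *ᵥ u ≠ 0 := by
      intro h
      have h2 := spMat_inv_mulVec g u
      rw [h, Matrix.mulVec_zero] at h2
      exact hu0 h2.symm
    rw [hall _ (spMat_mulVec_mem g hu) hgu0] at h1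
    exact h1
  let S : Subrepresentation ρ := ⟨fixZ W ρ u hu, hinv⟩
  rcases eq_bot_or_eq_top S with hS | hS
  · apply hne
    have : S.toSubmodule = (⊥ : Subrepresentation ρ).toSubmodule := by rw [hS]
    exact this
  · apply hc₀
    apply LinearMap.ext
    intro x
    have hx : x ∈ S.toSubmodule := by
      rw [hS]
      exact Submodule.mem_top
    exact hx c₀

end A3

end Cfsg.Agent.Helper23.SPrep
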