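import Cfsg.Agent.Helper6.SUrep3

/-! (A3) of helper6's WANTED #7278 (S2334/S2335, Landazuri-Seitz for SU_n): `exists_tv_fixZ_ne`,
core form: the sibling pieces (A3a) `map_fixZ`, (A3c) `fixZ_eq_of_le`, (A3e) `exists_fixZ_ne_bot`
enter as hypotheses typed as (instances of) the skeleton statements. (helper23) -/

set_option autoImplicit false

namespace Cfsg.Agent.Helper23.SUrep

open Matrix Cfsg.Agent.Helper13 Module
open Cfsg.Agent.Helper6.SUrep

variable {F : Type*} [Field F] [Fintype F] {q n : ℕ}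

local notation "⟪" x ", " y "⟫" => Cfsg.hermForm n F q x y

section A3

variable {M : Type*} [AddCommGroup M] [Module ℂ M]

/-- (A3), core form -/
theorem exists_tv_fixZ_ne_of [FiniteDimensional ℂ M] (hF : Fintype.card F = q ^ 2)
    {W : Submodule F (Fin n → F)}
    (ρ : Representation ℂ ↥(suW q W) M)
    (hirr : ρ.IsIrreducible)
    (u u' : Fin n → F) (huW : u ∈ W) (hu'W : u' ∈ W) (huu : ⟪u, u⟫ = 0) (hu'u' : ⟪u', u'⟫ = 0)
    (huu' : ⟪u, u'⟫ = 1) (c₀ : skewS hF) (hc₀ : ρ (tvW hF W u huW huu c₀) ≠ 1)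
    -- (A3a)
    (h3a : ∀ (g : suW q W) (p : Fin n → F) (hpW : p ∈ W) (hpp : ⟪p, p⟫ = 0) (m : M),
      m ∈ fixZ hF W ρ p hpW hpp →
      ρ g m ∈ fixZ hF W ρ (suMat (g : Cfsg.SU n F q) *ᵥ p) (suW_mulVec_mem hF g hpW)
        (suW_mulVec_iso g hpp))
    -- (A3c)
    (h3c : (∀ (v : Fin n → F) (hv : v ∈ hypCompl q W u u') (hvv : ⟪v, v⟫ = 0),
        fixZ hF W ρ u huW huu ≤ fixZ hF W ρ v (hypCompl_le W u u' hv) hvv) →
      ∀ (p : Fin n → F) (hpW : p ∈ W), p ≠ 0 → ∀ (hpp : ⟪p, p⟫ = 0),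
        fixZ hF W ρ p hpW hpp = fixZ hF W ρ u huW huu)
    -- (A3e)
    (h3e : Nontrivial M → ∃ (p : Fin n → F) (hpW : p ∈ W) (hpp : ⟪p, p⟫ = 0),
      p ≠ 0 ∧ fixZ hF W ρ p hpW hpp ≠ ⊥) :
    ∃ (v : Fin n → F) (hv : v ∈ hypCompl q W u u') (hvv : ⟪v, v⟫ = 0) (c : skewS hF) (m : M),
      m ∈ fixZ hF W ρ u huW huu ∧ ρ (tvW hF W v (hypCompl_le W u u' hv) hvv c) m ≠ m := by
  by_contra hcon
  push Not at hcon
  -- the hypothesis of (A3c)
  have H : ∀ (v : Fin n → F) (hv : v ∈ hypCompl q W u u') (hvv : ⟪v, v⟫ = 0),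
      fixZ hF W ρ u huW huu ≤ fixZ hF W ρ v (hypCompl_le W u u' hv) hvv := by
    intro v hv hvv m hm c
    exact hcon v hv hvv c m hm
  have hall := h3c H
  -- `u ≠ 0`
  have hu0 : u ≠ 0 := by
    intro h
    rw [h, hermForm_zero_left] at huu'
    exact zero_ne_one huu'
  -- `fixZ u` is a subrepresentation
  have hinv : ∀ (g : suW q W) ⦃m : M⦄, m ∈ fixZ hF W ρ u huW huu →
      ρ g m ∈ fixZ hF W ρ u huW huu := by
    intro g m hm
    have h1 := h3a g u huW huu m hm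
    have hgu0 : suMat (g : Cfsg.SU n F q) *ᵥ u ≠ 0 := by
      intro h
      have h2 := suMat_inv_mulVec (g : Cfsg.SU n F q) u
      rw [h, Matrix.mulVec_zero] at h2
      exact hu0 h2.symm
    rw [hall _ (suW_mulVec_mem hF g huW) hgu0 (suW_mulVec_iso g huu)] at h1
    exact h1
  let S : Subrepresentation ρ := ⟨fixZ hF W ρ u huW huu, hinv⟩
  have hnt : Nontrivial M := by
    by_contra h
    rw [not_nontrivial_iff_subsingleton] at h
    apply hc₀
    apply LinearMap.ext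
    intro m
    exact Subsingleton.elim _ _
  rcases eq_bot_or_eq_top S with hS | hS
  · -- `fixZ u = ⊥`: contradiction with (A3e)
    obtain ⟨p, hpW, hpp, hp0, hpne⟩ := h3e hnt
    apply hpne
    rw [hall p hpW hp0 hpp]
    have : S.toSubmodule = (⊥ : Subrepresentation ρ).toSubmodule := by rw [hS]
    exact this
  · -- `fixZ u = ⊤`: contradiction with `hc₀`
    apply hc₀
    apply LinearMap.ext
    intro m
    have hm : m ∈ S.toSubmodule := by
      rw [hS]
      exact Submodule.mem_top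
    exact hm c₀

end A3

end Cfsg.Agent.Helper23.SUrep
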