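import Cfsg.Agent.Helper65.SUA1c
import Cfsg.Agent.Helper73.SUG2
import Cfsg.Agent.Helper72.ReeC

/-! (A3e) of helper6's WANTED #7278 (S2334/S2335, Landazuri-Seitz for SU_n):
`exists_fixZ_ne_bot`: in Witt index at least two some root group has a non-zero fixed point.
(helper23) -/

set_option autoImplicit false

namespace Cfsg.Agent.Helper23.SUrep

open Matrix Cfsg.Agent.Helper13 Module
open Cfsg.Agent.Helper6.SUrep

section generic

variable {S : Type*} [AddCommGroup S] [Fintype S] {M : Type*} [AddCommGroup M] [Module ℂ M]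

theorem sum_fpr_eq_one (s : S → Module.End ℂ M) (hs0 : s 0 = 1) :
    ∑ ψ : AddChar S ℂ, fpr s ψ = 1 := by
  classical
  exact Cfsg.Agent.Helper72.ReeA.sum_fproj (fun ψ : AddChar S ℂ => ψ) s hs0
    (fun x => AddChar.sum_apply_eq_ite x)

theorem exists_fpr_apply_ne_zero (s : S → Module.End ℂ M) (hs0 : s 0 = 1) {m : M} (hm : m ≠ 0) :
    ∃ ψ : AddChar S ℂ, fpr s ψ m ≠ 0 := by
  by_contra hcon
  push Not at hcon
  apply hm
  have h1 := LinearMap.congr_fun (sum_fpr_eq_one s hs0) m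
  rw [LinearMap.sum_apply, Module.End.one_apply] at h1
  rw [← h1]
  exact Finset.sum_eq_zero (fun ψ _ => hcon ψ)

theorem fpr_mul_self_aux (s : S → Module.End ℂ M) (hs : ∀ x y, s (x + y) = s x * s y)
    (ψ : AddChar S ℂ) : fpr s ψ * fpr s ψ = fpr s ψ := by
  have hN : (Fintype.card S : ℂ) ≠ 0 := by
    have : 0 < Fintype.card S := Fintype.card_pos
    exact_mod_cast this.ne'
  have h1 : fpr s ψ * fpr s ψ =
      (Fintype.card S : ℂ)⁻¹ • ∑ x : S, ψ (-x) • (s x * fpr s ψ) := by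
    conv_lhs => rw [fpr, Cfsg.Agent.Helper6.ReeH.fproj]
    rw [smul_mul_assoc, Finset.sum_mul]
    congr 1
  rw [h1]
  have h2 : ∀ x : S, ψ (-x) • (s x * fpr s ψ) = fpr s ψ := by
    intro x
    rw [Cfsg.Agent.Helper65.SUrep.mul_fpr_aux s hs, smul_smul, ← AddChar.map_add_eq_mul,
      neg_add_cancel, AddChar.map_zero_eq_one, one_smul]
  rw [Finset.sum_congr rfl (fun x _ => h2 x), Finset.sum_const, Finset.card_univ, ← Nat.cast_smul_eq_nsmul ℂ,
    smul_smul, inv_mul_cancel₀ hN, one_smul]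

/-- the linear algebra core of (A3e) -/
theorem exists_common_eigvec_aux [FiniteDimensional ℂ M] [Nontrivial M]
    {A : Type*} [AddCommGroup A] [Fintype A]
    (s s' : S → Module.End ℂ M) (X : A → Module.End ℂ M)
    (hs : ∀ x y, s (x + y) = s x * s y) (hs0 : s 0 = 1)
    (hs' : ∀ x y, s' (x + y) = s' x * s' y) (hs'0 : s' 0 = 1)
    (hX : ∀ x y, X (x + y) = X x * X y) (hX0 : X 0 = 1)
    (hss' : ∀ c t, s' t * s c = s c * s' t)
    (hsX : ∀ c a, X a * s c = s c * X a)
    (hs'X : ∀ t a, X a * s' t = s' t * X a)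
    (hconj : ∀ a, a ≠ 0 → ∀ s0 : S, ∃ w w' : Module.End ℂ M, w' * w = 1 ∧
      (∀ c, w * s c = s c * w) ∧ w * X a * w' = X a * s s0)
    (hfix : ∀ m : M, (∀ c, s c m = m) → m = 0) :
    ∃ (ψ ψ' : AddChar S ℂ) (m : M), m ≠ 0 ∧ ψ ≠ 0 ∧ (∀ c, s c m = ψ c • m) ∧
      (∀ t, s' t m = ψ' t • m) ∧ (∀ a, X a m = m) := by
  classical
  obtain ⟨m0, hm0⟩ := exists_ne (0 : M)
  obtain ⟨ψ, hψm0⟩ := exists_fpr_apply_ne_zero s hs0 hm0
  have hmulfpr : ∀ c, s c * fpr s ψ = ψ c • fpr s ψ :=
    fun c => Cfsg.Agent.Helper65.SUrep.mul_fpr_aux s hs c ψ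
  have hψ : ψ ≠ 0 := by
    rintro rfl
    apply hψm0
    apply hfix
    intro c
    have := LinearMap.congr_fun (hmulfpr c) m0
    rw [Module.End.mul_apply, LinearMap.smul_apply, AddChar.zero_apply, one_smul] at this
    exact this
  set e := fpr s ψ with he
  have hee : e * e = e := fpr_mul_self_aux s hs ψ
  obtain ⟨s0, hs0'⟩ := AddChar.ne_zero_iff.1 hψ
  -- commutation with `e`
  have hXe : ∀ a, X a * e = e * X a := fun a =>
    Cfsg.Agent.Helper65.SUrep.commute_fpr_aux s (X a) (fun c => hsX c a) ψ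
  have hs'e : ∀ t, s' t * e = e * s' t := fun t =>
    Cfsg.Agent.Helper65.SUrep.commute_fpr_aux s (s' t) (fun c => hss' c t) ψ
  -- the traces
  have htr : ∀ a, a ≠ 0 → LinearMap.trace ℂ M (X a * e) = 0 := by
    intro a ha
    obtain ⟨w, w', hw'w, hwc, hwX⟩ := hconj a ha s0
    have hwe : w * e = e * w := Cfsg.Agent.Helper65.SUrep.commute_fpr_aux s w hwc ψ
    have h1 : LinearMap.trace ℂ M (w * X a * w' * e) = LinearMap.trace ℂ M (X a * e) := by
      rw [mul_assoc, mul_assoc, LinearMap.trace_mul_comm, mul_assoc, mul_assoc, ← hwe,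
        ← mul_assoc w', hw'w, one_mul]
    rw [hwX, mul_assoc, hmulfpr, mul_smul_comm, map_smul, smul_eq_mul] at h1
    have h2 : (ψ s0 - 1) * LinearMap.trace ℂ M (X a * e) = 0 := by linear_combination h1
    rcases mul_eq_zero.1 h2 with h3 | h3
    · exact absurd (sub_eq_zero.1 h3) hs0'
    · exact h3
  -- the projection on the fixed points of `X`
  set P0 := fpr X (0 : AddChar A ℂ) with hP0
  have hXP0 : ∀ b, X b * P0 = P0 := by
    intro b
    rw [hP0, Cfsg.Agent.Helper65.SUrep.mul_fpr_aux X hX b 0, AddChar.zero_apply, one_smul]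
  have heP0 : e * P0 = P0 * e :=
    Cfsg.Agent.Helper65.SUrep.commute_fpr_aux X e (fun a => (hXe a).symm) 0
  have hNA : (Fintype.card A : ℂ) ≠ 0 := by
    have : 0 < Fintype.card A := Fintype.card_pos
    exact_mod_cast this.ne'
  have hP0e : P0 * e ≠ 0 := by
    intro h0
    have h1 : LinearMap.trace ℂ M (P0 * e) = (Fintype.card A : ℂ)⁻¹ * LinearMap.trace ℂ M e := by
      rw [hP0, fpr, Cfsg.Agent.Helper6.ReeH.fproj, smul_mul_assoc, map_smul, smul_eq_mul,
        Finset.sum_mul, map_sum]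
      congr 1
      rw [Finset.sum_eq_single (0 : A)]
      · rw [neg_zero, AddChar.map_zero_eq_one, one_smul, hX0, one_mul]
      · intro a _ ha
        rw [AddChar.zero_apply, one_smul, htr a ha]
      · intro h
        exact absurd (Finset.mem_univ _) h
    rw [h0, map_zero, Cfsg.Agent.Helper72.ReeC.trace_idem e hee] at h1
    have h2 : (finrank ℂ (LinearMap.range e) : ℂ) = 0 := by
      rcases mul_eq_zero.1 h1.symm with h3 | h3
      · exact absurd (inv_eq_zero.1 h3) hNA
      · exact h3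
    have h3 : finrank ℂ (LinearMap.range e) = 0 := by exact_mod_cast h2
    have h4 : LinearMap.range e = ⊥ := Submodule.finrank_eq_zero.1 h3
    apply hψm0
    have h5 : e m0 ∈ LinearMap.range e := ⟨m0, rfl⟩
    rw [h4] at h5
    exact (Submodule.mem_bot ℂ).1 h5
  obtain ⟨m, hm⟩ : ∃ m, (P0 * e) m ≠ 0 := by
    by_contra hcon
    push Not at hcon
    apply hP0e
    apply LinearMap.ext
    intro m
    rw [hcon m, LinearMap.zero_apply]
  set m1 := (P0 * e) m with hm1
  have hem1 : e m1 = m1 := by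
    rw [hm1, ← Module.End.mul_apply, ← mul_assoc, heP0, mul_assoc, hee]
  have hXm1 : ∀ b, X b m1 = m1 := by
    intro b
    rw [hm1, ← Module.End.mul_apply, ← mul_assoc, hXP0]
  clear_value m1
  -- decompose under `s'`
  obtain ⟨ψ', hψ'm1⟩ := exists_fpr_apply_ne_zero s' hs'0 hm
  refine ⟨ψ, ψ', fpr s' ψ' m1, hψ'm1, hψ, ?_, ?_, ?_⟩
  · intro c
    have hefpr : e * fpr s' ψ' = fpr s' ψ' * e :=
      Cfsg.Agent.Helper65.SUrep.commute_fpr_aux s' e (fun t => (hs'e t).symm) ψ'
    have h1 : fpr s' ψ' m1 = e (fpr s' ψ' m1) := by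
      rw [← Module.End.mul_apply, hefpr, Module.End.mul_apply, hem1]
    rw [h1, ← Module.End.mul_apply, hmulfpr, LinearMap.smul_apply]
  · intro t
    rw [← Module.End.mul_apply, Cfsg.Agent.Helper65.SUrep.mul_fpr_aux s' hs' t ψ',
      LinearMap.smul_apply]
  · intro a
    have hXfpr : X a * fpr s' ψ' = fpr s' ψ' * X a :=
      Cfsg.Agent.Helper65.SUrep.commute_fpr_aux s' (X a) (fun t => hs'X t a) ψ'
    rw [← Module.End.mul_apply, hXfpr, Module.End.mul_apply, hXm1]

end generic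

variable {F : Type*} [Field F] [Fintype F] {q n : ℕ}

local notation "⟪" x ", " y "⟫" => Cfsg.hermForm n F q x y

omit [Fintype F] in
theorem tv_comm_tv_of_orth {u v : Fin n → F} (huv : ⟪u, v⟫ = 0) (hvu : ⟪v, u⟫ = 0) (c t : F) :
    Cfsg.unitaryTransvection n q v t * Cfsg.unitaryTransvection n q u c =
      Cfsg.unitaryTransvection n q u c * Cfsg.unitaryTransvection n q v t := by
  apply mat_ext_mulVec
  intro x
  rw [← Matrix.mulVec_mulVec, ← Matrix.mulVec_mulVec, unitaryTransvection_mulVec,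
    unitaryTransvection_mulVec, unitaryTransvection_mulVec, unitaryTransvection_mulVec]
  simp only [hermForm_add_left, hermForm_smul_left, huv, hvu, mul_zero, add_zero]
  abel

omit [Fintype F] in
theorem eichler_smul_comm_tv {u v : Fin n → F} (huv : ⟪u, v⟫ = 0) (hvu : ⟪v, u⟫ = 0)
    (hvv : ⟪v, v⟫ = 0) (a t : F) :
    eichler q u (a • v) 0 * Cfsg.unitaryTransvection n q v t =
      Cfsg.unitaryTransvection n q v t * eichler q u (a • v) 0 := by
  apply mat_ext_mulVec
  intro x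
  rw [← Matrix.mulVec_mulVec, ← Matrix.mulVec_mulVec, eichler_mulVec, eichler_mulVec,
    unitaryTransvection_mulVec, unitaryTransvection_mulVec]
  simp only [hermForm_add_left, hermForm_sub_left, hermForm_smul_left, hermForm_smul_right, huv,
    hvu, hvv, mul_zero, add_zero, sub_zero, zero_mul, zero_smul]
  abel

theorem tv_add_smul_eq (hF : Fintype.card F = q ^ 2) {u v : Fin n → F} (huu : ⟪u, u⟫ = 0)
    (huv : ⟪u, v⟫ = 0) (hvu : ⟪v, u⟫ = 0) (hvv : ⟪v, v⟫ = 0) (b t κ : F) (ht : t + t ^ q = 0) (hκ : b * b ^ q = κ) :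
    Cfsg.unitaryTransvection n q (u + b • v) t =
      Cfsg.unitaryTransvection n q u t * Cfsg.unitaryTransvection n q v (κ * t) *
        eichler q u ((t * b) • v) 0 := by
  have htq : t ^ q = -t := by linear_combination ht
  apply mat_ext_mulVec
  intro x
  rw [← Matrix.mulVec_mulVec, ← Matrix.mulVec_mulVec, eichler_mulVec,
    unitaryTransvection_mulVec, unitaryTransvection_mulVec, unitaryTransvection_mulVec]
  simp only [hermForm_add_left, hermForm_sub_left, hermForm_smul_left, hermForm_smul_right,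
    hermForm_add_right hF, huu, huv, hvu, hvv, mul_zero, add_zero, sub_zero, zero_mul, zero_smul,
    mul_pow, htq, ← hκ]
  module

section A3e

variable {M : Type*} [AddCommGroup M] [Module ℂ M]

/-- (A3e) in Witt index at least two, some root group has a non-zero fixed point -/
theorem exists_fixZ_ne_bot [FiniteDimensional ℂ M] [Nontrivial M]
    (hF : Fintype.card F = q ^ 2) {W : Submodule F (Fin n → F)}
    (hW : NonDeg q W) (hk : 4 ≤ finrank F W) (ρ : Representation ℂ ↥(suW q W) M) :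
    ∃ (p : Fin n → F) (hpW : p ∈ W) (hpp : ⟪p, p⟫ = 0), p ≠ 0 ∧ fixZ hF W ρ p hpW hpp ≠ ⊥ := by
  classical
  by_contra hcon
  push Not at hcon
  have hq := two_le_of_card_eq_sq hF
  obtain ⟨u, huW, hu0, huu⟩ :=
    Cfsg.Agent.Helper48.SUrep.exists_isotropic_ne_zero_in hF hW (by omega)
  obtain ⟨u', hu'W, hu'u', huu'⟩ := exists_hyperbolic_partner_in hF W hW huW hu0 huu
  have hND := nonDeg_hypCompl hF W hW huW hu'W huu hu'u' huu'
  have hfr := Cfsg.Agent.Helper48.SUrep.finrank_hypCompl hF W u u' huW hu'W huu hu'u' huu'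
  obtain ⟨v, hv, hv0, hvv⟩ :=
    Cfsg.Agent.Helper48.SUrep.exists_isotropic_ne_zero_in hF hND (by omega)
  have hvW : v ∈ W := hypCompl_le W u u' hv
  have hvu : ⟪v, u⟫ = 0 := hv.2.1
  have hvu' : ⟪v, u'⟫ = 0 := hv.2.2
  have huv : ⟪u, v⟫ = 0 := hermForm_eq_zero_symm hF hvu
  have hyu : ∀ a : F, ⟪a • v, u⟫ = 0 := by
    intro a
    rw [hermForm_smul_left, hvu, mul_zero]
  have hca : ∀ a : F, (0 : F) + 0 ^ q + ⟪a • v, a • v⟫ = 0 := by
    intro a
    rw [hermForm_smul_self v a hvv, zero_pow (by omega), add_zero, add_zero]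
  have hyW : ∀ a : F, a • v ∈ W := fun a => W.smul_mem a hvW
  have hyC : ∀ a : F, a • v ∈ hypCompl q W u u' := fun a => (hypCompl q W u u').smul_mem a hv
  -- the three families of operators
  set s : skewS hF → Module.End ℂ M := fun c => ρ (tvW hF W u huW huu c) with hs_def
  set s' : skewS hF → Module.End ℂ M := fun c => ρ (tvW hF W v hvW hvv c) with hs'_def
  set X : F → Module.End ℂ M :=
    fun a => ρ (eiW hF W u (a • v) 0 huW (hyW a) huu (hyu a) (hca a)) with hX_def
  have hs : ∀ x y, s (x + y) = s x * s y := by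
    intro x y
    show ρ (tvW hF W u huW huu (x + y)) = ρ (tvW hF W u huW huu x) * ρ (tvW hF W u huW huu y)
    rw [tvW_add, map_mul]
  have hs0 : s 0 = 1 := by
    show ρ (tvW hF W u huW huu 0) = 1
    rw [tvW_zero, map_one]
  have hs' : ∀ x y, s' (x + y) = s' x * s' y := by
    intro x y
    show ρ (tvW hF W v hvW hvv (x + y)) = ρ (tvW hF W v hvW hvv x) * ρ (tvW hF W v hvW hvv y)
    rw [tvW_add, map_mul]
  have hs'0 : s' 0 = 1 := by
    show ρ (tvW hF W v hvW hvv 0) = 1
    rw [tvW_zero, map_one]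
  have hX : ∀ x y, X (x + y) = X x * X y := by
    intro x y
    show ρ _ = ρ _ * ρ _
    rw [← map_mul]
    congr 1
    apply suW_ext
    show eichler q u ((x + y) • v) 0 = eichler q u (x • v) 0 * eichler q u (y • v) 0
    rw [eichler_mul hF 0 0 huu (hyu x) (hyu y), add_smul, hermForm_smul_left, hermForm_smul_right,
      hvv, mul_zero, mul_zero, add_zero, sub_zero]
  have hX0 : X 0 = 1 := by
    show ρ _ = 1
    rw [← map_one ρ]
    congr 1
    apply suW_ext
    show eichler q u ((0 : F) • v) 0 = suMat (1 : Cfsg.SU n F q)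
    rw [zero_smul, eichler_zero_zero hF, suMat_one]
  have hss' : ∀ c t, s' t * s c = s c * s' t := by
    intro c t
    show ρ _ * ρ _ = ρ _ * ρ _
    rw [← map_mul, ← map_mul]
    congr 1
    apply suW_ext
    show Cfsg.unitaryTransvection n q v t.1 * Cfsg.unitaryTransvection n q u c.1 =
      Cfsg.unitaryTransvection n q u c.1 * Cfsg.unitaryTransvection n q v t.1
    exact tv_comm_tv_of_orth huv hvu c.1 t.1
  have hsX : ∀ c a, X a * s c = s c * X a := by
    intro c a
    show ρ _ * ρ _ = ρ _ * ρ _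
    rw [← map_mul, ← map_mul]
    congr 1
    exact Cfsg.Agent.Helper48.SUrep.eiW_comm_tvW hF W u (a • v) 0 huW (hyW a) huu (hyu a) (hca a) c
  have hs'X : ∀ t a, X a * s' t = s' t * X a := by
    intro t a
    show ρ _ * ρ _ = ρ _ * ρ _
    rw [← map_mul, ← map_mul]
    congr 1
    apply suW_ext
    show eichler q u (a • v) 0 * Cfsg.unitaryTransvection n q v t.1 =
      Cfsg.unitaryTransvection n q v t.1 * eichler q u (a • v) 0
    exact eichler_smul_comm_tv huv hvu hvv a t.1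
  have hconj : ∀ a, a ≠ 0 → ∀ s0 : skewS hF, ∃ w w' : Module.End ℂ M, w' * w = 1 ∧
      (∀ c, w * s c = s c * w) ∧ w * X a * w' = X a * s s0 := by
    intro a ha s0
    have hy0 : a • v ≠ 0 := smul_ne_zero ha hv0
    obtain ⟨y₁, hy₁, c₁, hc₁, hconj⟩ := Cfsg.Agent.Helper65.SUrep.exists_eiW_conj hF hW u u' huW
      hu'W huu hu'u' huu' (a • v) (hyC a) hy0 0 (hca a) s0
    refine ⟨ρ (eiW hF W u y₁ c₁ huW (hypCompl_le W u u' hy₁) huu hy₁.2.1 hc₁),
      ρ (eiW hF W u y₁ c₁ huW (hypCompl_le W u u' hy₁) huu hy₁.2.1 hc₁)⁻¹, ?_, ?_, ?_⟩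
    · rw [← map_mul, inv_mul_cancel, map_one]
    · intro c
      show ρ _ * ρ _ = ρ _ * ρ _
      rw [← map_mul, ← map_mul]
      congr 1
      exact Cfsg.Agent.Helper48.SUrep.eiW_comm_tvW hF W u y₁ c₁ huW _ huu _ hc₁ c
    · show ρ _ * ρ _ * ρ _ = ρ _ * ρ _
      rw [← map_mul, ← map_mul, ← map_mul]
      congr 1
  have hfix : ∀ m : M, (∀ c, s c m = m) → m = 0 := by
    intro m hm
    have h1 : m ∈ fixZ hF W ρ u huW huu := hm
    rw [hcon u huW huu hu0] at h1
    exact (Submodule.mem_bot ℂ).1 h1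
  obtain ⟨ψ, ψ', m, hm0, hψ, hsm, hs'm, hXm⟩ :=
    exists_common_eigvec_aux s s' X hs hs0 hs' hs'0 hX hX0 hss' hsX hs'X hconj hfix
  have hψ' : ψ' ≠ 0 := by
    rintro rfl
    apply hm0
    have h1 : m ∈ fixZ hF W ρ v hvW hvv := by
      intro t
      have := hs'm t
      rw [AddChar.zero_apply, one_smul] at this
      exact this
    rw [hcon v hvW hvv hv0] at h1
    exact (Submodule.mem_bot ℂ).1 h1
  obtain ⟨κ, hκ, hκ0, hκψ⟩ :=
    Cfsg.Agent.Helper73.SUrep.exists_fixed_mul_char hF (-ψ) ψ' (neg_ne_zero.2 hψ) hψ'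
  obtain ⟨b, hb⟩ := exists_norm_eq_of_fixed hF hκ
  have hpW : u + b • v ∈ W := W.add_mem huW (hyW b)
  have hpp : ⟪u + b • v, u + b • v⟫ = 0 := by
    simp only [hermForm_add_left, hermForm_add_right hF, hermForm_smul_left, hermForm_smul_right,
      huu, huv, hvu, hvv, mul_zero, add_zero]
  have hp0 : u + b • v ≠ 0 := by
    intro h
    have h1 : ⟪u + b • v, u'⟫ = 1 := by
      rw [hermForm_add_left, hermForm_smul_left, huu', hvu', mul_zero, add_zero]
    rw [h, hermForm_zero_left] at h1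
    exact zero_ne_one h1
  have hbot := hcon (u + b • v) hpW hpp hp0
  apply hm0
  have hmem : m ∈ fixZ hF W ρ (u + b • v) hpW hpp := by
    intro t
    have hdec : tvW hF W (u + b • v) hpW hpp t =
        tvW hF W u huW huu t * tvW hF W v hvW hvv (mulSEquiv hF κ hκ hκ0 t) *
          eiW hF W u ((t.1 * b) • v) 0 huW (hyW _) huu (hyu _) (hca _) := by
      apply suW_ext
      show Cfsg.unitaryTransvection n q (u + b • v) t.1 =
        Cfsg.unitaryTransvection n q u t.1 * Cfsg.unitaryTransvection n q v (κ * t.1) *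
          eichler q u ((t.1 * b) • v) 0
      exact tv_add_smul_eq hF huu huv hvu hvv b t.1 κ t.2 hb
    rw [hdec, map_mul, map_mul, Module.End.mul_apply, Module.End.mul_apply]
    have h1 : ρ (eiW hF W u ((t.1 * b) • v) 0 huW (hyW _) huu (hyu _) (hca _)) m = m :=
      hXm (t.1 * b)
    have h2 : ρ (tvW hF W v hvW hvv (mulSEquiv hF κ hκ hκ0 t)) m =
        ψ' (mulSEquiv hF κ hκ hκ0 t) • m := hs'm _
    have h3 : ρ (tvW hF W u huW huu t) m = ψ t • m := hsm t
    rw [h1, h2, map_smul, h3, hκψ, smul_smul, AddChar.neg_apply, ← AddChar.map_add_eq_mul,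
      neg_add_cancel, AddChar.map_zero_eq_one, one_smul]
  rw [hbot] at hmem
  exact (Submodule.mem_bot ℂ).1 hmem

end A3e

end Cfsg.Agent.Helper23.SUrep
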