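import Mathlib

/-! (LUCAS) of helper46's WANTED #6989 (S2279): `choose_not_dvd` by a-fold Lucas. (helper23) -/
set_option autoImplicit false

namespace Cfsg.Agent.Helper23.Sln

/-- `C(p^a m + p^a - 1, p^a) ≡ m (mod p)` by `a`-fold Lucas -/
theorem choose_pow_modEq (p : ℕ) [Fact p.Prime] (a m : ℕ) :
    Nat.choose (p ^ a * m + (p ^ a - 1)) (p ^ a) ≡ m [MOD p] := by
  have hp : p.Prime := Fact.out
  induction a with
  | zero => simp [Nat.ModEq]
  | succ a ih =>
    have hpa : 0 < p ^ a := pos_of_ne_zero (pow_ne_zero _ hp.ne_zero)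
    have hN : p ^ (a + 1) * m + (p ^ (a + 1) - 1) = p * (p ^ a * m + (p ^ a - 1)) + (p - 1) := by
      have h1 : p ^ (a + 1) = p * p ^ a := by rw [pow_succ, mul_comm]
      rw [h1]
      have h2 : 1 ≤ p * p ^ a := Nat.one_le_iff_ne_zero.mpr (Nat.mul_ne_zero hp.ne_zero hpa.ne')
      have h3 : 1 ≤ p := hp.one_lt.le
      have h4 : p * (p ^ a * m + (p ^ a - 1)) = p * p ^ a * m + (p * p ^ a - p) := by
        rw [Nat.mul_add, Nat.mul_sub, mul_one, mul_assoc]
      rw [h4]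
      have h5 : p ≤ p * p ^ a := Nat.le_mul_of_pos_right p hpa
      omega
    have hmod : (p ^ (a + 1) * m + (p ^ (a + 1) - 1)) % p = p - 1 := by
      rw [hN, Nat.mul_add_mod]
      exact Nat.mod_eq_of_lt (Nat.sub_lt hp.pos one_pos)
    have hdiv : (p ^ (a + 1) * m + (p ^ (a + 1) - 1)) / p = p ^ a * m + (p ^ a - 1) := by
      rw [hN, Nat.mul_add_div hp.pos, Nat.div_eq_of_lt (Nat.sub_lt hp.pos one_pos), add_zero]
    have hkmod : p ^ (a + 1) % p = 0 := by
      rw [pow_succ]; exact Nat.mul_mod_left _ _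
    have hkdiv : p ^ (a + 1) / p = p ^ a := by
      rw [pow_succ]; exact Nat.mul_div_cancel _ hp.pos
    have hL := Choose.choose_modEq_choose_mod_mul_choose_div_nat (p := p)
      (n := p ^ (a + 1) * m + (p ^ (a + 1) - 1)) (k := p ^ (a + 1))
    rw [hmod, hdiv, hkmod, hkdiv, Nat.choose_zero_right, one_mul] at hL
    exact hL.trans ih

theorem choose_not_dvd (p : ℕ) [Fact p.Prime] (a n' : ℕ) (hn' : ¬ p ∣ n') :
    ¬ p ∣ Nat.choose (p ^ a * n' - 1 + p ^ a) (p ^ a * n' - 1) := by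
  have hp : p.Prime := Fact.out
  have hpa : 0 < p ^ a := pos_of_ne_zero (pow_ne_zero _ hp.ne_zero)
  have hn0 : 0 < n' := by
    rcases Nat.eq_zero_or_pos n' with h | h
    · subst h; exact absurd (dvd_zero p) hn'
    · exact h
  have hpos : 1 ≤ p ^ a * n' := Nat.one_le_iff_ne_zero.mpr (Nat.mul_ne_zero hpa.ne' hn0.ne')
  have hsym : Nat.choose (p ^ a * n' - 1 + p ^ a) (p ^ a * n' - 1) =
      Nat.choose (p ^ a * n' + (p ^ a - 1)) (p ^ a) := by
    rw [Nat.choose_symm_add]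
    congr 1
    omega
  rw [hsym]
  intro hdvd
  have h1 := choose_pow_modEq p a n'
  have h2 : Nat.choose (p ^ a * n' + (p ^ a - 1)) (p ^ a) ≡ 0 [MOD p] :=
    (Nat.modEq_zero_iff_dvd).mpr hdvd
  exact hn' ((Nat.modEq_zero_iff_dvd).mp (h1.symm.trans h2))

end Cfsg.Agent.Helper23.Sln
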