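import Cfsg.Agent.Helper19.SpBN.Basic

/-!
# Piece (P4) of helper19's plan for S2545 (board #8100): the double coset axiom `T3` of the
`(B, N)`-pair of `Sp_{2m}(K)`

`s B n ⊆ B s n B ∪ B n B` for a simple reflection `s = w_α(1)` and `n` in the monomial
subgroup; adapted from `Cfsg.Agent.Helper64.StCB.main_step`.
-/

set_option autoImplicit false

namespace Cfsg.Agent.Helper23.SpBNP4

open Matrix Cfsg.Agent.Helper96.StN Cfsg.Agent.Helper96.StC Cfsg.Agent.Helper29.StCM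
open Cfsg Cfsg.Agent.Helper6 Cfsg.Agent.Helper18 Cfsg.Agent.Helper19.Cox Cfsg.Agent.Helper19.Poinc
  Cfsg.Agent.Helper19.Stein Cfsg.Agent.Helper19.StBN
open Cfsg.Agent.Helper19.SpBN Cfsg.Agent.Helper64.StCB

universe u

variable {K : Type u} [Field K] {m : ℕ}

theorem U_le_B : U K m ≤ B K m := le_sup_left

theorem H_le_B : H K m ≤ B K m := le_sup_right

/-- (P4) -/
theorem T3 (hM : MonoData (XS K m) reflPerm cw) [Fintype K] {s : SpG K m}
    (hs : s ∈ simpleSet K m) {n : SpG K m} (hn : n ∈ Nsub (XS K m)) {b : SpG K m}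
    (hb : b ∈ B K m) :
    s * b * n ∈ DoubleCoset.doubleCoset (s * n) (B K m : Set (SpG K m)) (B K m) ∪
      DoubleCoset.doubleCoset n (B K m : Set (SpG K m)) (B K m) := by
  obtain ⟨k, k', hk, hkm, rfl⟩ := hs
  obtain ⟨u, hu, h, hh, rfl⟩ := (mem_B_iff hM b).mp hb
  have hX : SpRel (XS K m) := XS_spRel
  have hkk' : k ≠ k' := ne_of_rk_succ hk
  have hklt : rk k < rk k' := by omega
  obtain ⟨u₁, hu₁, a, rfl⟩ := Upos_decomp hX hk u hu
  have hn₁ : h * n ∈ Nsub (XS K m) := mul_mem (hM.Hsub_le_Nsub hh) hn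
  obtain ⟨π, p, hπ⟩ := hM.Nsub_isMono hn₁
  have ht : (1 : K) ≠ 0 := one_ne_zero
  set w := W (XS K m) k k' 1 with hw
  have hwN : w ∈ Nsub (XS K m) := W_mem_Nsub (XS K m) hkk' ht
  have hwmono : IsMono (XS K m) w (reflPerm k k') (cw k k' 1) := hM.mono k k' hkk' 1 ht
  have hu₂ : w * u₁ * w⁻¹ ∈ U K m := Ualpha_le (XS K m) k k' (W_conj_Ualpha hM hk ht u₁ hu₁)
  have hh₂ : w * h * w⁻¹ ∈ H K m := hM.conj_mem_Hsub hwN hh
  -- conjugating `x_α(b)` by a monomial element in good position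
  have key : ∀ (m' : SpG K m) (π' : Equiv.Perm (Fin m ⊕ Fin m)) (p' : Fin m ⊕ Fin m → K),
      IsMono (XS K m) m' π' p' → rk (π'⁻¹ k) < rk (π'⁻¹ k') → ∀ b : K,
      m'⁻¹ * XS K m k k' b * m' ∈ U K m := by
    intro m' π' p' h' hlt b
    have h2 := h'.inv.2 k k' hkk' b
    rw [inv_inv] at h2
    rw [h2]
    exact X_mem_UposC (XS K m) hlt _
  have hne : rk (π⁻¹ k) ≠ rk (π⁻¹ k') := fun e => hkk' (π⁻¹.injective (rk_injective e))
  rcases lt_or_gt_of_ne hne with hlt | hgt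
  · -- case A
    left
    rw [DoubleCoset.mem_doubleCoset]
    refine ⟨(w * u₁ * w⁻¹) * (w * h * w⁻¹), mul_mem (U_le_B hu₂) (H_le_B hh₂),
      (h * n)⁻¹ * XS K m k k' a * (h * n), U_le_B (key (h * n) π p hπ hlt a), ?_⟩
    group
  · -- case B
    have hm' : IsMono (XS K m) (w * (h * n)) (reflPerm k k' * π) _ := hwmono.mul hπ
    have hlt' : rk ((reflPerm k k' * π)⁻¹ k) < rk ((reflPerm k k' * π)⁻¹ k') := by
      have e1 : (reflPerm k k' * π)⁻¹ k = π⁻¹ k' := by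
        rw [_root_.mul_inv_rev, Equiv.Perm.mul_apply, reflPerm_inv_left hk]
      have e2 : (reflPerm k k' * π)⁻¹ k' = π⁻¹ k := by
        rw [_root_.mul_inv_rev, Equiv.Perm.mul_apply, reflPerm_inv_right hk]
      rw [e1, e2]; exact hgt
    -- `w x_α(a) w⁻¹ = x_{-α}(a')`
    have hconj := hwmono.2 k k' hkk' a
    rw [reflPerm_left hk, reflPerm_right hk] at hconj
    set a' := cw k k' (1 : K) k * (cw k k' (1 : K) k')⁻¹ * a with ha'
    have e : w * (u₁ * XS K m k k' a * h) * n =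
        (w * u₁ * w⁻¹) * (w * XS K m k k' a * w⁻¹) * (w * (h * n)) := by
      group
    by_cases ha0 : a' = 0
    · left
      rw [ha0, Cfsg.Agent.Helper96.StC.X_zero hX hkk'.symm] at hconj
      rw [DoubleCoset.mem_doubleCoset]
      refine ⟨(w * u₁ * w⁻¹) * (w * h * w⁻¹), mul_mem (U_le_B hu₂) (H_le_B hh₂), 1, one_mem _, ?_⟩
      rw [e, hconj]
      group
    · right
      have h5 := X_neg_root_eq hX hkk' ha0
      have hWH : W (XS K m) k k' (-a'⁻¹) * w ∈ H K m := by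
        have e1 : w = (W (XS K m) k k' (-1))⁻¹ := by
          rw [hM.W_inv hkk', neg_neg]
        rw [e1, hM.W_mul_W_inv hkk' (neg_ne_zero.mpr (inv_ne_zero ha0))
          (neg_ne_zero.mpr one_ne_zero)]
        exact Subgroup.subset_closure ⟨k, k', hkk', _,
          mul_ne_zero (neg_ne_zero.mpr (inv_ne_zero ha0))
            (inv_ne_zero (neg_ne_zero.mpr one_ne_zero)), rfl⟩
      rw [DoubleCoset.mem_doubleCoset]
      refine ⟨(w * u₁ * w⁻¹) * XS K m k k' a'⁻¹ * ((W (XS K m) k k' (-a'⁻¹) * w) * h),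
        mul_mem (mul_mem (U_le_B hu₂) (U_le_B (X_mem_UposC (XS K m) hklt _)))
          (mul_mem (H_le_B hWH) (H_le_B hh)),
        (w * (h * n))⁻¹ * XS K m k k' a'⁻¹ * (w * (h * n)),
        U_le_B (key (w * (h * n)) _ _ hm' hlt' a'⁻¹), ?_⟩
      rw [e, hconj, h5]
      group

end Cfsg.Agent.Helper23.SpBNP4
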