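import Mathlib
import Cfsg.Agent.Helper86.Spec4.Defs

/-!
# Piece (C1) of helper86's plan for S2510 (board #10327)

`cS (p^a) n = (q^n - 1) / ((q - 1) gcd(n, q - 1))` is prime to `p`.
-/

set_option autoImplicit false

namespace Cfsg.Agent.Helper23.Spec4

open Cfsg.Agent.Helper86.Spec4

/-- the geometric sum identity over `ℕ` without subtraction -/
theorem geom_sum_succ_mul (k n : ℕ) :
    (∑ i ∈ Finset.range n, (k + 1) ^ i) * k + 1 = (k + 1) ^ n := by
  induction n with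
  | zero => simp
  | succ n ih =>
    rw [Finset.sum_range_succ, add_mul, add_right_comm, ih, pow_succ]
    ring

/-- the geometric sum is congruent to the number of terms modulo a divisor of `k` -/
theorem geom_sum_modEq (k g n : ℕ) (hg : g ∣ k) :
    (∑ i ∈ Finset.range n, (k + 1) ^ i) ≡ n [MOD g] := by
  have h1 : (k + 1) ≡ 1 [MOD g] := by
    have : k ≡ 0 [MOD g] := (Nat.modEq_zero_iff_dvd).mpr hg
    simpa using this.add_right 1
  induction n with
  | zero => simp [Nat.ModEq]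
  | succ n ih =>
    rw [Finset.sum_range_succ]
    have h2 : (k + 1) ^ n ≡ 1 [MOD g] := by simpa using h1.pow n
    exact ih.add h2

/-- exactness of the division in `cS` -/
theorem cS_mul_eq (k n : ℕ) (hk : 1 ≤ k) :
    cS (k + 1) n * (k * Nat.gcd n k) = (k + 1) ^ n - 1 := by
  have hg : Nat.gcd n k ∣ ∑ i ∈ Finset.range n, (k + 1) ^ i := by
    have h := geom_sum_modEq k (Nat.gcd n k) n (Nat.gcd_dvd_right n k)
    exact (Nat.modEq_zero_iff_dvd).mp (h.trans ((Nat.modEq_zero_iff_dvd).mpr (Nat.gcd_dvd_left n k)))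
  obtain ⟨c, hc⟩ := hg
  have h1 := geom_sum_succ_mul k n
  have h2 : (k + 1) ^ n - 1 = c * (k * Nat.gcd n k) := by
    rw [← h1, hc]; simp; ring
  have hpos : 0 < k * Nat.gcd n k :=
    Nat.mul_pos hk (Nat.gcd_pos_of_pos_right n hk)
  unfold cS
  rw [Nat.add_sub_cancel, h2, Nat.mul_div_cancel _ hpos]

/-- (C1) `cS` is prime to `p`. -/
theorem coprime_cS {p a n : ℕ} (hp : p.Prime) (ha : 1 ≤ a) (hn : 1 ≤ n) :
    Nat.Coprime p (cS (p ^ a) n) := by
  have hq : 2 ≤ p ^ a := by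
    calc 2 ≤ p := hp.two_le
      _ = p ^ 1 := (pow_one p).symm
      _ ≤ p ^ a := Nat.pow_le_pow_right hp.pos ha
  obtain ⟨k, hk⟩ : ∃ k, p ^ a = k + 1 := ⟨p ^ a - 1, by omega⟩
  have hk1 : 1 ≤ k := by omega
  rw [hk]
  rw [Nat.Prime.coprime_iff_not_dvd hp]
  intro hdvd
  have h1 : p ∣ (k + 1) ^ n - 1 := by
    rw [← cS_mul_eq k n hk1]
    exact Dvd.dvd.mul_right hdvd _
  have h2 : p ∣ (k + 1) ^ n := by
    rw [← hk, ← pow_mul]
    exact dvd_pow_self p (by positivity)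
  have h3 : 1 ≤ (k + 1) ^ n := Nat.one_le_pow _ _ (by omega)
  have h4 : p ∣ (k + 1) ^ n - ((k + 1) ^ n - 1) := Nat.dvd_sub h2 h1
  rw [show (k + 1) ^ n - ((k + 1) ^ n - 1) = 1 by omega] at h4
  exact hp.one_lt.ne' (Nat.dvd_one.mp h4)

end Cfsg.Agent.Helper23.Spec4
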