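import Mathlib
import Cfsg.Agent.Helper86.Spec4.Defs

/-!
# Piece (M7) of helper86's plan for S2510 (board #10327)

A decomposable unipotent element of `SL_n(F)` whose image in `PSL_n(F)` has order `p^j`, whenever
`p^(j-1) < n - 1`: `u = 1 + N` with `N` a nilpotent Jordan block of size `s = p^(j-1) + 1` on the
first `s ≤ n - 1` coordinates; `e` the diagonal idempotent of the last coordinate.
-/

set_option autoImplicit false

namespace Cfsg.Agent.Helper23.Spec4

open Matrix Cfsg.Agent.Helper86.Spec4

variable {F : Type*} [Field F]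

/-- the `k`-th power of the nilpotent Jordan block on the first `s` coordinates -/
def Nk (F : Type*) [Field F] (n s k : ℕ) : Matrix (Fin n) (Fin n) F :=
  Matrix.of fun i l => if (l : ℕ) = (i : ℕ) + k ∧ (l : ℕ) < s then 1 else 0

theorem Nk_apply (n s k : ℕ) (i l : Fin n) :
    Nk F n s k i l = if (l : ℕ) = (i : ℕ) + k ∧ (l : ℕ) < s then 1 else 0 := rfl

theorem Nk_mul (n s a b : ℕ) : Nk F n s a * Nk F n s b = Nk F n s (a + b) := by
  ext i l
  rw [Matrix.mul_apply, Nk_apply]
  by_cases h : (l : ℕ) = (i : ℕ) + (a + b) ∧ (l : ℕ) < s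
  · rw [if_pos h]
    have hm : (i : ℕ) + a < n := by have := l.2; omega
    rw [Finset.sum_eq_single (⟨(i : ℕ) + a, hm⟩ : Fin n)]
    · rw [Nk_apply, Nk_apply, if_pos ⟨rfl, by simp only []; omega⟩,
        if_pos ⟨by simp only []; omega, h.2⟩, one_mul]
    · intro m _ hne
      rw [Nk_apply]
      by_cases h1 : (m : ℕ) = (i : ℕ) + a ∧ (m : ℕ) < s
      · exact absurd (Fin.ext h1.1) hne
      · rw [if_neg h1, zero_mul]
    · intro h'; exact absurd (Finset.mem_univ _) h'
  · rw [if_neg h]
    apply Finset.sum_eq_zero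
    intro m _
    rw [Nk_apply, Nk_apply]
    by_cases h1 : (m : ℕ) = (i : ℕ) + a ∧ (m : ℕ) < s
    · by_cases h2 : (l : ℕ) = (m : ℕ) + b ∧ (l : ℕ) < s
      · exfalso; apply h; constructor <;> omega
      · rw [if_neg h2, mul_zero]
    · rw [if_neg h1, zero_mul]

theorem Nk_one_pow (n s k : ℕ) : Nk F n s 1 ^ (k + 1) = Nk F n s (k + 1) := by
  induction k with
  | zero => rw [pow_one]
  | succ k ih => rw [pow_succ, ih, Nk_mul]

theorem Nk_eq_zero (n s k : ℕ) (hk : s ≤ k) : Nk F n s k = 0 := by
  ext i l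
  rw [Nk_apply, if_neg (by omega)]
  rfl

/-- powers of `p` of the unipotent element -/
theorem one_add_Nk_pow (p : ℕ) [Fact p.Prime] [CharP F p] (n s i : ℕ) (hn : 0 < n) :
    (1 + Nk F n s 1) ^ (p ^ i) = 1 + Nk F n s (p ^ i) := by
  have : Nonempty (Fin n) := ⟨⟨0, hn⟩⟩
  have hpos : 0 < p ^ i := Nat.pos_of_ne_zero (pow_ne_zero _ (Fact.out : p.Prime).ne_zero)
  obtain ⟨k, hk⟩ : ∃ k, p ^ i = k + 1 := ⟨p ^ i - 1, by omega⟩
  rw [add_pow_char_pow_of_commute p i (Commute.one_left (Nk F n s 1)), one_pow, hk, Nk_one_pow]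

/-- (M7) a decomposable unipotent element of order `p^j` whenever `p^(j-1) < n - 1`. -/
theorem exists_unipotent [Fintype F] {p n j : ℕ} [Fact p.Prime] [CharP F p] (hj : 1 ≤ j)
    (hjn : p ^ (j - 1) < n - 1) :
    ∃ (u : SpecialLinearGroup (Fin n) F) (e : Matrix (Fin n) (Fin n) F),
      e * e = e ∧ e ≠ 0 ∧ e ≠ 1 ∧ e * u.1 = u.1 * e ∧
      orderOf (QuotientGroup.mk u : ProjectiveSpecialLinearGroup (Fin n) F) = p ^ j := by
  have hp : p.Prime := Fact.out
  set s := p ^ (j - 1) + 1 with hs
  have hs1 : 1 ≤ p ^ (j - 1) := Nat.one_le_pow _ _ hp.pos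
  have hsn : s + 1 ≤ n := by omega
  have hn : 0 < n := by omega
  have hpj : p ^ j = p ^ (j - 1) * p := by
    rw [← pow_succ]; congr 1; omega
  have hspj : s ≤ p ^ j := by
    rw [hpj]
    have := hp.two_le
    nlinarith
  -- the matrix
  set M : Matrix (Fin n) (Fin n) F := 1 + Nk F n s 1 with hM
  have hMpj : M ^ (p ^ j) = 1 := by
    rw [hM, one_add_Nk_pow p n s j hn, Nk_eq_zero n s _ hspj, add_zero]
  have hdet : M.det = 1 := by
    have h1 : M.det ^ (p ^ j) = 1 := by rw [← Matrix.det_pow, hMpj, Matrix.det_one]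
    have h2 : (M.det - 1) ^ (p ^ j) = 0 := by
      rw [sub_pow_char_pow, h1, one_pow, sub_self]
    exact sub_eq_zero.mp (pow_eq_zero_iff (pow_ne_zero _ hp.ne_zero) |>.mp h2)
  let u : SpecialLinearGroup (Fin n) F := ⟨M, hdet⟩
  -- the idempotent
  let last : Fin n := ⟨n - 1, by omega⟩
  let zero : Fin n := ⟨0, hn⟩
  set e : Matrix (Fin n) (Fin n) F := Matrix.diagonal (fun i => if i = last then 1 else 0) with he
  have hee : e * e = e := by
    rw [he, Matrix.diagonal_mul_diagonal]
    congr 1
    funext i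
    by_cases h : i = last <;> simp [h]
  have he0 : e ≠ 0 := by
    intro h
    have := congrFun (congrFun h last) last
    rw [he, Matrix.diagonal_apply_eq, if_pos rfl] at this
    exact one_ne_zero this
  have he1 : e ≠ 1 := by
    intro h
    have := congrFun (congrFun h zero) zero
    have hz : zero ≠ last := by
      intro h'
      have := congrArg Fin.val h'
      simp only [zero, last] at this
      omega
    rw [he, Matrix.diagonal_apply_eq, if_neg hz, Matrix.one_apply_eq] at this
    exact zero_ne_one this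
  have heN : e * Nk F n s 1 = 0 := by
    ext i l
    rw [he, Matrix.diagonal_mul, Nk_apply]
    by_cases h : i = last
    · rw [if_pos h, one_mul, if_neg]
      · rfl
      · rintro ⟨h1, h2⟩
        have := l.2
        rw [h] at h1
        simp only [last] at h1
        omega
    · rw [if_neg h, zero_mul]; rfl
  have hNe : Nk F n s 1 * e = 0 := by
    ext i l
    rw [he, Matrix.mul_diagonal, Nk_apply]
    by_cases h : l = last
    · rw [if_pos h, mul_one, if_neg]
      · rfl
      · rintro ⟨h1, h2⟩
        rw [h] at h2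
        simp only [last] at h2
        omega
    · rw [if_neg h, mul_zero]; rfl
  have hcomm : e * u.1 = u.1 * e := by
    show e * M = M * e
    rw [hM, mul_add, add_mul, heN, hNe, mul_one, one_mul]
  refine ⟨u, e, hee, he0, he1, hcomm, ?_⟩
  -- the order
  have hj' : j = (j - 1) + 1 := by omega
  rw [hj']
  apply orderOf_eq_prime_pow
  · -- not of order dividing `p^(j-1)`
    intro h
    rw [← QuotientGroup.mk_pow, QuotientGroup.eq_one_iff,
      Matrix.SpecialLinearGroup.mem_center_iff] at h
    obtain ⟨c, -, hc⟩ := h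
    have h1 : ((u ^ p ^ (j - 1) : SpecialLinearGroup (Fin n) F) : Matrix (Fin n) (Fin n) F) =
        1 + Nk F n s (p ^ (j - 1)) := by
      rw [Matrix.SpecialLinearGroup.coe_pow]
      show M ^ p ^ (j - 1) = _
      rw [hM, one_add_Nk_pow p n s (j - 1) hn]
    rw [h1] at hc
    let top : Fin n := ⟨s - 1, by omega⟩
    have hzt : zero ≠ top := by
      intro h'
      have := congrArg Fin.val h'
      simp only [zero, top] at this
      omega
    have h2 := congrFun (congrFun hc zero) top
    rw [Matrix.scalar_apply, Matrix.diagonal_apply_ne _ hzt, Matrix.add_apply,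
      Matrix.one_apply_ne hzt, zero_add, Nk_apply, if_pos] at h2
    · exact zero_ne_one h2
    · simp only [zero, top]
      constructor <;> omega
  · rw [← hj', ← QuotientGroup.mk_pow]
    have : u ^ p ^ j = 1 := by
      apply Subtype.ext
      rw [Matrix.SpecialLinearGroup.coe_pow]
      exact hMpj
    rw [this]
    rfl

end Cfsg.Agent.Helper23.Spec4
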