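import Cfsg.Agent.Helper6.SzCl1

/-!
# Pieces (D1), (D2) of helper6's plan for S2457 (board #10128): common part and (D1)

Explicit elements `y = u(1, β)`, `z = d(t) y d(t)⁻¹` of order four in the Borel subgroup of
`Sz(q)` with `y z = d(1+t) y^{±1} d(1+t)⁻¹`.
-/

set_option autoImplicit false

namespace Cfsg.Agent.Helper23.SzCl

open Cfsg.Agent.Helper6

variable {F : Type*} [Field F] [Fintype F] {m : ℕ}

/-- an element `t ∉ {0, 1}`; then `t + t^θ ≠ 0` and `1 + t ≠ 0` -/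
theorem exists_good_t (hm : 1 ≤ m) (hF : Fintype.card F = 2 ^ (2 * m + 1)) :
    ∃ t : F, t ≠ 0 ∧ 1 + t ≠ 0 ∧ t + t ^ (2 ^ (m + 1)) ≠ 0 := by
  classical
  have h2 : (2 : F) = 0 := two_eq_zero_of_card hF
  have hcard : 2 < Fintype.card F := by
    rw [hF]
    calc 2 < 2 ^ 3 := by norm_num
      _ ≤ 2 ^ (2 * m + 1) := Nat.pow_le_pow_right (by norm_num) (by omega)
  obtain ⟨t, ht⟩ : ∃ t : F, t ∉ ({0, 1} : Finset F) := by
    by_contra h
    have hsub : (Finset.univ : Finset F) ⊆ {0, 1} :=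
      fun x _ => not_not.mp (fun hx => h ⟨x, hx⟩)
    have h1 := Finset.card_le_card hsub
    have h3 : ({0, 1} : Finset F).card ≤ 2 := Finset.card_le_two
    rw [Finset.card_univ] at h1
    omega
  rw [Finset.mem_insert, Finset.mem_singleton, not_or] at ht
  obtain ⟨ht0, ht1⟩ := ht
  have h1t : 1 + t ≠ 0 := by
    intro h
    apply ht1
    linear_combination h - h2
  refine ⟨t, ht0, h1t, ?_⟩
  intro h
  -- `t^θ = t`, hence `t^2 = t`
  have hθ : t ^ (2 ^ (m + 1)) = t := by linear_combination h - t * h2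
  have hsq := pow_sigma_sigma hF t
  rw [hθ, hθ] at hsq
  -- `t = t^2`
  have : t * (1 + t) = 0 := by linear_combination -hsq + t * h2
  rcases mul_eq_zero.mp this with h' | h'
  · exact ht0 h'
  · exact h1t h'

/-- `(1 + t)^(θ+1)` expanded -/
theorem one_add_pow_sigma_succ (hF : Fintype.card F = 2 ^ (2 * m + 1)) (t : F) :
    (1 + t) ^ (2 ^ (m + 1) + 1) =
      1 + t + t ^ (2 ^ (m + 1)) + t ^ (2 ^ (m + 1)) * t := by
  rw [pow_succ, add_pow_sigma hF, one_pow]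
  ring

/-- the common computation: `u(1,β) · d(t) u(1,β) d(t)⁻¹` -/
theorem sU_mul_conj (hm : 1 ≤ m) (hF : Fintype.card F = 2 ^ (2 * m + 1)) (t : Fˣ) (β : F) :
    sU hF 1 β * (sD hF t * sU hF 1 β * (sD hF t)⁻¹) =
      sU hF (1 + (t : F)) (β * (1 + (t : F) ^ (2 ^ (m + 1)) * (t : F)) + (t : F)) := by
  rw [sD_conj_sU hm hF, sU_mul hm hF]
  congr 1
  · ring
  · rw [one_pow, pow_succ]; ring

/-- (D1) elements of order four `y ~ z` with `y z ~ y` -/
theorem exists_four_Q3 (hm : 1 ≤ m) (hF : Fintype.card F = 2 ^ (2 * m + 1)) :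
    ∃ y z : Cfsg.Sz F m, orderOf y = 4 ∧ IsCj y z ∧ IsCj y (y * z) := by
  obtain ⟨t, ht0, h1t, hts⟩ := exists_good_t hm hF
  set β : F := t / (t + t ^ (2 ^ (m + 1))) with hβ
  have hβ' : β * (t + t ^ (2 ^ (m + 1))) = t := div_mul_cancel₀ _ hts
  refine ⟨sU hF 1 β, sD hF (Units.mk0 t ht0) * sU hF 1 β * (sD hF (Units.mk0 t ht0))⁻¹, ?_, ?_, ?_⟩
  · exact (orderOf_sU_eq_four_iff hm hF 1 β).mpr one_ne_zero
  · exact isCj_conj _ _
  · refine ⟨sD hF (Units.mk0 (1 + t) h1t), ?_⟩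
    rw [sU_mul_conj hm hF, sD_conj_sU hm hF]
    simp only [Units.val_mk0]
    congr 1
    · ring
    · rw [one_add_pow_sigma_succ hF]
      linear_combination hβ'

end Cfsg.Agent.Helper23.SzCl
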