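import Cfsg.Agent.Helper6.SzCl1
import Cfsg.Agent.Helper23.SzCl_D1

/-!
# Piece (D2) of helper6's plan for S2457 (board #10128)

Elements `y ~ z` of order four in `Sz(q)` with `y z ~ y⁻¹`.
-/

set_option autoImplicit false

namespace Cfsg.Agent.Helper23.SzCl

open Cfsg.Agent.Helper6

variable {F : Type*} [Field F] [Fintype F] {m : ℕ}

/-- (D2) elements of order four `y ~ z` with `y z ~ y⁻¹` -/
theorem exists_four_Q4 (hm : 1 ≤ m) (hF : Fintype.card F = 2 ^ (2 * m + 1)) :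
    ∃ y z : Cfsg.Sz F m, orderOf y = 4 ∧ IsCj y z ∧ IsCj y⁻¹ (y * z) := by
  have h2 : (2 : F) = 0 := two_eq_zero_of_card hF
  obtain ⟨t, ht0, h1t, hts⟩ := exists_good_t hm hF
  set β : F := (1 + t ^ (2 ^ (m + 1)) + t ^ (2 ^ (m + 1)) * t) / (t + t ^ (2 ^ (m + 1))) with hβ
  have hβ' : β * (t + t ^ (2 ^ (m + 1))) = 1 + t ^ (2 ^ (m + 1)) + t ^ (2 ^ (m + 1)) * t :=
    div_mul_cancel₀ _ hts
  refine ⟨sU hF 1 β, sD hF (Units.mk0 t ht0) * sU hF 1 β * (sD hF (Units.mk0 t ht0))⁻¹, ?_, ?_, ?_⟩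
  · exact (orderOf_sU_eq_four_iff hm hF 1 β).mpr one_ne_zero
  · exact isCj_conj _ _
  · refine ⟨sD hF (Units.mk0 (1 + t) h1t), ?_⟩
    rw [sU_mul_conj hm hF, sU_inv hm hF, sD_conj_sU hm hF]
    simp only [Units.val_mk0]
    congr 1
    · ring
    · rw [one_add_pow_sigma_succ hF, one_pow]
      linear_combination hβ' +
        (1 + t ^ (2 ^ (m + 1)) + t ^ (2 ^ (m + 1)) * t) * h2

end Cfsg.Agent.Helper23.SzCl
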