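import Mathlib
import Cfsg.Agent.Helper95.SzOrd.Defs

/-!
# Piece (BORB) of helper95's plan for S0347 / S1147 / S0340 (board #10993), parameterised form

The union `Orb u` of the conjugates of `C(u) ∖ {1}` for a strongly real fixed-point-free `u`:
its size, closure, and the number of pairs of involutions with product in it.  The conclusion of
(BT1) is taken as a hypothesis `hBT1`.  `Orb u` of the skeleton is written out as a set.
-/

set_option autoImplicit false

namespace Cfsg.Agent.Helper23.SzOrd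

open MulAction Cfsg.Agent.Helper95.SzOrd

section generic

variable {G : Type*} [Group G]

theorem orderOf_conj_eq' (g w : G) : orderOf (g * w * g⁻¹) = orderOf w := by
  rw [← MulAut.conj_apply, MulEquiv.orderOf_eq]

/-- conjugation and centralizers -/
theorem conj_mem_centralizer_conj_iff (g x v : G) :
    g * x * g⁻¹ ∈ Subgroup.centralizer ({g * v * g⁻¹} : Set G) ↔
      x ∈ Subgroup.centralizer ({v} : Set G) := by
  rw [Subgroup.mem_centralizer_singleton_iff, Subgroup.mem_centralizer_singleton_iff]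
  have e1 : g * x * g⁻¹ * (g * v * g⁻¹) = g * (x * v) * g⁻¹ := by group
  have e2 : g * v * g⁻¹ * (g * x * g⁻¹) = g * (v * x) * g⁻¹ := by group
  rw [e1, e2, mul_left_inj, mul_right_inj]

/-- conjugate elements have centralizers of the same cardinality -/
theorem card_centralizer_conj (g v : G) :
    Nat.card (Subgroup.centralizer ({g * v * g⁻¹} : Set G)) =
      Nat.card (Subgroup.centralizer ({v} : Set G)) := by
  symm
  apply Nat.card_congr
  exact Equiv.subtypeEquiv (MulAut.conj g).toEquiv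
    (fun x => (conj_mem_centralizer_conj_iff g x v).symm)

/-- the union of the conjugates of `T ∖ {1}` for a subgroup `T` which is the centralizer of each
of its non-identity elements: `|⋃ (T^g ∖ 1)| · |N(T)| = |G| (|T| - 1)` -/
theorem card_conjUnion_mul [Fintype G] (T : Subgroup G)
    (hT : ∀ w ∈ T, w ≠ 1 → Subgroup.centralizer ({w} : Set G) = T) :
    Nat.card {v : G // v ≠ 1 ∧ ∃ g : G, g * v * g⁻¹ ∈ T} *
        Nat.card (Subgroup.normalizer (T : Set G)) = Nat.card G * (Nat.card T - 1) := by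
  classical
  set sD : Finset G := Finset.univ.filter (fun v => v ≠ 1 ∧ ∃ g : G, g * v * g⁻¹ ∈ T) with hsD
  set fD : Finset G := Finset.univ.filter (fun w => w ∈ T) with hfD
  set fN : Finset G := Finset.univ.filter (fun n => n ∈ Subgroup.normalizer (T : Set G)) with hfN
  have hcard_sD : sD.card = Nat.card {v : G // v ≠ 1 ∧ ∃ g : G, g * v * g⁻¹ ∈ T} := by
    rw [Nat.card_eq_fintype_card, Fintype.card_subtype]
  have hcard_fD : fD.card = Nat.card T := by
    rw [Nat.card_eq_fintype_card, Fintype.card_subtype]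
  have hcard_fN : fN.card = Nat.card (Subgroup.normalizer (T : Set G)) := by
    rw [Nat.card_eq_fintype_card, Fintype.card_subtype]
  have hdc := Finset.sum_card_bipartiteAbove_eq_sum_card_bipartiteBelow
    (fun (v g : G) => g⁻¹ * v * g ∈ T) (s := sD) (t := (Finset.univ : Finset G))
  have hleft : ∀ v ∈ sD,
      (Finset.bipartiteAbove (fun (v g : G) => g⁻¹ * v * g ∈ T) Finset.univ v).card = fN.card := by
    intro v hv
    rw [hsD, Finset.mem_filter] at hv
    obtain ⟨-, hv1, g₁, hg₁⟩ := hv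
    set g₀ := g₁⁻¹ with hg₀
    set w₀ := g₀⁻¹ * v * g₀ with hw₀eq
    have hw₀D : w₀ ∈ T := by
      have : w₀ = g₁ * v * g₁⁻¹ := by rw [hw₀eq, hg₀, inv_inv]
      rw [this]; exact hg₁
    have hw₀1 : w₀ ≠ 1 := by
      intro h'
      apply hv1
      have : v = g₀ * w₀ * g₀⁻¹ := by rw [hw₀eq]; group
      rw [this, h']; group
    apply Finset.card_nbij' (fun g => g₀⁻¹ * g) (fun n => g₀ * n)
    · intro g hg
      rw [Finset.mem_coe, Finset.mem_bipartiteAbove] at hg
      rw [Finset.mem_coe, hfN, Finset.mem_filter]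
      refine ⟨Finset.mem_univ _, ?_⟩
      obtain ⟨-, hg⟩ := hg
      set w := g⁻¹ * v * g with hw
      have hw1 : w ≠ 1 := by
        intro h'
        apply hv1
        have : v = g * w * g⁻¹ := by rw [hw]; group
        rw [this, h']; group
      have hnw : (g₀⁻¹ * g) * w * (g₀⁻¹ * g)⁻¹ = w₀ := by
        rw [hw₀eq, hw]; group
      rw [Subgroup.mem_normalizer_iff]
      intro x
      show x ∈ T ↔ (g₀⁻¹ * g) * x * (g₀⁻¹ * g)⁻¹ ∈ T
      have e1 : x ∈ T ↔ x ∈ Subgroup.centralizer ({w} : Set G) := by rw [hT w hg hw1]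
      have e2 : (g₀⁻¹ * g) * x * (g₀⁻¹ * g)⁻¹ ∈ T ↔
          (g₀⁻¹ * g) * x * (g₀⁻¹ * g)⁻¹ ∈
            Subgroup.centralizer ({(g₀⁻¹ * g) * w * (g₀⁻¹ * g)⁻¹} : Set G) := by
        rw [hnw, hT w₀ hw₀D hw₀1]
      rw [e1, e2, conj_mem_centralizer_conj_iff]
    · intro n hn
      rw [Finset.mem_coe, hfN, Finset.mem_filter] at hn
      rw [Finset.mem_coe, Finset.mem_bipartiteAbove]
      refine ⟨Finset.mem_univ _, ?_⟩
      have hn' := (Subgroup.mem_normalizer_iff.mp hn.2 (n⁻¹ * w₀ * n)).mpr
        (by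
          have : n * (n⁻¹ * w₀ * n) * n⁻¹ = w₀ := by group
          rw [this]; exact hw₀D)
      show (g₀ * n)⁻¹ * v * (g₀ * n) ∈ T
      have : (g₀ * n)⁻¹ * v * (g₀ * n) = n⁻¹ * w₀ * n := by rw [hw₀eq]; group
      rw [this]
      exact hn'
    · intro g _
      show g₀ * (g₀⁻¹ * g) = g
      group
    · intro n _
      show g₀⁻¹ * (g₀ * n) = n
      group
  have hright : ∀ g ∈ (Finset.univ : Finset G),
      (Finset.bipartiteBelow (fun (v g : G) => g⁻¹ * v * g ∈ T) sD g).card = Nat.card T - 1 := by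
    intro g _
    have h1 : (fD.erase 1).card = Nat.card T - 1 := by
      rw [Finset.card_erase_of_mem, hcard_fD]
      rw [hfD, Finset.mem_filter]
      exact ⟨Finset.mem_univ _, T.one_mem⟩
    rw [← h1]
    apply Finset.card_nbij' (fun v => g⁻¹ * v * g) (fun w => g * w * g⁻¹)
    · intro v hv
      rw [Finset.mem_coe, Finset.mem_bipartiteBelow, hsD, Finset.mem_filter] at hv
      obtain ⟨⟨-, hv1, -⟩, hvD⟩ := hv
      rw [Finset.mem_coe, Finset.mem_erase, hfD, Finset.mem_filter]
      refine ⟨?_, Finset.mem_univ _, hvD⟩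
      intro h'
      have h'' : g⁻¹ * v * g = 1 := h'
      apply hv1
      have : v = g * (g⁻¹ * v * g) * g⁻¹ := by group
      rw [this, h'']; group
    · intro w hw
      rw [Finset.mem_coe, Finset.mem_erase, hfD, Finset.mem_filter] at hw
      obtain ⟨hw1, -, hwD⟩ := hw
      rw [Finset.mem_coe, Finset.mem_bipartiteBelow, hsD, Finset.mem_filter]
      have hback : g⁻¹ * (g * w * g⁻¹) * g = w := by group
      refine ⟨⟨Finset.mem_univ _, ?_, ⟨g⁻¹, ?_⟩⟩, ?_⟩
      · intro h'
        have h'' : g * w * g⁻¹ = 1 := h'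
        apply hw1
        rw [← hback, h'']; group
      · show g⁻¹ * (g * w * g⁻¹) * g⁻¹⁻¹ ∈ T
        rw [inv_inv, hback]; exact hwD
      · show g⁻¹ * (g * w * g⁻¹) * g ∈ T
        rw [hback]; exact hwD
    · intro v _
      show g * (g⁻¹ * v * g) * g⁻¹ = v
      group
    · intro w _
      show g⁻¹ * (g * w * g⁻¹) * g = w
      group
  rw [Finset.sum_congr rfl hleft, Finset.sum_congr rfl hright, Finset.sum_const, Finset.sum_const,
    smul_eq_mul, smul_eq_mul, Finset.card_univ, hcard_sD, hcard_fN, ← Nat.card_eq_fintype_card]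
    at hdc
  exact hdc

end generic

section action

variable {G Ω : Type*} [Group G] [MulAction G Ω]

theorem isFpf_conj {g v : G} (hv : IsFpf Ω v) : IsFpf Ω (g * v * g⁻¹) := by
  intro c hc
  apply hv (g⁻¹ • c)
  have : v • g⁻¹ • c = g⁻¹ • ((g * v * g⁻¹) • c) := by
    rw [← mul_smul, ← mul_smul]
    congr 1
    group
  rw [this, hc]

theorem isSReal_conj {g v : G} (hv : IsSReal Ω v) : IsSReal Ω (g * v * g⁻¹) := by
  obtain ⟨hf, s, hs2, hs⟩ := hv
  refine ⟨isFpf_conj hf, g * s * g⁻¹, ?_, ?_⟩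
  · rw [orderOf_conj_eq', hs2]
  · have : g * s * g⁻¹ * (g * v * g⁻¹) * (g * s * g⁻¹)⁻¹ = g * (s * v * s⁻¹) * g⁻¹ := by group
    rw [this, hs]
    group

/-- the union of the conjugates of `C_G(u) ∖ {1}` (same body as `Orb` of the skeleton) -/
def OrbSet (u : G) : Set G :=
  {v | v ≠ 1 ∧ ∃ g : G, g * v * g⁻¹ ∈ Subgroup.centralizer ({u} : Set G)}

end action

section main

variable {G Ω : Type*} [Group G] [Fintype G] [MulAction G Ω]

/-- (BORB), with the conclusion of (BT1) as a hypothesis. -/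
theorem BORB_of {Q : Subgroup G} (a : Ω)
    (hBT1 : ∀ u : G, IsSReal Ω u →
      (∀ x ∈ Subgroup.centralizer ({u} : Set G), ∀ y ∈ Subgroup.centralizer ({u} : Set G),
        x * y = y * x) ∧
      (∀ v ∈ Subgroup.centralizer ({u} : Set G), v ≠ 1 →
        IsSReal Ω v ∧ Subgroup.centralizer ({v} : Set G) = Subgroup.centralizer ({u} : Set G)) ∧
      Nat.card {s : G // orderOf s = 2 ∧ s * u * s⁻¹ = u⁻¹}
        = Nat.card (Subgroup.centralizer ({u} : Set G)) ∧
      Odd (Nat.card (Subgroup.centralizer ({u} : Set G))) ∧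
      3 ≤ Nat.card (Subgroup.centralizer ({u} : Set G)) ∧
      Nat.card (Subgroup.centralizer ({u} : Set G)) ∣ Nat.card Q + 1)
    (u : G) (hu : IsSReal Ω u) :
    (∀ v ∈ OrbSet u, IsSReal Ω v ∧ OrbSet v = OrbSet u) ∧ u ∈ OrbSet u ∧
    Nat.card (OrbSet u) *
        Nat.card (Subgroup.normalizer ((Subgroup.centralizer ({u} : Set G) : Subgroup G) : Set G))
      = Nat.card G * (Nat.card (Subgroup.centralizer ({u} : Set G)) - 1) ∧
    Nat.card {p : G × G // orderOf p.1 = 2 ∧ orderOf p.2 = 2 ∧ p.1 * p.2 ∈ OrbSet u}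
      = Nat.card (OrbSet u) * Nat.card (Subgroup.centralizer ({u} : Set G)) := by
  classical
  have hA : ∀ v ∈ OrbSet u, IsSReal Ω v ∧ OrbSet v = OrbSet u ∧
      Nat.card (Subgroup.centralizer ({v} : Set G)) =
        Nat.card (Subgroup.centralizer ({u} : Set G)) := by
    rintro v ⟨hv1, g, hg⟩
    set w := g * v * g⁻¹ with hw
    have hw1 : w ≠ 1 := by
      intro h'
      apply hv1
      have : v = g⁻¹ * w * g := by rw [hw]; group
      rw [this, h']; group
    obtain ⟨hwS, hCw⟩ := (hBT1 u hu).2.1 w hg hw1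
    have hvw : v = g⁻¹ * w * g⁻¹⁻¹ := by rw [hw]; group
    refine ⟨?_, ?_, ?_⟩
    · rw [hvw]; exact isSReal_conj hwS
    · ext x
      show (x ≠ 1 ∧ ∃ h : G, h * x * h⁻¹ ∈ Subgroup.centralizer ({v} : Set G)) ↔
        (x ≠ 1 ∧ ∃ h : G, h * x * h⁻¹ ∈ Subgroup.centralizer ({u} : Set G))
      rw [← hCw]
      constructor
      · rintro ⟨hx1, h, hh⟩
        refine ⟨hx1, g * h, ?_⟩
        have : g * h * x * (g * h)⁻¹ = g * (h * x * h⁻¹) * g⁻¹ := by group
        rw [this, hw, conj_mem_centralizer_conj_iff]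
        exact hh
      · rintro ⟨hx1, h, hh⟩
        refine ⟨hx1, g⁻¹ * h, ?_⟩
        rw [← conj_mem_centralizer_conj_iff g, ← hw]
        have : g * (g⁻¹ * h * x * (g⁻¹ * h)⁻¹) * g⁻¹ = h * x * h⁻¹ := by group
        rw [this]; exact hh
    · rw [← hCw, hw, card_centralizer_conj]
  have hu1 : u ≠ 1 := by
    intro h'
    apply hu.1 a
    rw [h', one_smul]
  have hB : u ∈ OrbSet u := by
    refine ⟨hu1, 1, ?_⟩
    rw [one_mul, inv_one, mul_one, Subgroup.mem_centralizer_singleton_iff]
  have hC : Nat.card (OrbSet u) *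
        Nat.card (Subgroup.normalizer ((Subgroup.centralizer ({u} : Set G) : Subgroup G) : Set G))
      = Nat.card G * (Nat.card (Subgroup.centralizer ({u} : Set G)) - 1) :=
    card_conjUnion_mul (Subgroup.centralizer ({u} : Set G))
      (fun w hw hw1 => ((hBT1 u hu).2.1 w hw hw1).2)
  refine ⟨fun v hv => ⟨(hA v hv).1, (hA v hv).2.1⟩, hB, hC, ?_⟩
  -- (d)
  set S : Finset (G × G) := Finset.univ.filter
    (fun p : G × G => orderOf p.1 = 2 ∧ orderOf p.2 = 2 ∧ p.1 * p.2 ∈ OrbSet u) with hS
  set O : Finset G := Finset.univ.filter (fun v : G => v ∈ OrbSet u) with hO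
  have hcardS : S.card =
      Nat.card {p : G × G // orderOf p.1 = 2 ∧ orderOf p.2 = 2 ∧ p.1 * p.2 ∈ OrbSet u} := by
    rw [Nat.card_eq_fintype_card, Fintype.card_subtype]
  have hcardO : O.card = Nat.card (OrbSet u) := by
    rw [Nat.card_eq_fintype_card, ← Set.toFinset_card, Set.toFinset_card, Fintype.card_subtype]
  have hfib := Finset.card_eq_sum_card_fiberwise (f := fun p : G × G => p.1 * p.2)
    (s := S) (t := O) (fun p hp => by
      rw [hS, Finset.mem_coe, Finset.mem_filter] at hp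
      rw [hO, Finset.mem_coe, Finset.mem_filter]
      exact ⟨Finset.mem_univ _, hp.2.2.2⟩)
  have hfibre : ∀ v ∈ O, (S.filter (fun p : G × G => p.1 * p.2 = v)).card =
      Nat.card (Subgroup.centralizer ({u} : Set G)) := by
    intro v hv
    rw [hO, Finset.mem_filter] at hv
    obtain ⟨hvS, -, hcv⟩ := hA v hv.2
    have hBv := hBT1 v hvS
    rw [← hcv, ← hBv.2.2.1, Nat.card_eq_fintype_card, Fintype.card_subtype]
    -- order of v is odd
    have hvmem : v ∈ Subgroup.centralizer ({v} : Set G) := by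
      rw [Subgroup.mem_centralizer_singleton_iff]
    have hodd : Odd (orderOf v) := by
      have h1 : orderOf (⟨v, hvmem⟩ : Subgroup.centralizer ({v} : Set G)) ∣
          Nat.card (Subgroup.centralizer ({v} : Set G)) := orderOf_dvd_natCard _
      rw [Subgroup.orderOf_mk] at h1
      exact Odd.of_dvd_nat hBv.2.2.2.1 h1
    apply Finset.card_nbij' (fun p : G × G => p.1) (fun s : G => (s, s⁻¹ * v))
    · intro p hp
      rw [Finset.mem_coe, Finset.mem_filter, hS, Finset.mem_filter] at hp
      obtain ⟨⟨-, h1, h2, -⟩, hpv⟩ := hp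
      rw [Finset.mem_coe, Finset.mem_filter]
      refine ⟨Finset.mem_univ _, h1, ?_⟩
      have hs2 : p.1 * p.1 = 1 := by
        have := pow_orderOf_eq_one p.1
        rwa [h1, pow_two] at this
      have ht2 : p.2 * p.2 = 1 := by
        have := pow_orderOf_eq_one p.2
        rwa [h2, pow_two] at this
      have hsi : p.1⁻¹ = p.1 := inv_eq_of_mul_eq_one_right hs2
      have hti : p.2⁻¹ = p.2 := inv_eq_of_mul_eq_one_right ht2
      show p.1 * v * p.1⁻¹ = v⁻¹
      rw [← hpv, mul_inv_rev, hsi, hti, ← mul_assoc, hs2, one_mul]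
    · intro s hs
      rw [Finset.mem_coe, Finset.mem_filter] at hs
      obtain ⟨-, hs2o, hsv⟩ := hs
      have hs2 : s * s = 1 := by
        have := pow_orderOf_eq_one s
        rwa [hs2o, pow_two] at this
      have hsi : s⁻¹ = s := inv_eq_of_mul_eq_one_right hs2
      rw [Finset.mem_coe, Finset.mem_filter, hS, Finset.mem_filter]
      have hprod : s * (s⁻¹ * v) = v := by group
      refine ⟨⟨Finset.mem_univ _, hs2o, ?_, ?_⟩, hprod⟩
      · show orderOf (s⁻¹ * v) = 2
        have : Fact (Nat.Prime 2) := ⟨Nat.prime_two⟩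
        apply orderOf_eq_prime
        · rw [pow_two]
          have : s⁻¹ * v * (s⁻¹ * v) = (s * v * s⁻¹) * v := by
            rw [hsi]
            have : s * v * (s * v) = s * v * s * v := by group
            rw [this]
          rw [this, hsv, inv_mul_cancel]
        · intro h'
          have hvs : v = s := by
            have : v = s * (s⁻¹ * v) := by group
            rw [this, h', mul_one]
          rw [hvs, hs2o] at hodd
          exact absurd hodd (by decide)
      · show s * (s⁻¹ * v) ∈ OrbSet u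
        rw [hprod]; exact hv.2
    · intro p hp
      rw [Finset.mem_coe, Finset.mem_filter] at hp
      obtain ⟨-, hpv⟩ := hp
      show (p.1, p.1⁻¹ * v) = p
      rw [← hpv]
      ext
      · rfl
      · show p.1⁻¹ * (p.1 * p.2) = p.2
        group
    · intro s _
      rfl
  rw [← hcardS, hfib, Finset.sum_congr rfl hfibre, Finset.sum_const, smul_eq_mul, hcardO]

end main

end Cfsg.Agent.Helper23.SzOrd
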