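import Cfsg.Agent.Helper95.SzOrd.DefsB
import Cfsg.Agent.Helper97.SzOrdBT1
import Cfsg.Agent.Helper23.SzOrdBORBpre

/-!
# Piece (BORB) of helper95's plan for S0347 / S1147 / S0340 (board #10993), exact skeleton form
-/

set_option autoImplicit false

namespace Cfsg.Agent.Helper23.SzOrd

open MulAction Cfsg.Agent.Helper95.SzOrd

variable {G Ω : Type*} [Group G] [Fintype G] [MulAction G Ω] [Fintype Ω]

variable {a b : Ω} {Q : Subgroup G} {q n : ℕ}

/-- (BORB) -/
theorem BORB (F : ZTFacts a b Q q n) (u : G) (hu : IsSReal Ω u) :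
    (∀ v ∈ Orb u, IsSReal Ω v ∧ Orb v = Orb u) ∧ u ∈ Orb u ∧
    Nat.card (Orb u) *
        Nat.card (Subgroup.normalizer ((Subgroup.centralizer ({u} : Set G) : Subgroup G) : Set G))
      = Nat.card G * (Nat.card (Subgroup.centralizer ({u} : Set G)) - 1) ∧
    Nat.card {p : G × G // orderOf p.1 = 2 ∧ orderOf p.2 = 2 ∧ p.1 * p.2 ∈ Orb u}
      = Nat.card (Orb u) * Nat.card (Subgroup.centralizer ({u} : Set G)) :=
  BORB_of a (fun u hu => Cfsg.Agent.Helper97.SzOrd.BT1 F u hu) u hu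

end Cfsg.Agent.Helper23.SzOrd
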