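import Mathlib
import Cfsg.Prelude.Def_Local
import Cfsg.Agent.Helper22.PComponent4
import Cfsg.Agent.Helper23.ExtLayer2

set_option autoImplicit false

/-!
`p`-components are normalized by `O_{p',p}`, and by the centralizer of a Sylow `p`-subgroup of
`L_{p'}(G) O_{p',p}(G)` (helper23).
-/

namespace Cfsg.Agent.Helper23

open Cfsg Cfsg.Agent.Helper22

variable {G : Type*} [Group G]

/-- A `p`-component `K` contains a `p`-element whose image does not centralize the image of `K`
in `G / O_{p'}(G)`. -/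
theorem exists_pElement_map_not_mem_centralizer [Finite G] {p : ℕ} [Fact p.Prime] {K : Subgroup G}
    (hK : IsPComponent p K) :
    ∃ x ∈ K, (∃ a : ℕ, x ^ p ^ a = 1) ∧ QuotientGroup.mk' (pPrimeCore p G) x ∉
      Subgroup.centralizer ((K.map (QuotientGroup.mk' (pPrimeCore p G)) : Subgroup _) : Set _) := by
  set π := QuotientGroup.mk' (pPrimeCore p G) with hπ
  by_contra hcon
  push Not at hcon
  have hq := (IsPComponent.isComponent_map hK).2
  have hfin : Finite ↥(K.map π) := inferInstance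
  obtain ⟨⟨ybar, hybar⟩, ⟨a, hya⟩, hnc⟩ := exists_pElement_not_mem_center p hq.1
    (dvd_card_of_isComponent_quotient p (IsPComponent.isComponent_map hK))
  apply hnc
  obtain ⟨k, hkK, hky⟩ := hybar
  have hya' : ybar ^ p ^ a = 1 := by
    have := congrArg Subtype.val hya
    simpa using this
  have hn0 : orderOf k ≠ 0 := (orderOf_pos k).ne'
  obtain ⟨e, m, hpm, hnm⟩ := Nat.exists_eq_pow_mul_and_not_dvd hn0 p (Fact.out : p.Prime).ne_one
  have hxK : k ^ m ∈ K := K.pow_mem hkK m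
  have hxp : ∃ a : ℕ, (k ^ m) ^ p ^ a = 1 := by
    refine ⟨e, ?_⟩
    rw [← pow_mul, mul_comm, ← hnm]
    exact pow_orderOf_eq_one k
  have hcent : π (k ^ m) ∈ Subgroup.centralizer ((K.map π : Subgroup _) : Set _) :=
    hcon _ hxK hxp
  have hcop : m.Coprime (orderOf ybar) := by
    have h1 : orderOf ybar ∣ p ^ a := orderOf_dvd_of_pow_eq_one hya'
    have h2 : m.Coprime (p ^ a) :=
      Nat.Coprime.pow_right a (coprime_card_of_not_dvd hpm)
    exact Nat.Coprime.coprime_dvd_right h1 h2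
  obtain ⟨j, hj⟩ := exists_pow_eq_self_of_coprime hcop
  have hyc : ybar ∈ Subgroup.centralizer ((K.map π : Subgroup _) : Set _) := by
    rw [← hj, ← hky, ← map_pow]
    exact Subgroup.pow_mem _ hcent j
  rw [Subgroup.mem_center_iff]
  intro g
  apply Subtype.ext
  exact Subgroup.mem_centralizer_iff.mp hyc g g.2

/-- A `p`-element of `N` is `N`-conjugate into any Sylow `p`-subgroup of `N`. -/
theorem exists_conj_mem_of_isSylowIn [Finite G] {p : ℕ} [Fact p.Prime] {S N : Subgroup G}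
    (hS : IsSylowIn p S N) {x : G} (hxN : x ∈ N) (hx : ∃ a : ℕ, x ^ p ^ a = 1) :
    ∃ m ∈ N, m * x * m⁻¹ ∈ S := by
  obtain ⟨T, hT⟩ := exists_sylow_of_isSylowIn hS
  obtain ⟨a, ha⟩ := hx
  have hpg : IsPGroup p ↥(Subgroup.zpowers (⟨x, hxN⟩ : ↥N)) := by
    rintro ⟨g, hg⟩
    obtain ⟨k, rfl⟩ := Subgroup.mem_zpowers_iff.mp hg
    refine ⟨a, ?_⟩
    apply Subtype.ext
    have h1 : (⟨x, hxN⟩ : ↥N) ^ p ^ a = 1 := Subtype.ext (by simpa using ha)
    simp only [Subgroup.coe_pow, Subgroup.coe_one]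
    rw [← zpow_natCast, ← zpow_mul, mul_comm, zpow_mul, zpow_natCast, h1, one_zpow]
  obtain ⟨Q, hQ⟩ := hpg.exists_le_sylow
  obtain ⟨n, hn⟩ := MulAction.exists_smul_eq ↥N Q T
  refine ⟨n, n.2, ?_⟩
  rw [← hT, ← hn, sylow_smul_map_subtype, mem_cj]
  have h1 : (n : G)⁻¹ * ((n : G) * x * (n : G)⁻¹) * (n : G) = x := by group
  rw [h1]
  exact ⟨⟨x, hxN⟩, hQ (Subgroup.mem_zpowers _), rfl⟩

/-- `O_{p',p}(G)` normalizes every `p`-component. -/
theorem IsPComponent.pPrimePCore_le_normalizer [Finite G] {p : ℕ} [Fact p.Prime] {K : Subgroup G}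
    (hK : IsPComponent p K) : pPrimePCore p G ≤ Subgroup.normalizer (K : Set G) := by
  intro g hg
  apply IsPComponent.mem_normalizer_of_map_mem_centralizer hK
  have hKbar := IsPComponent.isComponent_map hK
  have hchar := Cfsg.Agent.Lib.pCore_characteristic (G := G ⧸ pPrimeCore p G) p
  have hnorm : (pCore p (G ⧸ pPrimeCore p G)).Normal := inferInstance
  have hpg : IsPGroup p ↥(pCore p (G ⧸ pPrimeCore p G)) := Cfsg.Agent.Lib.isPGroup_pCore p
  have hnil : Group.IsNilpotent ↥(pCore p (G ⧸ pPrimeCore p G)) := hpg.isNilpotent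
  have hsolv : Group.IsSolvable ↥(pCore p (G ⧸ pPrimeCore p G)) := inferInstance
  have hcomm := Cfsg.Agent.Helper21.IsComponent.commutator_eq_bot_of_isSolvable hKbar
    (pCore p (G ⧸ pPrimeCore p G)) hsolv (by rw [Subgroup.normalizer_eq_top]; exact le_top)
  rw [Subgroup.commutator_comm, Subgroup.commutator_eq_bot_iff_le_centralizer] at hcomm
  exact hcomm hg

/-- The centralizer of a Sylow `p`-subgroup of `L_{p'}(G) O_{p',p}(G)` normalizes every
`p`-component. -/
theorem IsPComponent.centralizer_le_normalizer_of_isSylowIn [Finite G] {p : ℕ} [Fact p.Prime]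
    {K : Subgroup G} (hK : IsPComponent p K) {S : Subgroup G}
    (hS : IsSylowIn p S (pLayer p G ⊔ pPrimePCore p G)) :
    Subgroup.centralizer (S : Set G) ≤ Subgroup.normalizer (K : Set G) := by
  intro d hd
  by_contra hdn
  set π := QuotientGroup.mk' (pPrimeCore p G) with hπ
  obtain ⟨x, hxK, hxp, hxnc⟩ := exists_pElement_map_not_mem_centralizer hK
  have hM : pLayer p G ⊔ pPrimePCore p G ≤ Subgroup.normalizer (K : Set G) :=
    sup_le (IsPComponent.pLayer_le_normalizer hK) (IsPComponent.pPrimePCore_le_normalizer hK)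
  have hxM : x ∈ pLayer p G ⊔ pPrimePCore p G :=
    Subgroup.mem_sup_left (IsPComponent.le_pLayer hK hxK)
  obtain ⟨m, hmM, hmS⟩ := exists_conj_mem_of_isSylowIn hS hxM hxp
  have hmN := hM hmM
  have hmK : ∀ k ∈ K, m * k * m⁻¹ ∈ K := fun k hk =>
    (Subgroup.mem_normalizer_iff.mp hmN k).mp hk
  have hd' : d * (m * x * m⁻¹) * d⁻¹ = m * x * m⁻¹ := by
    have := Subgroup.mem_centralizer_iff.mp hd _ hmS
    rw [← this]; group
  have hKbar := IsPComponent.isComponent_map hK
  have hne : (K.map π).map (MulAut.conj (π d)).toMonoidHom ≠ K.map π :=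
    fun h => hdn (IsPComponent.mem_normalizer_of_map hK h)
  have hcomm := Cfsg.Agent.Helper22.IsComponent.commutator_eq_bot_of_ne
    (isComponent_map_mulEquiv' (MulAut.conj (π d)) hKbar) hKbar hne
  rw [Subgroup.commutator_eq_bot_iff_le_centralizer] at hcomm
  have h1 : π (m * x * m⁻¹) ∈ (K.map π).map (MulAut.conj (π d)).toMonoidHom := by
    refine ⟨π (m * x * m⁻¹), Subgroup.mem_map_of_mem π (hmK x hxK), ?_⟩
    have h0 : (MulAut.conj (π d)).toMonoidHom (π (m * x * m⁻¹)) = π (d * (m * x * m⁻¹) * d⁻¹) := by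
      simp [MulAut.conj_apply]
    rw [h0, hd']
  have h2 := hcomm h1
  apply hxnc
  rw [Subgroup.mem_centralizer_iff]
  rintro _ ⟨k, hk, rfl⟩
  have h3 := Subgroup.mem_centralizer_iff.mp h2 (π (m * k * m⁻¹))
    (Subgroup.mem_map_of_mem π (hmK k hk))
  simp only [map_mul, map_inv] at h3
  have h4 : (π m)⁻¹ * (π m * π k * (π m)⁻¹ * (π m * π x * (π m)⁻¹)) * π m =
      (π m)⁻¹ * (π m * π x * (π m)⁻¹ * (π m * π k * (π m)⁻¹)) * π m := by rw [h3]
  have h5 : π k * π x = π x * π k := by simpa [mul_assoc] using h4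
  exact h5

end Cfsg.Agent.Helper23
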