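import Cfsg.Agent.Helper39.U34.Data

/-!
# Piece (E) of helper39's plan for S3663 (board #9231): explicit elements of `SU_3(4)`
-/

set_option autoImplicit false

namespace Cfsg.Agent.Helper23.U34E

open Cfsg.Agent.Helper39.U34

theorem frob3 (a b c : GF16) : (a + b + c) ^ 4 = a ^ 4 + b ^ 4 + c ^ 4 := by
  rw [GF16.frob_add, GF16.frob_add]

theorem mem_SU_of (A : Matrix (Fin 3) (Fin 3) GF16) (hdet : A.det = 1)
    (h : ∀ j k : Fin 3, ∑ i, A i j * (A i k) ^ 4 = if j = k then 1 else 0) :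
    (⟨A, hdet⟩ : Matrix.SpecialLinearGroup (Fin 3) GF16) ∈ Cfsg.SU 3 GF16 4 := by
  have h00 : A 0 0 * A 0 0 ^ 4 + A 1 0 * A 1 0 ^ 4 + A 2 0 * A 2 0 ^ 4 = 1 := by
    simpa [Fin.sum_univ_three] using h 0 0
  have h01 : A 0 0 * A 0 1 ^ 4 + A 1 0 * A 1 1 ^ 4 + A 2 0 * A 2 1 ^ 4 = 0 := by
    simpa [Fin.sum_univ_three] using h 0 1
  have h02 : A 0 0 * A 0 2 ^ 4 + A 1 0 * A 1 2 ^ 4 + A 2 0 * A 2 2 ^ 4 = 0 := by
    simpa [Fin.sum_univ_three] using h 0 2
  have h10 : A 0 1 * A 0 0 ^ 4 + A 1 1 * A 1 0 ^ 4 + A 2 1 * A 2 0 ^ 4 = 0 := by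
    simpa [Fin.sum_univ_three] using h 1 0
  have h11 : A 0 1 * A 0 1 ^ 4 + A 1 1 * A 1 1 ^ 4 + A 2 1 * A 2 1 ^ 4 = 1 := by
    simpa [Fin.sum_univ_three] using h 1 1
  have h12 : A 0 1 * A 0 2 ^ 4 + A 1 1 * A 1 2 ^ 4 + A 2 1 * A 2 2 ^ 4 = 0 := by
    simpa [Fin.sum_univ_three] using h 1 2
  have h20 : A 0 2 * A 0 0 ^ 4 + A 1 2 * A 1 0 ^ 4 + A 2 2 * A 2 0 ^ 4 = 0 := by
    simpa [Fin.sum_univ_three] using h 2 0
  have h21 : A 0 2 * A 0 1 ^ 4 + A 1 2 * A 1 1 ^ 4 + A 2 2 * A 2 1 ^ 4 = 0 := by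
    simpa [Fin.sum_univ_three] using h 2 1
  have h22 : A 0 2 * A 0 2 ^ 4 + A 1 2 * A 1 2 ^ 4 + A 2 2 * A 2 2 ^ 4 = 1 := by
    simpa [Fin.sum_univ_three] using h 2 2
  intro u v
  show Cfsg.hermForm 3 GF16 4 (A.mulVec u) (A.mulVec v) = Cfsg.hermForm 3 GF16 4 u v
  simp only [Cfsg.hermForm, Matrix.mulVec, dotProduct, Fin.sum_univ_three]
  rw [frob3, frob3, frob3]
  simp only [mul_pow]
  linear_combination (u 0 * v 0 ^ 4) * h00 + (u 0 * v 1 ^ 4) * h01 + (u 0 * v 2 ^ 4) * h02 +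
    (u 1 * v 0 ^ 4) * h10 + (u 1 * v 1 ^ 4) * h11 + (u 1 * v 2 ^ 4) * h12 +
    (u 2 * v 0 ^ 4) * h20 + (u 2 * v 1 ^ 4) * h21 + (u 2 * v 2 ^ 4) * h22

/-- the element of `G0` with a given matrix -/
def mk (A : Matrix (Fin 3) (Fin 3) GF16) (hdet : A.det = 1)
    (h : ∀ j k : Fin 3, ∑ i, A i j * (A i k) ^ 4 = if j = k then 1 else 0) : G0 :=
  ⟨⟨A, hdet⟩, mem_SU_of A hdet h⟩

theorem mat_mk (A : Matrix (Fin 3) (Fin 3) GF16) (hdet : A.det = 1)
    (h : ∀ j k : Fin 3, ∑ i, A i j * (A i k) ^ 4 = if j = k then 1 else 0) :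
    mat (mk A hdet h) = A := rfl

theorem mat_pow (x : G0) (k : ℕ) : mat (x ^ k) = mat x ^ k := by
  unfold mat
  rw [Subgroup.coe_pow, Matrix.SpecialLinearGroup.coe_pow]

theorem mat_one : mat (1 : G0) = 1 := rfl

theorem mat_injective : Function.Injective mat := fun _ _ h => Subtype.ext (Subtype.ext h)

theorem pow_eq_one_iff (x : G0) (k : ℕ) : x ^ k = 1 ↔ mat x ^ k = 1 := by
  rw [← mat_pow, ← mat_one]
  exact mat_injective.eq_iff.symm

theorem det_m13 : m13.det = 1 := by rw [Matrix.det_fin_three]; decide +kernel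

theorem det_m10 : m10.det = 1 := by rw [Matrix.det_fin_three]; decide +kernel

theorem det_m15 : m15.det = 1 := by rw [Matrix.det_fin_three]; decide +kernel

theorem rel_m13 : ∀ j k : Fin 3, ∑ i, m13 i j * (m13 i k) ^ 4 = if j = k then 1 else 0 := by
  decide +kernel

theorem rel_m10 : ∀ j k : Fin 3, ∑ i, m10 i j * (m10 i k) ^ 4 = if j = k then 1 else 0 := by
  decide +kernel

theorem rel_m15 : ∀ j k : Fin 3, ∑ i, m15 i j * (m15 i k) ^ 4 = if j = k then 1 else 0 := by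
  decide +kernel

theorem exists_x13 : ∃ x : G0, mat x = m13 ∧ orderOf x = 13 := by
  refine ⟨mk m13 det_m13 rel_m13, rfl, ?_⟩
  have : Fact (Nat.Prime 13) := ⟨by norm_num⟩
  apply orderOf_eq_prime
  · rw [pow_eq_one_iff, mat_mk]; decide +kernel
  · intro e
    have := congrArg mat e
    rw [mat_mk, mat_one] at this
    revert this
    decide +kernel

theorem exists_z10 : ∃ z : G0, orderOf z = 10 := by
  refine ⟨mk m10 det_m10 rel_m10, ?_⟩
  apply orderOf_eq_of_pow_and_pow_div_prime (by norm_num)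
  · rw [pow_eq_one_iff, mat_mk]; decide +kernel
  · intro p hp hdvd
    have hle : p ≤ 10 := Nat.le_of_dvd (by norm_num) hdvd
    rw [Ne, pow_eq_one_iff, mat_mk]
    interval_cases p <;> first | (exfalso; revert hp; norm_num; done) | (exfalso; revert hdvd; norm_num; done) | decide +kernel

theorem exists_z15 : ∃ z : G0, orderOf z = 15 := by
  refine ⟨mk m15 det_m15 rel_m15, ?_⟩
  apply orderOf_eq_of_pow_and_pow_div_prime (by norm_num)
  · rw [pow_eq_one_iff, mat_mk]; decide +kernel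
  · intro p hp hdvd
    have hle : p ≤ 15 := Nat.le_of_dvd (by norm_num) hdvd
    rw [Ne, pow_eq_one_iff, mat_mk]
    interval_cases p <;> first | (exfalso; revert hp; norm_num; done) | (exfalso; revert hdvd; norm_num; done) | decide +kernel

set_option maxRecDepth 100000 in
theorem act_m13 (x : G0) (hx : mat x = m13) (i : Fin 65) : (act x i).1 = sigTab.getD i.1 0 := by
  unfold act
  rw [hx]
  revert i
  decide +kernel

end Cfsg.Agent.Helper23.U34E
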