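import Cfsg.Agent.Helper56.U35.Defs

/-!
# S2149 (minimal index of `PSU₃(5)`), piece (FIN) of helper56's farm: the final case analysis
-/

set_option autoImplicit false

namespace Cfsg.Agent.Helper23.U35

open MulAction Cfsg.Agent.Helper56.U35

variable {G : Type*} [Group G] {Ω : Type*} [MulAction G Ω]

/-- the centre of `P`, as a subgroup of `G` -/
def FIN_Z (P : Subgroup G) : Subgroup G := (Subgroup.center P).map P.subtype

theorem FIN_mem_Z_iff (P : Subgroup G) (z : G) :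
    z ∈ FIN_Z P ↔ z ∈ P ∧ ∀ v ∈ P, v * z = z * v := by
  unfold FIN_Z
  constructor
  · rintro ⟨x, hx, rfl⟩
    refine ⟨x.2, fun v hv => ?_⟩
    have := Subgroup.mem_center_iff.mp hx ⟨v, hv⟩
    exact congrArg Subtype.val this
  · rintro ⟨hz, h⟩
    exact ⟨⟨z, hz⟩, Subgroup.mem_center_iff.mpr fun g => Subtype.ext (h g.1 g.2), rfl⟩

theorem FIN_Z_le (P : Subgroup G) : FIN_Z P ≤ P := fun z hz => ((FIN_mem_Z_iff P z).1 hz).1

theorem FIN_card_Z (P : Subgroup G) : Nat.card (FIN_Z P) = Nat.card (Subgroup.center P) :=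
  Subgroup.card_map_of_injective P.subtype_injective

theorem FIN_Z_conj (P : Subgroup G) (b : G) (hb : ∀ u ∈ P, b * u * b⁻¹ ∈ P)
    (hb' : ∀ u ∈ P, b⁻¹ * u * b ∈ P) (z : G) (hz : z ∈ FIN_Z P) : b * z * b⁻¹ ∈ FIN_Z P := by
  rw [FIN_mem_Z_iff] at hz ⊢
  refine ⟨hb z hz.1, fun v hv => ?_⟩
  have h1 := hz.2 (b⁻¹ * v * b) (hb' v hv)
  calc v * (b * z * b⁻¹) = b * ((b⁻¹ * v * b) * z) * b⁻¹ := by group
    _ = b * (z * (b⁻¹ * v * b)) * b⁻¹ := by rw [h1]
    _ = b * z * b⁻¹ * v := by group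

/-- a subgroup of order `25` of a group `P` of order `125` with centre of order `5` contains the
centre -/
theorem FIN_Z_le_of_card25 [Finite G] (P M : Subgroup G) (hP : Nat.card P = 125)
    (hZ : Nat.card (FIN_Z P) = 5) (hMP : M ≤ P) (hM : Nat.card M = 25) : FIN_Z P ≤ M := by
  by_contra hZM
  have hNP : FIN_Z P ⊔ M ≤ P := sup_le (FIN_Z_le P) hMP
  have hMN : M ≤ FIN_Z P ⊔ M := le_sup_right
  have h1 : Nat.card M ∣ Nat.card (FIN_Z P ⊔ M : Subgroup G) := Subgroup.card_dvd_of_le hMN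
  have h2 : Nat.card (FIN_Z P ⊔ M : Subgroup G) ∣ Nat.card P := Subgroup.card_dvd_of_le hNP
  rw [hM] at h1; rw [hP] at h2
  obtain ⟨j, hj⟩ := h1
  have hj5 : j ∣ 5 := by
    rw [hj] at h2
    exact Nat.dvd_of_mul_dvd_mul_left (by norm_num : 0 < 25) (by simpa using h2)
  have hj' : j = 1 ∨ j = 5 := (Nat.dvd_prime (by norm_num)).1 hj5
  rcases hj' with rfl | rfl
  · have : M = FIN_Z P ⊔ M := Subgroup.eq_of_le_of_card_ge hMN (by rw [hj, hM])
    exact hZM (this ▸ le_sup_left)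
  · have hN : FIN_Z P ⊔ M = P := Subgroup.eq_of_le_of_card_ge hNP (by rw [hj, hP])
    have : Fact (Nat.Prime 5) := ⟨by norm_num⟩
    have hcomm : ∀ a b : M, a * b = b * a := fun a b =>
      (IsPGroup.isMulCommutative_of_card_eq_prime_sq (p := 5) (by rw [hM]; norm_num)).is_comm.comm a b
    have hcent : FIN_Z P ⊔ M ≤ Subgroup.centralizer (M : Set G) := by
      refine sup_le ?_ ?_
      · intro z hz
        rw [Subgroup.mem_centralizer_iff]
        intro m hm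
        exact ((FIN_mem_Z_iff P z).1 hz).2 m (hMP hm)
      · intro a ha
        rw [Subgroup.mem_centralizer_iff]
        intro m hm
        exact congrArg Subtype.val (hcomm ⟨m, hm⟩ ⟨a, ha⟩)
    have hMZ : M ≤ FIN_Z P := by
      intro m hm
      rw [FIN_mem_Z_iff]
      refine ⟨hMP hm, fun v hv => ?_⟩
      have hv' : v ∈ Subgroup.centralizer (M : Set G) := hcent (by rw [hN]; exact hv)
      rw [Subgroup.mem_centralizer_iff] at hv'
      exact (hv' m hm).symm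
    have := Subgroup.card_le_of_le hMZ
    omega

/-- a product decomposition from the orders -/
theorem FIN_exists_mul [Finite G] (P B Q : Subgroup G) (hPB : P ≤ B) (hQB : Q ≤ B)
    (hnorm : ∀ b ∈ B, ∀ u ∈ P, b * u * b⁻¹ ∈ P)
    (hcard : Nat.card Q * Nat.card P = Nat.card B * Nat.card (Q ⊓ P : Subgroup G))
    (c : G) (hc : c ∈ B) : ∃ h ∈ Q, ∃ p ∈ P, c = h * p := by
  classical
  let Pb : Subgroup B := P.subgroupOf B
  let Qb : Subgroup B := Q.subgroupOf B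
  have : Pb.Normal := ⟨fun n hn g => by
    rw [Subgroup.mem_subgroupOf] at hn ⊢
    simpa using hnorm g g.2 n hn⟩
  have hPb : Nat.card Pb = Nat.card P := Nat.card_congr (Subgroup.subgroupOfEquivOfLe hPB).toEquiv
  have hQb : Nat.card Qb = Nat.card Q := Nat.card_congr (Subgroup.subgroupOfEquivOfLe hQB).toEquiv
  have hI : Nat.card (Pb ⊓ Qb : Subgroup B) = Nat.card (Q ⊓ P : Subgroup G) := by
    have : Pb ⊓ Qb = (Q ⊓ P).subgroupOf B := by
      ext x; simp [Pb, Qb, Subgroup.mem_subgroupOf, and_comm]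
    rw [this]
    exact Nat.card_congr (Subgroup.subgroupOfEquivOfLe (inf_le_left.trans hQB)).toEquiv
  have h1 : Nat.card (Pb ⊓ Qb : Subgroup B) * Pb.relIndex Qb = Nat.card Qb := by
    rw [← Subgroup.inf_relIndex_right, ← Subgroup.relIndex_bot_left (Pb ⊓ Qb),
      ← Subgroup.relIndex_bot_left Qb]
    exact Subgroup.relIndex_mul_relIndex _ _ _ bot_le inf_le_right
  have h2 : Nat.card Pb * Pb.relIndex (Qb ⊔ Pb) = Nat.card (Qb ⊔ Pb : Subgroup B) := by
    rw [← Subgroup.relIndex_bot_left Pb, ← Subgroup.relIndex_bot_left (Qb ⊔ Pb)]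
    exact Subgroup.relIndex_mul_relIndex _ _ _ bot_le le_sup_right
  rw [Subgroup.relIndex_sup_right] at h2
  have h3 : Nat.card (Qb ⊔ Pb : Subgroup B) = Nat.card B := by
    have hpos : 0 < Nat.card (Q ⊓ P : Subgroup G) := Nat.card_pos
    apply Nat.eq_of_mul_eq_mul_right hpos
    rw [← hcard, ← h2, ← hQb, ← h1, hI, hPb]; ring
  have htop : Qb ⊔ Pb = ⊤ := (Subgroup.card_eq_iff_eq_top _).1 h3
  have hcm : (⟨c, hc⟩ : B) ∈ ((Qb ⊔ Pb : Subgroup B) : Set B) := by rw [htop]; trivial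
  rw [Subgroup.mul_normal] at hcm
  obtain ⟨h, hh, p, hp, hhp⟩ := Set.mem_mul.1 hcm
  exact ⟨h, hh, p, hp, by simpa using (congrArg Subtype.val hhp).symm⟩

/-- the case `|H ⊓ P| = 5`, `|H ⊓ B| = 40`: a noncentral `u` commuting with `c u c⁻¹` -/
theorem FIN_commute_of_card5 [Finite G] (P B H : Subgroup G) (hPB : P ≤ B)
    (hnorm : ∀ b ∈ B, ∀ u ∈ P, b * u * b⁻¹ ∈ P)
    (hP : Nat.card P = 125) (hB : Nat.card B = 1000)
    (hHB : Nat.card (H ⊓ B : Subgroup G) = 40) (hHP : Nat.card (H ⊓ P : Subgroup G) = 5)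
    (hZ : Nat.card (FIN_Z P) = 5) (hcomm : commutator P ≤ Subgroup.center P)
    (hZH : ¬ FIN_Z P ≤ H) (c : G) (hc : c ∈ B) :
    ∃ u ∈ P, (∃ v ∈ P, u * v ≠ v * u) ∧ Commute u (c * u * c⁻¹) := by
  have : Fact (Nat.Prime 5) := ⟨by norm_num⟩
  have hMne : (H ⊓ P : Subgroup G) ≠ ⊥ := by
    intro h; rw [h] at hHP; simp at hHP
  obtain ⟨⟨u, hu⟩, hu1⟩ := (Subgroup.ne_bot_iff_exists_ne_one).1 hMne
  have hu1' : u ≠ 1 := fun h => hu1 (Subtype.ext h)
  have huH : u ∈ H := hu.1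
  have huP : u ∈ P := hu.2
  have huZ : u ∉ FIN_Z P := by
    intro huZ
    have hd : Nat.card (FIN_Z P ⊓ (H ⊓ P) : Subgroup G) ∣ 5 :=
      hZ ▸ Subgroup.card_dvd_of_le inf_le_left
    rcases (Nat.dvd_prime (by norm_num)).1 hd with h | h
    · rw [Subgroup.card_eq_one] at h
      have : u ∈ (FIN_Z P ⊓ (H ⊓ P) : Subgroup G) := ⟨huZ, hu⟩
      rw [h] at this
      exact hu1' (Subgroup.mem_bot.1 this)
    · have : FIN_Z P ⊓ (H ⊓ P) = FIN_Z P :=
        Subgroup.eq_of_le_of_card_ge inf_le_left (by rw [h, hZ])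
      exact hZH (fun z hz => ((by rw [this]; exact hz : z ∈ FIN_Z P ⊓ (H ⊓ P)).2).1)
  have hnc : ∃ v ∈ P, u * v ≠ v * u := by
    by_contra hcon
    push Not at hcon
    exact huZ ((FIN_mem_Z_iff P u).2 ⟨huP, fun v hv => (hcon v hv).symm⟩)
  refine ⟨u, huP, hnc, ?_⟩
  have hQP : (H ⊓ B) ⊓ P = H ⊓ P := by rw [inf_assoc, inf_eq_right.2 hPB]
  obtain ⟨h, hh, p, hp, rfl⟩ := FIN_exists_mul P B (H ⊓ B) hPB inf_le_right hnorm
    (by rw [hQP, hHB, hP, hB, hHP]) c hc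
  have hd : u⁻¹ * p * u * p⁻¹ ∈ FIN_Z P := by
    have := hcomm (Subgroup.commutator_mem_commutator (Subgroup.mem_top (⟨u, huP⟩⁻¹ : P))
      (Subgroup.mem_top (⟨p, hp⟩ : P)))
    refine ⟨_, this, ?_⟩
    simp [commutatorElement_def]
  have hinvB : h⁻¹ ∈ B := B.inv_mem hh.2
  have hd' : h * (u⁻¹ * p * u * p⁻¹) * h⁻¹ ∈ FIN_Z P :=
    FIN_Z_conj P h (hnorm h hh.2) (fun x hx => by simpa using hnorm h⁻¹ hinvB x hx) _ hd
  have hM : h * u * h⁻¹ ∈ (H ⊓ P : Subgroup G) :=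
    ⟨H.mul_mem (H.mul_mem hh.1 huH) (H.inv_mem hh.1), hnorm h hh.2 u huP⟩
  have hcyc : IsCyclic (H ⊓ P : Subgroup G) := isCyclic_of_prime_card hHP
  have hc1 : u * (h * u * h⁻¹) = (h * u * h⁻¹) * u := by
    have := (IsCyclic.isMulCommutative (α := (H ⊓ P : Subgroup G))).is_comm.comm ⟨u, hu⟩ ⟨_, hM⟩
    exact congrArg Subtype.val this
  have hc2 : u * (h * (u⁻¹ * p * u * p⁻¹) * h⁻¹) = (h * (u⁻¹ * p * u * p⁻¹) * h⁻¹) * u :=
    ((FIN_mem_Z_iff P _).1 hd').2 u huP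
  have hdecomp : h * p * u * (h * p)⁻¹ = (h * u * h⁻¹) * (h * (u⁻¹ * p * u * p⁻¹) * h⁻¹) := by
    group
  rw [hdecomp]
  generalize h * u * h⁻¹ = A at hc1
  generalize h * (u⁻¹ * p * u * p⁻¹) * h⁻¹ = E at hc2
  show u * (A * E) = (A * E) * u
  calc u * (A * E) = (u * A) * E := (mul_assoc _ _ _).symm
    _ = (A * u) * E := by rw [hc1]
    _ = A * (u * E) := mul_assoc _ _ _
    _ = A * (E * u) := by rw [hc2]
    _ = A * E * u := (mul_assoc _ _ _).symm

/-- (FIN) the lower bound, from the other pieces (given as hypotheses) -/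
theorem index_ge [IsSimpleGroup G] (D : TIData G Ω)
    (hstb : Nat.card (stabilizer G D.o) = 1000)
    (htrn : ∀ H : Subgroup G, 5 ∣ Nat.card H → 1008 < Nat.card H → ∀ w : Ω, ∃ h ∈ H, h • D.o = w)
    (hidx : ∀ H : Subgroup G, (∀ w : Ω, ∃ h ∈ H, h • D.o = w) →
      Nat.card H = 126 * Nat.card (H ⊓ stabilizer G D.o : Subgroup G))
    (hquo : ∀ H : Subgroup G, ∃ k : ℕ, k ∣ 8 ∧
      Nat.card (H ⊓ stabilizer G D.o : Subgroup G) = Nat.card (H ⊓ D.P : Subgroup G) * k)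
    (hncl : ∀ H : Subgroup G, (∀ w : Ω, ∃ h ∈ H, h • D.o = w) → ∀ K : Subgroup G, K ≠ ⊥ → K ≤ H →
      (∀ b ∈ stabilizer G D.o, ∀ k ∈ K, b * k * b⁻¹ ∈ K) → H = ⊤)
    (hp3 : Nat.card (Subgroup.center D.P) = 5 ∧ commutator D.P ≤ Subgroup.center D.P)
    (c : G) (hc : c • D.o = D.o)
    (hna : ∃ a ∈ D.P, ∃ b ∈ D.P, a * b ≠ b * a)
    (hirr : ∀ u ∈ D.P, (∃ v ∈ D.P, u * v ≠ v * u) → ¬ Commute u (c * u * c⁻¹))
    (H : Subgroup G) (hH : H ≠ ⊤) : 50 ≤ H.index := by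
  by_contra hlt
  push Not at hlt
  have hfin : Finite G := Nat.finite_of_card_ne_zero (by rw [D.cardG]; norm_num)
  have hmul : Nat.card H * H.index = 126000 := by rw [← D.cardG]; exact H.card_mul_index
  have hidx_ne_one : H.index ≠ 1 := fun h => hH (Subgroup.index_eq_one.mp h)
  have hidx_pos : 0 < H.index := Nat.pos_of_ne_zero Subgroup.index_ne_zero_of_finite
  have h5 : 5 ∣ Nat.card H := by
    by_contra h5
    have hcop : Nat.Coprime (5 ^ 3) (Nat.card H) :=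
      Nat.Coprime.pow_left 3 ((Nat.Prime.coprime_iff_not_dvd (by norm_num)).2 h5)
    have hdvd : 5 ^ 3 ∣ Nat.card H * H.index := by rw [hmul]; norm_num
    have := Nat.le_of_dvd hidx_pos (hcop.dvd_of_dvd_mul_left hdvd)
    omega
  have hbig : 2520 < Nat.card H := by nlinarith
  have htr := htrn H h5 (by omega)
  have hcard := hidx H htr
  obtain ⟨k, hk8, hk⟩ := hquo H
  have hr : Nat.card (H ⊓ D.P : Subgroup G) ∣ 5 ^ 3 := by
    have : Nat.card (H ⊓ D.P : Subgroup G) ∣ Nat.card D.P := Subgroup.card_dvd_of_le inf_le_right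
    rw [D.cardP] at this
    simpa using this
  have hk' : k ≤ 8 := Nat.le_of_dvd (by norm_num) hk8
  have hZcard : Nat.card (FIN_Z D.P) = 5 := by rw [FIN_card_Z]; exact hp3.1
  have hPtop : ¬ D.P ≤ H := fun hPH => hH (hncl H htr D.P (by
      intro h; have := D.cardP; rw [h] at this; simp at this) hPH D.P_normal)
  have hZtop : ¬ FIN_Z D.P ≤ H := fun hZH => hH (hncl H htr (FIN_Z D.P) (by
      intro h; rw [h] at hZcard; simp at hZcard) hZH (fun b hb z hz =>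
        FIN_Z_conj D.P b (D.P_normal b hb) (fun x hx => by
          simpa using D.P_normal b⁻¹ (inv_mem hb) x hx) z hz))
  obtain ⟨m, hm3, hm⟩ := (Nat.dvd_prime_pow (by norm_num)).1 hr
  interval_cases m
  · -- r = 1
    rw [hm] at hk; rw [hk] at hcard; omega
  · -- r = 5, so k = 8
    rw [hm] at hk
    have hk5 : 5 ≤ k := by rw [hk] at hcard; omega
    have hk8' : k = 8 := by
      interval_cases k <;> omega
    subst hk8'
    obtain ⟨u, huP, hnc, hcm⟩ := FIN_commute_of_card5 D.P (stabilizer G D.o) H D.P_le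
      D.P_normal D.cardP hstb (by rw [hk]; norm_num) (by rw [hm]; norm_num) hZcard hp3.2 hZtop c
      (mem_stabilizer_iff.2 hc)
    exact hirr u huP hnc hcm
  · -- r = 25
    exact hZtop ((FIN_Z_le_of_card25 D.P (H ⊓ D.P) D.cardP hZcard inf_le_right
      (by rw [hm]; norm_num)).trans inf_le_left)
  · -- r = 125
    have : H ⊓ D.P = D.P :=
      Subgroup.eq_of_le_of_card_ge inf_le_right (by rw [hm, D.cardP]; norm_num)
    exact hPtop (by rw [← this]; exact inf_le_left)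

end Cfsg.Agent.Helper23.U35
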