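import Mathlib
import Cfsg.Agent.Helper61.W2pDefs
import Cfsg.Agent.Helper55.W2pFA
import Cfsg.Agent.Helper79.Linear

/-! (B3) of helper61's WANTED #7019 (S0720, Wielandt degree 2p): `not_linear`
(+ a local copy of (NN) `no_normal_p'`). (helper23) -/

set_option autoImplicit false

namespace Cfsg.Agent.Helper23.W2p

open Cfsg Cfsg.Agent.Helper61.W2p
open scoped ComplexConjugate

section partB

variable {G : Type*} [Group G] [Fintype G] {Ω : Type*} [Fintype Ω] [MulAction G Ω] {p : ℕ}

/-- `2p` divides `|G|` -/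
theorem two_mul_dvd_card (S : Setup G Ω p) : 2 * p ∣ Nat.card G := by
  have := S.hprim
  have hne : Nonempty Ω := by
    rw [← Fintype.card_pos_iff, S.hcard]; exact Nat.mul_pos two_pos S.hp.pos
  obtain ⟨a⟩ := hne
  have hidx : (MulAction.stabilizer G a).index = 2 * p := by
    rw [MulAction.index_stabilizer, MulAction.orbit_eq_univ G a, Set.ncard_univ,
      Nat.card_eq_fintype_card, S.hcard]
  rw [← hidx]
  exact Subgroup.index_dvd_card _

/-- (NN), local copy: no normal subgroup of order `p` -/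
theorem no_normal_p' (S : Setup G Ω p) : ∀ H : Subgroup G, H.Normal → Nat.card H ≠ p := by
  intro H hH hcard
  have := S.hprim
  have := S.hfaith
  have hne : Nonempty Ω := by
    rw [← Fintype.card_pos_iff, S.hcard]; exact Nat.mul_pos two_pos S.hp.pos
  obtain ⟨a⟩ := hne
  have hfp : MulAction.fixedPoints H Ω ≠ Set.univ := by
    intro h
    have hbot : H = ⊥ := by
      rw [Subgroup.eq_bot_iff_forall]
      intro g hg
      apply FaithfulSMul.eq_of_smul_eq_smul (α := Ω)
      intro b
      have hb : b ∈ MulAction.fixedPoints H Ω := by rw [h]; exact Set.mem_univ b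
      rw [one_smul]
      exact hb ⟨g, hg⟩
    rw [hbot, Subgroup.card_bot] at hcard
    exact S.hp.one_lt.ne hcard
  have htr : MulAction.IsPretransitive H Ω :=
    MulAction.IsQuasiPreprimitive.isPretransitive_of_normal hfp
  have hidx : (MulAction.stabilizer H a).index = 2 * p := by
    rw [MulAction.index_stabilizer, MulAction.orbit_eq_univ H a, Set.ncard_univ,
      Nat.card_eq_fintype_card, S.hcard]
  have hdvd : 2 * p ∣ p := by
    rw [← hidx]
    conv_rhs => rw [← hcard]
    exact Subgroup.index_dvd_card _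
  have := Nat.le_of_dvd S.hp.pos hdvd
  have := S.hp.pos
  omega

/-- (B3) no non-principal linear constituent -/
theorem not_linear (S : Setup G Ω p) (θ : G → ℂ) (hθ : IsIrrCharacter G θ)
    (hθ1 : θ ≠ fun _ => 1) (hc : classInner (pc G Ω) θ ≠ 0) : θ 1 ≠ 1 := by
  intro h1
  have hchar : IsCharacter G θ := by
    obtain ⟨n, ρ, _, hρ⟩ := hθ
    exact ⟨n, ρ, hρ⟩
  have hmul := Cfsg.Agent.Helper79.isCharacter_linear_mul hchar h1
  have hfa := Cfsg.Agent.Helper55.W2p.faithful_of_constituent S θ hθ hθ1 hc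
  -- `G` is abelian
  have hcomm : ∀ g h : G, g * h = h * g := by
    intro g h
    have h2 : θ (g * h * (h * g)⁻¹) = θ 1 := by
      rw [mul_inv_rev, hmul, hmul, hmul]
      have hg : θ g * θ g⁻¹ = 1 := by rw [← hmul, mul_inv_cancel, h1]
      have hh : θ h * θ h⁻¹ = 1 := by rw [← hmul, mul_inv_cancel, h1]
      rw [h1]
      calc θ g * θ h * (θ g⁻¹ * θ h⁻¹) = (θ g * θ g⁻¹) * (θ h * θ h⁻¹) := by ring
        _ = 1 := by rw [hg, hh, mul_one]
    have := hfa _ h2
    exact mul_inv_eq_one.mp this
  -- an element of order `p`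
  have hpdvd : p ∣ Nat.card G := Dvd.dvd.trans (Dvd.intro_left 2 rfl) (two_mul_dvd_card S)
  haveI : Fact p.Prime := ⟨S.hp⟩
  obtain ⟨x, hx⟩ := exists_prime_orderOf_dvd_card' p hpdvd
  have hN : (Subgroup.zpowers x).Normal := by
    constructor
    intro n hn g
    have : g * n * g⁻¹ = n := by rw [hcomm g n, mul_assoc, mul_inv_cancel, mul_one]
    rw [this]; exact hn
  exact no_normal_p' S (Subgroup.zpowers x) hN (by rw [Nat.card_zpowers, hx])

end partB

end Cfsg.Agent.Helper23.W2p
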