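import Mathlib
import Cfsg.Agent.Helper61.W2pDefs

/-! (B5a) of helper61's WANTED #7019 (S0720, Wielandt degree 2p): `split_cases`. (helper23) -/

set_option autoImplicit false

namespace Cfsg.Agent.Helper23.W2p

open Cfsg Cfsg.Agent.Helper61.W2p
open scoped ComplexConjugate

/-- combinatorial core: weights `m * d` summing to `2f`, with `d ≥ f` on the support of `m` -/
theorem split_core {ι : Type*} [DecidableEq ι] (R : Finset ι) (m d : ι → ℕ) (f : ℕ) (hf : 1 ≤ f)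
    (hsum : ∑ ψ ∈ R, m ψ * d ψ = 2 * f) (hd : ∀ ψ ∈ R, m ψ ≠ 0 → f ≤ d ψ) :
    (∃ ψ₁ ∈ R, m ψ₁ = 1 ∧ d ψ₁ = 2 * f ∧ ∀ ψ ∈ R, ψ ≠ ψ₁ → m ψ = 0) ∨
    (∃ ψ₁ ∈ R, m ψ₁ = 2 ∧ d ψ₁ = f ∧ ∀ ψ ∈ R, ψ ≠ ψ₁ → m ψ = 0) ∨
    (∃ ψ₁ ∈ R, ∃ ψ₂ ∈ R, ψ₁ ≠ ψ₂ ∧ m ψ₁ = 1 ∧ m ψ₂ = 1 ∧ d ψ₁ = f ∧ d ψ₂ = f ∧
      ∀ ψ ∈ R, ψ ≠ ψ₁ → ψ ≠ ψ₂ → m ψ = 0) := by
  -- a first constituent
  have h1 : ∃ ψ₁ ∈ R, m ψ₁ ≠ 0 := by
    by_contra h
    push Not at h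
    have : ∑ ψ ∈ R, m ψ * d ψ = 0 :=
      Finset.sum_eq_zero fun ψ hψ => by rw [h ψ hψ, zero_mul]
    omega
  obtain ⟨ψ₁, hψ₁, hm₁⟩ := h1
  have hd₁ := hd ψ₁ hψ₁ hm₁
  have hs1 := Finset.add_sum_erase R (fun ψ => m ψ * d ψ) hψ₁
  have hmd₁ : d ψ₁ ≤ m ψ₁ * d ψ₁ := Nat.le_mul_of_pos_left _ (Nat.pos_of_ne_zero hm₁)
  by_cases h2 : ∃ ψ₂ ∈ R.erase ψ₁, m ψ₂ ≠ 0
  · obtain ⟨ψ₂, hψ₂, hm₂⟩ := h2
    have hψ₂R : ψ₂ ∈ R := Finset.mem_of_mem_erase hψ₂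
    have hne : ψ₂ ≠ ψ₁ := Finset.ne_of_mem_erase hψ₂
    have hd₂ := hd ψ₂ hψ₂R hm₂
    have hs2 := Finset.add_sum_erase (R.erase ψ₁) (fun ψ => m ψ * d ψ) hψ₂
    have hmd₂ : d ψ₂ ≤ m ψ₂ * d ψ₂ := Nat.le_mul_of_pos_left _ (Nat.pos_of_ne_zero hm₂)
    have hrest : ∑ ψ ∈ (R.erase ψ₁).erase ψ₂, m ψ * d ψ = 0 := by omega
    have e1 : m ψ₁ * d ψ₁ = f := by omega
    have e2 : m ψ₂ * d ψ₂ = f := by omega
    have hm1 : m ψ₁ = 1 := by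
      by_contra h
      have : 2 ≤ m ψ₁ := by omega
      have : 2 * d ψ₁ ≤ m ψ₁ * d ψ₁ := Nat.mul_le_mul_right _ this
      omega
    have hm2 : m ψ₂ = 1 := by
      by_contra h
      have : 2 ≤ m ψ₂ := by omega
      have : 2 * d ψ₂ ≤ m ψ₂ * d ψ₂ := Nat.mul_le_mul_right _ this
      omega
    right; right
    refine ⟨ψ₁, hψ₁, ψ₂, hψ₂R, hne.symm, hm1, hm2, ?_, ?_, ?_⟩
    · rw [hm1, one_mul] at e1; exact e1
    · rw [hm2, one_mul] at e2; exact e2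
    · intro ψ hψ hn1 hn2
      have hmem : ψ ∈ (R.erase ψ₁).erase ψ₂ :=
        Finset.mem_erase.mpr ⟨hn2, Finset.mem_erase.mpr ⟨hn1, hψ⟩⟩
      have h0 := (Finset.sum_eq_zero_iff.mp hrest) ψ hmem
      by_contra hm
      have := hd ψ hψ hm
      rcases Nat.mul_eq_zero.mp h0 with h | h
      · exact hm h
      · omega
  · push Not at h2
    have hrest : ∑ ψ ∈ R.erase ψ₁, m ψ * d ψ = 0 :=
      Finset.sum_eq_zero fun ψ hψ => by rw [h2 ψ hψ, zero_mul]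
    have e1 : m ψ₁ * d ψ₁ = 2 * f := by omega
    have hothers : ∀ ψ ∈ R, ψ ≠ ψ₁ → m ψ = 0 := fun ψ hψ hn =>
      h2 ψ (Finset.mem_erase.mpr ⟨hn, hψ⟩)
    have hm12 : m ψ₁ = 1 ∨ m ψ₁ = 2 := by
      by_contra h
      push Not at h
      have : 3 ≤ m ψ₁ := by
        have := Nat.pos_of_ne_zero hm₁
        omega
      have : 3 * d ψ₁ ≤ m ψ₁ * d ψ₁ := Nat.mul_le_mul_right _ this
      omega
    rcases hm12 with hm1 | hm2
    · left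
      refine ⟨ψ₁, hψ₁, hm1, ?_, hothers⟩
      rw [hm1, one_mul] at e1; exact e1
    · right; left
      refine ⟨ψ₁, hψ₁, hm2, ?_, hothers⟩
      rw [hm2] at e1; omega

section partB

variable {G : Type*} [Group G] [Fintype G] {Ω : Type*} [Fintype Ω] [MulAction G Ω] {p : ℕ}

open Cfsg.Agent.Helper12.PermCharBasics in
/-- (B5a) with `θ(1) = p` and the Brauer bound, the rest of `π` is irreducible of degree `p - 1`
or a sum of two irreducibles of degree `(p - 1)/2` -/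
theorem split_cases (S : Setup G Ω p) (θ : G → ℂ) (hθ : IsIrrCharacter G θ)
    (hθ1 : θ ≠ fun _ => 1) (hm : classInner (pc G Ω) θ = 1) (hd : θ 1 = p)
    (hB : ∀ χ : G → ℂ, IsIrrCharacter G χ → χ ≠ (fun _ => 1) → classInner (pc G Ω) χ ≠ 0 →
      ∃ n : ℕ, χ 1 = n ∧ p ≤ 2 * n + 1) :
    (∃ χ : G → ℂ, IsIrrCharacter G χ ∧ pc G Ω = fun g => 1 + θ g + χ g) ∨
    (∃ χ₁ χ₂ : G → ℂ, IsIrrCharacter G χ₁ ∧ IsIrrCharacter G χ₂ ∧
      χ₁ ≠ (fun _ => 1) ∧ χ₂ ≠ (fun _ => 1) ∧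
      (pc G Ω = fun g => 1 + θ g + χ₁ g + χ₂ g) ∧ 2 * χ₁ 1 + 1 = p ∧ 2 * χ₂ 1 + 1 = p) := by
  classical
  haveI : Finite (IrrCharacter G) := Helper74.irr_finite
  letI : Fintype (IrrCharacter G) := Fintype.ofFinite _
  haveI : MulAction.IsPretransitive G Ω := S.hprim.toIsPretransitive
  have hne : Nonempty Ω := by
    rw [← Fintype.card_pos_iff, S.hcard]; exact Nat.mul_pos two_pos S.hp.pos
  obtain ⟨a⟩ := hne
  -- `p = 2f + 1`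
  obtain ⟨f, hf⟩ : ∃ f, p = 2 * f + 1 := by
    rcases S.hp.eq_two_or_odd' with h | h
    · exact absurd h S.hodd
    · obtain ⟨k, hk⟩ := h; exact ⟨k, hk⟩
  have hf1 : 1 ≤ f := by
    have := S.hp.two_le
    rcases Nat.eq_zero_or_pos f with h | h
    · subst h; omega
    · exact h
  -- decomposition
  have hdec : ∀ g, pc G Ω g = ∑ ψ : IrrCharacter G, (mult Ω ψ : ℂ) * (ψ : G → ℂ) g := by
    intro g
    have h := congrFun (Helper74.isCharacter_eq_sum_irr (permChar_isCharacter (G := G) (Ω := Ω))) g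
    simp only [Finset.sum_apply, Pi.smul_apply, smul_eq_mul, mult_spec] at h
    exact h
  have hsum : ∑ ψ : IrrCharacter G, mult Ω ψ * deg ψ = 2 * p := by
    rw [sum_mult_deg, S.hcard]
  set t : IrrCharacter G := Helper74.irrTriv G with ht
  set θ' : IrrCharacter G := ⟨θ, hθ⟩ with hθ'
  have hmt : mult Ω t = 1 := mult_irrTriv a
  have hdt : deg t = 1 := deg_irrTriv
  have hmθ : mult Ω θ' = 1 := by
    have h := mult_spec (Ω := Ω) θ'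
    have h2 : classInner (permChar G Ω) (θ' : G → ℂ) = 1 := hm
    rw [h2] at h
    exact_mod_cast h.symm
  have hdθ : deg θ' = p := by
    have h := deg_spec θ'
    have h2 : (θ' : G → ℂ) 1 = (p : ℂ) := hd
    rw [h2] at h
    exact_mod_cast h.symm
  have hneθ : θ' ≠ t := by
    intro h
    apply hθ1
    have := congrArg Subtype.val h
    exact this
  -- the remaining constituents
  set R : Finset (IrrCharacter G) := (Finset.univ.erase t).erase θ' with hR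
  have hθmem : θ' ∈ Finset.univ.erase t := Finset.mem_erase.mpr ⟨hneθ, Finset.mem_univ _⟩
  have hsplitN : ∑ ψ : IrrCharacter G, mult Ω ψ * deg ψ =
      mult Ω t * deg t + (mult Ω θ' * deg θ' + ∑ ψ ∈ R, mult Ω ψ * deg ψ) := by
    rw [← Finset.add_sum_erase Finset.univ (fun ψ => mult Ω ψ * deg ψ) (Finset.mem_univ t),
      ← Finset.add_sum_erase (Finset.univ.erase t) (fun ψ => mult Ω ψ * deg ψ) hθmem]
  have hrest : ∑ ψ ∈ R, mult Ω ψ * deg ψ = 2 * f := by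
    rw [hsplitN, hmt, hdt, hmθ, hdθ] at hsum
    omega
  have hBd : ∀ ψ ∈ R, mult Ω ψ ≠ 0 → f ≤ deg ψ := by
    intro ψ hψ hmψ
    have hψθ : ψ ≠ θ' := Finset.ne_of_mem_erase hψ
    have hψt : ψ ≠ t := Finset.ne_of_mem_erase (Finset.mem_of_mem_erase hψ)
    have h1 : (ψ : G → ℂ) ≠ fun _ => 1 := by
      intro h
      apply hψt
      apply Subtype.ext
      exact h
    have h2 : classInner (pc G Ω) (ψ : G → ℂ) ≠ 0 := by
      have h := mult_spec (Ω := Ω) ψ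
      have h' : classInner (pc G Ω) (ψ : G → ℂ) = (mult Ω ψ : ℂ) := h
      rw [h']
      exact_mod_cast hmψ
    obtain ⟨n, hn, hpn⟩ := hB ψ ψ.2 h1 h2
    have h3 := deg_spec ψ
    rw [hn] at h3
    have : n = deg ψ := by exact_mod_cast h3
    omega
  have hsplitC : ∀ g, pc G Ω g = 1 + θ g + ∑ ψ ∈ R, (mult Ω ψ : ℂ) * (ψ : G → ℂ) g := by
    intro g
    rw [hdec g,
      ← Finset.add_sum_erase Finset.univ (fun ψ => (mult Ω ψ : ℂ) * (ψ : G → ℂ) g)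
        (Finset.mem_univ t),
      ← Finset.add_sum_erase (Finset.univ.erase t) (fun ψ => (mult Ω ψ : ℂ) * (ψ : G → ℂ) g) hθmem,
      hmt, hmθ]
    simp only [Nat.cast_one, one_mul]
    have : (t : G → ℂ) g = 1 := rfl
    rw [this, add_assoc]
  have hmemR : ∀ ψ ∈ R, (ψ : G → ℂ) ≠ fun _ => 1 := by
    intro ψ hψ h
    have hψt : ψ ≠ t := Finset.ne_of_mem_erase (Finset.mem_of_mem_erase hψ)
    apply hψt
    apply Subtype.ext
    exact h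
  have hpc : (p : ℂ) = 2 * (f : ℂ) + 1 := by rw [hf]; push_cast; ring
  rcases split_core R (fun ψ => mult Ω ψ) (fun ψ => deg ψ) f hf1 hrest hBd with
    ⟨ψ₁, hψ₁, hm1, hd1, hoth⟩ | ⟨ψ₁, hψ₁, hm2, hd1, hoth⟩ |
    ⟨ψ₁, hψ₁, ψ₂, hψ₂, hne12, hm1, hm2, hd1, hd2, hoth⟩
  · left
    refine ⟨ψ₁, ψ₁.2, ?_⟩
    funext g
    rw [hsplitC g, Finset.sum_eq_single_of_mem ψ₁ hψ₁ (fun ψ hψ hn => by
      rw [hoth ψ hψ hn, Nat.cast_zero, zero_mul])]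
    rw [hm1, Nat.cast_one, one_mul]
  · right
    refine ⟨ψ₁, ψ₁, ψ₁.2, ψ₁.2, hmemR ψ₁ hψ₁, hmemR ψ₁ hψ₁, ?_, ?_, ?_⟩
    · funext g
      rw [hsplitC g, Finset.sum_eq_single_of_mem ψ₁ hψ₁ (fun ψ hψ hn => by
        rw [hoth ψ hψ hn, Nat.cast_zero, zero_mul])]
      rw [hm2]
      push_cast
      ring
    · rw [deg_spec ψ₁, hpc]
      rw [hd1]
    · rw [deg_spec ψ₁, hpc]
      rw [hd1]
  · right
    refine ⟨ψ₁, ψ₂, ψ₁.2, ψ₂.2, hmemR ψ₁ hψ₁, hmemR ψ₂ hψ₂, ?_, ?_, ?_⟩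
    · funext g
      rw [hsplitC g, Finset.sum_eq_add_of_mem ψ₁ ψ₂ hψ₁ hψ₂ hne12 (fun ψ hψ hn => by
        rw [hoth ψ hψ hn.1 hn.2, Nat.cast_zero, zero_mul])]
      rw [hm1, hm2, Nat.cast_one, one_mul, one_mul]
      ring
    · rw [deg_spec ψ₁, hpc]
      rw [hd1]
    · rw [deg_spec ψ₂, hpc]
      rw [hd2]

end partB

end Cfsg.Agent.Helper23.W2p
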