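import Mathlib
import Cfsg.Agent.S0713

/-! (J1) of helper61's WANTED #7019 (S0720, Wielandt degree 2p): `two_trans_of_cycle`. (helper23) -/

set_option autoImplicit false

namespace Cfsg.Agent.Helper23.W2p

section partA

variable {α : Type*} [Fintype α] [DecidableEq α]

/-- multiple pretransitivity passes to overgroups (inside `Perm α`) -/
theorem isMultiplyPretransitive_mono {H G : Subgroup (Equiv.Perm α)} (hHG : H ≤ G) (n : ℕ)
    (hH : MulAction.IsMultiplyPretransitive H α n) : MulAction.IsMultiplyPretransitive G α n := by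
  rw [MulAction.isMultiplyPretransitive_iff] at hH ⊢
  intro x y
  obtain ⟨g, hg⟩ := hH x y
  refine ⟨⟨(g : Equiv.Perm α), hHG g.2⟩, ?_⟩
  rw [← hg]
  ext i
  rfl

/-- (J1) a primitive group of degree `2p` containing a `p`-cycle is doubly transitive -/
theorem two_trans_of_cycle {p : ℕ} (hp : p.Prime) (hodd : p ≠ 2) (hα : Fintype.card α = 2 * p)
    (G : Subgroup (Equiv.Perm α)) (hG : MulAction.IsPreprimitive G α) (g : Equiv.Perm α)
    (hg : g ∈ G) (hgc : g.IsCycle) (hgp : g.support.card = p) :
    MulAction.IsMultiplyPretransitive G α 2 := by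
  have hp3 : 3 ≤ p := by
    have := hp.two_le
    omega
  have hA : alternatingGroup α ≤ G :=
    Cfsg.Agent.S0713.result G hG hp (by omega) (by omega) hgc hgp hg
  have hcard : Nat.card α = 2 * p := by rw [Nat.card_eq_fintype_card, hα]
  have h1 := alternatingGroup.isMultiplyPretransitive α
  have h2 : MulAction.IsMultiplyPretransitive (alternatingGroup α) α 2 :=
    MulAction.isMultiplyPretransitive_of_le (n := Nat.card α - 2) (by omega) (Nat.sub_le _ _)
  exact isMultiplyPretransitive_mono hA 2 h2

end partA

end Cfsg.Agent.Helper23.W2p
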