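import Mathlib

/-! (J2) + (J3) of helper61's WANTED #7019 (S0720, Wielandt degree 2p): `cycle_of_fixed`, `exists_fixed_of_sq_dvd`. (helper23) -/
set_option autoImplicit false

namespace Cfsg.Agent.Helper23.W2p

section partA

variable {α : Type*} [Fintype α] [DecidableEq α]

/-- (J2) a permutation of order `p` on `2p` points with a fixed point is a `p`-cycle -/
theorem cycle_of_fixed {p : ℕ} (hp : p.Prime) (hα : Fintype.card α = 2 * p)
    (g : Equiv.Perm α) (hg : orderOf g = p) (a : α) (ha : g a = a) :
    g.IsCycle ∧ g.support.card = p := by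
  have hop : (orderOf g).Prime := by rw [hg]; exact hp
  obtain ⟨n, hn⟩ := Equiv.Perm.cycleType_prime_order hop
  rw [hg] at hn
  have hsum : g.support.card = (n + 1) * p := by
    rw [← Equiv.Perm.sum_cycleType, hn, Multiset.sum_replicate, smul_eq_mul]
  have hnot : a ∉ g.support := by
    rw [Equiv.Perm.mem_support]; exact fun h => h ha
  have hlt : g.support.card < Fintype.card α := by
    apply Finset.card_lt_card
    rw [Finset.ssubset_univ_iff]
    intro h
    exact hnot (h ▸ Finset.mem_univ a)
  have hn0 : n = 0 := by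
    rw [hsum, hα] at hlt
    by_contra h
    have h2 : 2 ≤ n + 1 := by omega
    have : 2 * p ≤ (n + 1) * p := Nat.mul_le_mul_right p h2
    omega
  subst hn0
  refine ⟨?_, by rw [hsum]; simp⟩
  rw [← Equiv.Perm.card_cycleType_eq_one, hn]
  simp

/-- (J3) if `p²` divides `|G|` then some element of order `p` of `G` has a fixed point -/
theorem exists_fixed_of_sq_dvd {p : ℕ} (hp : p.Prime) (hodd : p ≠ 2)
    (hα : Fintype.card α = 2 * p) (G : Subgroup (Equiv.Perm α))
    (hG : MulAction.IsPretransitive G α) (hsq : p ^ 2 ∣ Nat.card G) :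
    ∃ g : G, orderOf g = p ∧ ∃ a : α, g • a = a := by
  have : Fact p.Prime := ⟨hp⟩
  have hne : Nonempty α := by
    rw [← Fintype.card_pos_iff, hα]; exact Nat.mul_pos two_pos hp.pos
  obtain ⟨a⟩ := hne
  -- orbit-stabilizer
  have hidx : (MulAction.stabilizer G a).index = 2 * p := by
    rw [MulAction.index_stabilizer, MulAction.orbit_eq_univ G a, Set.ncard_univ,
      Nat.card_eq_fintype_card, hα]
  have hos : 2 * p * Nat.card (MulAction.stabilizer G a) = Nat.card G := by
    rw [← hidx, mul_comm]; exact Subgroup.card_mul_index _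
  have hdvd : p ∣ Nat.card (MulAction.stabilizer G a) := by
    rw [← hos, pow_two] at hsq
    have h1 : p * p ∣ p * (2 * Nat.card (MulAction.stabilizer G a)) := by
      have : 2 * p * Nat.card (MulAction.stabilizer G a) =
          p * (2 * Nat.card (MulAction.stabilizer G a)) := by ring
      rwa [this] at hsq
    have h2 : p ∣ 2 * Nat.card (MulAction.stabilizer G a) :=
      Nat.dvd_of_mul_dvd_mul_left hp.pos h1
    rcases (Nat.Prime.dvd_mul hp).mp h2 with h | h
    · exact absurd ((Nat.prime_dvd_prime_iff_eq hp Nat.prime_two).mp h) hodd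
    · exact h
  obtain ⟨h, hh⟩ := exists_prime_orderOf_dvd_card' p hdvd
  refine ⟨(h : G), ?_, a, h.2⟩
  rw [Subgroup.orderOf_coe]; exact hh

end partA

end Cfsg.Agent.Helper23.W2p
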