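import Mathlib
import Cfsg.Prelude.Def_TwoFusion
import Cfsg.Prelude.Def_CaseTheorems
import Cfsg.Agent.Lib.Cores
import Cfsg.Agent.Lib.Hall
import Cfsg.Agent.Helper20.Isolated
import Cfsg.Agent.Helper20.OddQuot
import Cfsg.Agent.Helper20.Four
import Cfsg.Agent.Helper73.PGroupCyclic
import Cfsg.Agent.Helper53.NormalComplement

set_option autoImplicit false

/-!
# Consumers of the Brauer–Suzuki theorem and of Glauberman's Z*-theorem (helper23)

Everything here is written against the *statements* of S0201 (Brauer–Suzuki) and S0215 (Z*) taken as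
hypotheses (`BSStatement`, `ZStarStatement`, quantified over all groups of a universe), so that the
final files only have to plug in the landed results.

* `soluble_zstar` : S1188 from `ZStarStatement`.
* `rank_one` : S0225 from `BSStatement`.
-/

namespace Cfsg.Agent.Helper23.ZStarCons

universe u

/-- The statement of S0201 (Brauer–Suzuki), for all groups of the universe `u`. -/
def BSStatement : Prop :=
  ∀ {G : Type u} [Group G] [Finite G] (S : Sylow 2 G) (n : ℕ)
    (_ : (S : Subgroup G) ≃* QuaternionGroup (2 ^ (n + 1)))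
    (_ : ∀ N : Subgroup G, N.Normal → Odd (Nat.card N) → N = ⊥),
    Nat.card (Subgroup.center G) = 2

/-- The statement of S0215 (Glauberman's Z*-theorem), for all groups of the universe `u`. -/
def ZStarStatement : Prop :=
  ∀ {G : Type u} [Group G] [Finite G] (P : Sylow 2 G) (u : G) (_ : orderOf u = 2) (_ : u ∈ P)
    (_ : ∀ g : G, g * u * g⁻¹ ∈ P → g * u * g⁻¹ = u),
    ∃ N : Subgroup G, N.Normal ∧ Odd (Nat.card N) ∧ ∀ g : G, (u * g * u⁻¹ * g⁻¹) ∈ N

section General

variable {G : Type u} [Group G]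

/-- An element of a `2`-group whose order is odd is trivial. -/
theorem eq_one_of_odd_of_mem_two_group {P : Subgroup G} (hP : IsPGroup 2 P) {x : G} (hx : x ∈ P)
    (hodd : Odd (orderOf x)) : x = 1 := by
  obtain ⟨k, hk⟩ := hP ⟨x, hx⟩
  have h1 : x ^ 2 ^ k = 1 := by
    have := congrArg Subtype.val hk
    simpa using this
  have h2 : orderOf x ∣ 2 ^ k := orderOf_dvd_of_pow_eq_one h1
  have h3 : (orderOf x).Coprime (2 ^ k) := (Nat.coprime_two_right.mpr hodd).pow_right k
  have h4 : orderOf x = 1 := Nat.Coprime.eq_one_of_dvd h3 h2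
  exact orderOf_eq_one_iff.mp h4

/-- An isolated involution (commuting-conjugates form) lies in a Sylow `2`-subgroup in which it is
its only conjugate. -/
theorem exists_sylow_of_isolated [Finite G] {z : G} (hz : Cfsg.IsIsolatedInvolution z) :
    ∃ P : Sylow 2 G, z ∈ P ∧ ∀ g : G, g * z * g⁻¹ ∈ P → g * z * g⁻¹ = z := by
  have : Fact (Nat.Prime 2) := ⟨Nat.prime_two⟩
  have hzp : IsPGroup 2 (Subgroup.zpowers z) := by
    apply IsPGroup.of_card (n := 1)
    rw [Nat.card_zpowers, hz.1, pow_one]
  obtain ⟨P, hP⟩ := hzp.exists_le_sylow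
  have hzP : z ∈ P := hP (Subgroup.mem_zpowers z)
  refine ⟨P, hzP, fun g hg => ?_⟩
  have hodd := Cfsg.Agent.Helper20.isolated_odd_order hz g
  have hmem : z * (g * z * g⁻¹) ∈ (P : Subgroup G) := (P : Subgroup G).mul_mem hzP hg
  have h1 := eq_one_of_odd_of_mem_two_group P.2 hmem hodd
  have h2 : g * z * g⁻¹ = z⁻¹ := (inv_eq_of_mul_eq_one_right h1).symm
  rw [h2, Cfsg.Agent.Helper20.isolated_inv hz]

/-- S1188 from the Z*-theorem. -/
theorem soluble_zstar (hZ : ZStarStatement.{u}) [Finite G] (z : G)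
    (hz : Cfsg.IsIsolatedInvolution z) : ∀ g : G, z * g * z⁻¹ * g⁻¹ ∈ Cfsg.oddCore G := by
  obtain ⟨P, hzP, hiso⟩ := exists_sylow_of_isolated hz
  obtain ⟨N, hN, hodd, hcomm⟩ := hZ P z hz.1 hzP hiso
  intro g
  exact Cfsg.Agent.Lib.le_oddCore hN hodd (hcomm g)

end General

section RankOne

variable {G : Type u} [Group G]

/-- Without Klein four-subgroups, commuting involutions coincide. -/
theorem invol_eq_of_commute (hrank : ∀ E : Subgroup G, ¬ IsKleinFour E) {a c : G}
    (ha : a * a = 1) (hc : c * c = 1) (ha1 : a ≠ 1) (hc1 : c ≠ 1) (hac : a * c = c * a) :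
    a = c := by
  by_contra hne
  exact hrank _ (Cfsg.Agent.Helper20.isKleinFour_fourSub a c ha hc hac ha1 hc1 hne)

theorem sq_eq_one_of_orderOf_two {H : Type*} [Group H] {x : H} (hx : orderOf x = 2) :
    x * x = 1 := by
  have h := pow_orderOf_eq_one x
  rwa [hx, pow_two] at h

theorem ne_one_of_orderOf_two {H : Type*} [Group H] {x : H} (hx : orderOf x = 2) : x ≠ 1 := by
  rintro rfl
  rw [orderOf_one] at hx
  omega

/-- Without Klein four-subgroups, a Sylow `2`-subgroup has a unique involution. -/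
theorem uniqueOrderP_sylow [Finite G] (hrank : ∀ E : Subgroup G, ¬ IsKleinFour E)
    (Q : Sylow 2 G) : Cfsg.Agent.Helper73.UniqueOrderP 2 (Q : Subgroup G) := by
  intro x y hx hy
  have : Fact (Nat.Prime 2) := ⟨Nat.prime_two⟩
  have hQ : IsPGroup 2 (Q : Subgroup G) := Q.2
  have hnt : Nontrivial (Q : Subgroup G) := ⟨⟨x, 1, ne_one_of_orderOf_two hx⟩⟩
  have hcnt : Nontrivial (Subgroup.center (Q : Subgroup G)) := hQ.center_nontrivial
  have hc2 : 2 ∣ Nat.card (Subgroup.center (Q : Subgroup G)) := by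
    have hpc : IsPGroup 2 (Subgroup.center (Q : Subgroup G)) := hQ.to_subgroup _
    obtain ⟨k, hk⟩ := hpc.exists_card_eq
    rw [hk]
    have hk0 : k ≠ 0 := by
      rintro rfl
      rw [pow_zero] at hk
      have := Finite.one_lt_card (α := Subgroup.center (Q : Subgroup G))
      omega
    exact dvd_pow_self 2 hk0
  obtain ⟨c, hc⟩ := exists_prime_orderOf_dvd_card' 2 hc2
  -- the three involutions in `G`
  have hcG : orderOf ((c : (Q : Subgroup G)) : G) = 2 := by
    rw [Subgroup.orderOf_coe, Subgroup.orderOf_coe]; exact hc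
  have hxG : orderOf (x : G) = 2 := by rw [Subgroup.orderOf_coe]; exact hx
  have hyG : orderOf (y : G) = 2 := by rw [Subgroup.orderOf_coe]; exact hy
  have hcx : ((c : (Q : Subgroup G)) : G) * (x : G) = (x : G) * ((c : (Q : Subgroup G)) : G) := by
    have h := Subgroup.mem_center_iff.mp c.2 x
    have := congrArg Subtype.val h
    simpa using this.symm
  have hcy : ((c : (Q : Subgroup G)) : G) * (y : G) = (y : G) * ((c : (Q : Subgroup G)) : G) := by
    have h := Subgroup.mem_center_iff.mp c.2 y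
    have := congrArg Subtype.val h
    simpa using this.symm
  have e1 := invol_eq_of_commute hrank (sq_eq_one_of_orderOf_two hcG) (sq_eq_one_of_orderOf_two hxG)
    (ne_one_of_orderOf_two hcG) (ne_one_of_orderOf_two hxG) hcx
  have e2 := invol_eq_of_commute hrank (sq_eq_one_of_orderOf_two hcG) (sq_eq_one_of_orderOf_two hyG)
    (ne_one_of_orderOf_two hcG) (ne_one_of_orderOf_two hyG) hcy
  have hxy : y = x := Subtype.ext (e2.symm.trans e1)
  rw [hxy]
  exact Subgroup.mem_zpowers x

/-- S0225 from the Brauer–Suzuki theorem. -/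
theorem rank_one (hBS : BSStatement.{u}) [Finite G] (heven : Even (Nat.card G))
    (hrank : ∀ E : Subgroup G, ¬ IsKleinFour E) :
    ∃ z : G, orderOf z = 2 ∧ ∃ N : Subgroup G, N.Normal ∧ Odd (Nat.card N) ∧
      ∀ g : G, z * g * z⁻¹ * g⁻¹ ∈ N := by
  have : Fact (Nat.Prime 2) := ⟨Nat.prime_two⟩
  have h2G : 2 ∣ Nat.card G := even_iff_two_dvd.mp heven
  let P : Sylow 2 G := default
  have hP : IsPGroup 2 (P : Subgroup G) := P.2
  rcases Cfsg.Agent.Helper73.cyclic_or_quaternion hP (uniqueOrderP_sylow hrank P) with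
    hcyc | ⟨-, n, hn, ⟨e⟩⟩
  · -- cyclic Sylow: normal 2-complement
    obtain ⟨S', N, hN, hcompl⟩ := Cfsg.Agent.Helper53.hasNormalPComplement_two_of_isCyclic P hcyc
    have hS'cyc : IsCyclic (S' : Subgroup G) :=
      isCyclic_of_surjective (Sylow.equiv P S').toMonoidHom (Sylow.equiv P S').surjective
    have h2S' : 2 ∣ Nat.card (S' : Subgroup G) := S'.dvd_card_of_dvd_card h2G
    obtain ⟨z, hz⟩ := exists_prime_orderOf_dvd_card' 2 h2S'
    have hzG : orderOf (z : G) = 2 := by rw [Subgroup.orderOf_coe]; exact hz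
    have hNodd : Odd (Nat.card N) := by
      have hidx : (S' : Subgroup G).index = Nat.card N := hcompl.index_eq_card
      have hcop : (Nat.card (S' : Subgroup G)).Coprime (S' : Subgroup G).index :=
        S'.card_coprime_index
      rw [hidx] at hcop
      rw [← Nat.not_even_iff_odd]
      intro hev
      have h2N : 2 ∣ Nat.card N := even_iff_two_dvd.mp hev
      have := Nat.dvd_gcd h2S' h2N
      rw [hcop] at this
      omega
    refine ⟨(z : G), hzG, N, hN, hNodd, fun g => ?_⟩
    obtain ⟨⟨⟨m, hm⟩, ⟨s, hs⟩⟩, hms, -⟩ := hcompl.existsUnique g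
    simp only at hms
    subst hms
    -- `z` and `s` commute as `S'` is cyclic
    have hcomm : (z : G) * s = s * (z : G) := by
      haveI : IsCyclic (S' : Subgroup G) := hS'cyc
      haveI : IsMulCommutative (S' : Subgroup G) := IsCyclic.commutative
      have h := mul_comm' z (⟨s, hs⟩ : (S' : Subgroup G))
      have := congrArg Subtype.val h
      simpa using this
    have key : (z : G) * (m * s) * (z : G)⁻¹ * (m * s)⁻¹ = ((z : G) * m * (z : G)⁻¹) * m⁻¹ := by
      have h1 : (z : G) * (m * s) * (z : G)⁻¹ * (m * s)⁻¹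
          = (z : G) * m * (s * (z : G)⁻¹ * s⁻¹) * m⁻¹ := by group
      have h2 : s * (z : G)⁻¹ * s⁻¹ = (z : G)⁻¹ := by
        have : s * (z : G)⁻¹ = (z : G)⁻¹ * s := by
          have h3 : (z : G)⁻¹ * ((z : G) * s) * (z : G)⁻¹ = (z : G)⁻¹ * (s * (z : G)) * (z : G)⁻¹ := by
            rw [hcomm]
          simpa [mul_assoc] using h3
        rw [this, mul_assoc, mul_inv_cancel, mul_one]
      rw [h1, h2]
    rw [key]
    exact N.mul_mem (hN.conj_mem m hm (z : G)) (N.inv_mem hm)
  · -- generalized quaternion Sylow: Brauer–Suzuki in `G ⧸ O(G)`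
    obtain ⟨n', rfl⟩ : ∃ n', n = n' + 1 := ⟨n - 1, by omega⟩
    set O : Subgroup G := Cfsg.oddCore G with hO
    have hOchar : O.Characteristic := Cfsg.Agent.Lib.pPrimeCore_characteristic 2
    have hOnormal : O.Normal := inferInstance
    have hOodd : Odd (Nat.card O) := Cfsg.Agent.Lib.odd_card_oddCore
    let Sbar : Sylow 2 (G ⧸ O) := P.mapSurjective (QuotientGroup.mk'_surjective O)
    obtain ⟨eS⟩ := Cfsg.Agent.Helper20.sylow_quotient_equiv O hOodd P
    have ebar : ((Sbar : Subgroup (G ⧸ O))) ≃* QuaternionGroup (2 ^ (n' + 1)) := eS.symm.trans e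
    have hObar : ∀ N : Subgroup (G ⧸ O), N.Normal → Odd (Nat.card N) → N = ⊥ := by
      intro N hN hNodd
      have h1 := Cfsg.Agent.Lib.le_oddCore hN hNodd
      rw [Cfsg.Agent.Helper20.oddCore_quotient_eq_bot] at h1
      exact le_bot_iff.mp h1
    have hcard := hBS Sbar n' ebar hObar
    -- a central involution of the quotient
    have h2c : 2 ∣ Nat.card (Subgroup.center (G ⧸ O)) := by rw [hcard]
    obtain ⟨zb, hzb⟩ := exists_prime_orderOf_dvd_card' 2 h2c
    have hzbG : orderOf ((zb : G ⧸ O)) = 2 := by rw [Subgroup.orderOf_coe]; exact hzb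
    -- it lies in the image of `P`
    have hzpow : IsPGroup 2 (Subgroup.zpowers (zb : G ⧸ O)) := by
      apply IsPGroup.of_card (n := 1)
      rw [Nat.card_zpowers, hzbG, pow_one]
    have hznormal : (Subgroup.zpowers (zb : G ⧸ O)).Normal := by
      constructor
      intro x hx g
      obtain ⟨k, rfl⟩ := Subgroup.mem_zpowers_iff.mp hx
      have hcen : ∀ y : G ⧸ O, y * (zb : G ⧸ O) = (zb : G ⧸ O) * y := fun y =>
        Subgroup.mem_center_iff.mp zb.2 y
      have : g * (zb : G ⧸ O) ^ k * g⁻¹ = (zb : G ⧸ O) ^ k := by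
        have h1 : g * (zb : G ⧸ O) ^ k = (zb : G ⧸ O) ^ k * g := by
          have : Commute g (zb : G ⧸ O) := hcen g
          exact (this.zpow_right k).eq
        rw [h1, mul_assoc, mul_inv_cancel, mul_one]
      rw [this]
      exact Subgroup.zpow_mem_zpowers _ k
    have hzS : (zb : G ⧸ O) ∈ (Sbar : Subgroup (G ⧸ O)) :=
      Cfsg.Agent.Lib.normal_pGroup_le_sylow hznormal hzpow Sbar (Subgroup.mem_zpowers _)
    have hSbar : (Sbar : Subgroup (G ⧸ O)) = (P : Subgroup G).map (QuotientGroup.mk' O) :=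
      Sylow.coe_mapSurjective _ _
    rw [hSbar] at hzS
    obtain ⟨z, hzP, hzmk⟩ := hzS
    -- `z` is an involution
    have hdisj : Disjoint O (P : Subgroup G) := by
      apply Subgroup.disjoint_of_coprime_natCard
      rw [P.card_eq_multiplicity]
      exact (Nat.coprime_two_right.mpr hOodd).pow_right _
    have hzz : z * z = 1 := by
      have h1 : z * z ∈ O := by
        rw [← QuotientGroup.eq_one_iff, QuotientGroup.mk_mul]
        have : ((z : G) : G ⧸ O) = (zb : G ⧸ O) := hzmk
        rw [this]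
        exact sq_eq_one_of_orderOf_two hzbG
      have h2 : z * z ∈ (P : Subgroup G) := (P : Subgroup G).mul_mem hzP hzP
      exact Subgroup.disjoint_def.mp hdisj h1 h2
    have hz1 : z ≠ 1 := by
      rintro rfl
      have : ((1 : G) : G ⧸ O) = (zb : G ⧸ O) := hzmk
      rw [QuotientGroup.mk_one] at this
      exact ne_one_of_orderOf_two hzbG this.symm
    have hzord : orderOf z = 2 := by
      apply orderOf_eq_prime
      · rw [pow_two]; exact hzz
      · exact hz1
    refine ⟨z, hzord, O, hOnormal, hOodd, fun g => ?_⟩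
    rw [← QuotientGroup.eq_one_iff]
    have hmk : ((z : G) : G ⧸ O) = (zb : G ⧸ O) := hzmk
    rw [QuotientGroup.mk_mul, QuotientGroup.mk_mul, QuotientGroup.mk_mul, QuotientGroup.mk_inv,
      QuotientGroup.mk_inv, hmk]
    have hcen := Subgroup.mem_center_iff.mp zb.2 (g : G ⧸ O)
    rw [← hcen, mul_assoc, mul_assoc, mul_inv_cancel_left, mul_inv_cancel]

end RankOne

end Cfsg.Agent.Helper23.ZStarCons
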