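import Mathlib
import Cfsg.Agent.Helper23.ZStarCons

set_option autoImplicit false

/-!
# The Z*-theorem for arbitrary `2`-elements (helper23)

From the statement of the Z*-theorem for involutions (`ZStarStatement`) we derive the version for
arbitrary elements `x` of a Sylow `2`-subgroup `S` all of whose powers are isolated in `S`
(`gz`): such an `x` is central modulo `O(G)`.
-/

namespace Cfsg.Agent.Helper23.ZStarCons

universe u

section Tools

variable {G : Type u} [Group G]

/-- `x` is its only `G`-conjugate inside `S`. -/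
def IsoIn (S : Subgroup G) (x : G) : Prop := ∀ g : G, g * x * g⁻¹ ∈ S → g * x * g⁻¹ = x

/-- A `2`-subgroup of `S O` (`O` normal) is conjugate into the Sylow `2`-subgroup `S` by an element
of `O`. -/
theorem conj_into_sylow [Finite G] (S : Sylow 2 G) (O : Subgroup G) [hO : O.Normal]
    (T : Subgroup G) (hT : IsPGroup 2 T) (hTle : T ≤ (S : Subgroup G) ⊔ O) :
    ∃ n ∈ O, ∀ t ∈ T, n * t * n⁻¹ ∈ S := by
  have : Fact (Nat.Prime 2) := ⟨Nat.prime_two⟩
  set M : Subgroup G := (S : Subgroup G) ⊔ O with hM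
  have hSM : (S : Subgroup G) ≤ M := le_sup_left
  let S1 : Sylow 2 M := S.subtype hSM
  have hT1 : IsPGroup 2 (T.subgroupOf M) := hT.comap_subtype
  obtain ⟨Q, hQ⟩ := hT1.exists_le_sylow
  obtain ⟨m, hm⟩ := MulAction.exists_smul_eq M Q S1
  have hmG : (m : G) ∈ (S : Subgroup G) ⊔ O := m.2
  obtain ⟨s, hs, n, hn, hsn⟩ := (Subgroup.mem_sup_of_normal_right).mp hmG
  refine ⟨n, hn, fun t ht => ?_⟩
  have htM : t ∈ M := hTle ht
  have h1 : (⟨t, htM⟩ : M) ∈ Q := hQ (Subgroup.mem_subgroupOf.mpr ht)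
  have h2 : m * ⟨t, htM⟩ * m⁻¹ ∈ ((m • Q : Sylow 2 M) : Subgroup M) := by
    rw [Sylow.coe_subgroup_smul]
    exact (Subgroup.mem_smul_pointwise_iff_exists _ _ _).mpr ⟨⟨t, htM⟩, h1, rfl⟩
  rw [hm] at h2
  have h3 : ((m * ⟨t, htM⟩ * m⁻¹ : M) : G) ∈ (S : Subgroup G) := by
    have := h2
    rw [show ((S1 : Sylow 2 M) : Subgroup M) = (S : Subgroup G).subgroupOf M from
      Sylow.coe_subtype _ _] at this
    exact Subgroup.mem_subgroupOf.mp this
  have h4 : ((m * ⟨t, htM⟩ * m⁻¹ : M) : G) = (m : G) * t * (m : G)⁻¹ := by simp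
  rw [h4, ← hsn] at h3
  have h5 : n * t * n⁻¹ = s⁻¹ * (s * n * t * (s * n)⁻¹) * s := by group
  rw [h5]
  exact (S : Subgroup G).mul_mem ((S : Subgroup G).mul_mem ((S : Subgroup G).inv_mem hs) h3) hs

/-- If `x ∈ S` is isolated in `S` and a conjugate of `x` lies in `S O`, then it is congruent to `x`
modulo the normal subgroup `O`. -/
theorem iso_mod [Finite G] (S : Sylow 2 G) (O : Subgroup G) [hO : O.Normal] {x : G}
    (hxS : x ∈ (S : Subgroup G)) (hx : IsoIn (S : Subgroup G) x) {g : G}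
    (hw : g * x * g⁻¹ ∈ (S : Subgroup G) ⊔ O) : g * x * g⁻¹ * x⁻¹ ∈ O := by
  have hT : IsPGroup 2 (Subgroup.zpowers (g * x * g⁻¹)) := by
    have hx2 : IsPGroup 2 (Subgroup.zpowers x) := S.2.to_le ((Subgroup.zpowers_le).mpr hxS)
    have hmap : Subgroup.zpowers (g * x * g⁻¹) =
        (Subgroup.zpowers x).map (MulAut.conj g).toMonoidHom := by
      rw [MonoidHom.map_zpowers]
      rfl
    rw [hmap]
    exact hx2.map _
  have hTle : Subgroup.zpowers (g * x * g⁻¹) ≤ (S : Subgroup G) ⊔ O :=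
    (Subgroup.zpowers_le).mpr hw
  obtain ⟨n, hn, hnT⟩ := conj_into_sylow S O _ hT hTle
  have h1 := hnT _ (Subgroup.mem_zpowers _)
  have h2 : n * (g * x * g⁻¹) * n⁻¹ = (n * g) * x * (n * g)⁻¹ := by group
  rw [h2] at h1
  have h3 := hx (n * g) h1
  have h4 : g * x * g⁻¹ * x⁻¹ = n⁻¹ * (x * n * x⁻¹) := by
    have : g * x * g⁻¹ = n⁻¹ * ((n * g) * x * (n * g)⁻¹) * n := by group
    rw [this, h3]
    group
  rw [h4]
  exact O.mul_mem (O.inv_mem hn) (hO.conj_mem n hn x)

/-- A normal subgroup `L` containing a central `2`-subgroup `Y` with odd index `m` contains a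
subgroup of order `m` which is normal in the whole group. -/
theorem exists_normal_odd_complement [Finite G] {Y L : Subgroup G}
    (hYc : Y ≤ Subgroup.center G) (hY2 : IsPGroup 2 Y) (hL : L.Normal) (hYL : Y ≤ L) {m : ℕ}
    (hm : Odd m) (hcard : Nat.card L = Nat.card Y * m) :
    ∃ K : Subgroup G, K.Normal ∧ Nat.card K = m := by
  have hYn : Y.Normal := by
    constructor
    intro y hy g
    have hc := Subgroup.mem_center_iff.mp (hYc hy) g
    have : g * y * g⁻¹ = y := by rw [hc, mul_assoc, mul_inv_cancel, mul_one]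
    rw [this]; exact hy
  let N : Subgroup L := Y.subgroupOf L
  have hNn : N.Normal := Subgroup.normal_subgroupOf
  have hNcard : Nat.card N = Nat.card Y :=
    Nat.card_congr (Subgroup.subgroupOfEquivOfLe hYL).toEquiv
  have hYpos : 0 < Nat.card Y := Nat.card_pos
  have hNidx : N.index = m := by
    have h := N.card_mul_index
    rw [hNcard, hcard] at h
    exact Nat.eq_of_mul_eq_mul_left hYpos h
  obtain ⟨a, ha⟩ := hY2.exists_card_eq
  have hcopYm : (Nat.card Y).Coprime m := by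
    rw [ha]
    exact (Nat.coprime_two_left.mpr hm).pow_left a
  have hcop : (Nat.card N).Coprime N.index := by rw [hNcard, hNidx]; exact hcopYm
  obtain ⟨K0, hK0⟩ := Subgroup.exists_right_complement'_of_coprime hcop
  have hK0card : Nat.card K0 = m := by
    have h := hK0.card_mul_card
    rw [hNcard, hcard] at h
    exact Nat.eq_of_mul_eq_mul_left hYpos h
  have hKcard : Nat.card (K0.map L.subtype) = m := by
    rw [Nat.card_congr (K0.equivMapOfInjective L.subtype L.subtype_injective).symm.toEquiv]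
    exact hK0card
  refine ⟨K0.map L.subtype, ?_, hKcard⟩
  constructor
  rintro _ ⟨k0, hk0, rfl⟩ g
  have hk'L : g * (k0 : G) * g⁻¹ ∈ L := hL.conj_mem _ k0.2 g
  obtain ⟨⟨⟨n, hn⟩, ⟨k1, hk1⟩⟩, hnk, -⟩ := hK0.existsUnique ⟨g * (k0 : G) * g⁻¹, hk'L⟩
  simp only at hnk
  have hnk' : (n : G) * (k1 : G) = g * (k0 : G) * g⁻¹ := by
    have := congrArg Subtype.val hnk
    simpa using this
  have hnY : (n : G) ∈ Y := Subgroup.mem_subgroupOf.mp hn
  -- `k0 ^ m = 1`, `k1 ^ m = 1`
  have hk0m : (k0 : G) ^ m = 1 := by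
    have h : (⟨k0, hk0⟩ : K0) ^ Nat.card K0 = 1 := pow_card_eq_one'
    rw [hK0card] at h
    have := congrArg (fun z : K0 => ((z : L) : G)) h
    simpa using this
  have hk1m : (k1 : G) ^ m = 1 := by
    have h : (⟨k1, hk1⟩ : K0) ^ Nat.card K0 = 1 := pow_card_eq_one'
    rw [hK0card] at h
    have := congrArg (fun z : K0 => ((z : L) : G)) h
    simpa using this
  have hconjm : (g * (k0 : G) * g⁻¹) ^ m = 1 := by
    rw [conj_pow, hk0m, mul_one, mul_inv_cancel]
  have hcomm : Commute (n : G) (k1 : G) := (Subgroup.mem_center_iff.mp (hYc hnY) (k1 : G)).symm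
  have hnm : (n : G) ^ m = 1 := by
    have h := hcomm.mul_pow m
    rw [hnk', hconjm, hk1m, mul_one] at h
    exact h.symm
  have hn1 : (n : G) = 1 := by
    have h1 : orderOf (n : G) ∣ m := orderOf_dvd_of_pow_eq_one hnm
    have h2 : orderOf (n : G) ∣ Nat.card Y := by
      have : orderOf (⟨(n : G), hnY⟩ : Y) ∣ Nat.card Y := orderOf_dvd_natCard _
      rwa [← Subgroup.orderOf_coe] at this
    have h3 : orderOf (n : G) = 1 := Nat.eq_one_of_dvd_coprimes hcopYm h2 h1
    exact orderOf_eq_one_iff.mp h3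
  rw [hn1, one_mul] at hnk'
  refine ⟨k1, hk1, ?_⟩
  exact hnk'

end Tools

section GZ

variable {G : Type u} [Group G]

theorem normal_of_le_center' {Y : Subgroup G} (hYc : Y ≤ Subgroup.center G) : Y.Normal := by
  constructor
  intro y hy g
  have hc := Subgroup.mem_center_iff.mp (hYc hy) g
  have : g * y * g⁻¹ = y := by rw [hc, mul_assoc, mul_inv_cancel, mul_one]
  rw [this]; exact hy

/-- The Z*-theorem for `2`-elements, in a group with trivial odd core. -/
theorem gz_core [Finite G] (hZ : ZStarStatement.{u}) (hO : Cfsg.oddCore G = ⊥) (S : Sylow 2 G) :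
    ∀ (k : ℕ) (x : G), x ∈ (S : Subgroup G) → x ^ 2 ^ k = 1 →
      (∀ j : ℕ, IsoIn (S : Subgroup G) (x ^ j)) → x ∈ Subgroup.center G := by
  intro k
  induction k with
  | zero =>
    intro x _ h _
    rw [pow_zero, pow_one] at h
    rw [h]; exact Subgroup.one_mem _
  | succ k ih =>
    intro x hxS hxk hiso
    have : Fact (Nat.Prime 2) := ⟨Nat.prime_two⟩
    have hyS : x ^ 2 ∈ (S : Subgroup G) := Subgroup.pow_mem _ hxS 2
    have hyk : (x ^ 2) ^ 2 ^ k = 1 := by rw [← pow_mul, ← pow_succ']; exact hxk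
    have hyiso : ∀ j, IsoIn (S : Subgroup G) ((x ^ 2) ^ j) := fun j => by
      rw [← pow_mul]; exact hiso (2 * j)
    have hyc : x ^ 2 ∈ Subgroup.center G := ih (x ^ 2) hyS hyk hyiso
    by_cases hxY : x ∈ Subgroup.zpowers (x ^ 2)
    · obtain ⟨i, hi⟩ := Subgroup.mem_zpowers_iff.mp hxY
      rw [← hi]; exact Subgroup.zpow_mem _ hyc i
    · set Y : Subgroup G := Subgroup.zpowers (x ^ 2) with hYdef
      have hYc : Y ≤ Subgroup.center G := (Subgroup.zpowers_le).mpr hyc
      haveI hYn : Y.Normal := normal_of_le_center' hYc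
      have hYS : Y ≤ (S : Subgroup G) := (Subgroup.zpowers_le).mpr hyS
      have hY2 : IsPGroup 2 Y := S.2.to_le hYS
      let St : Sylow 2 (G ⧸ Y) := S.mapSurjective (QuotientGroup.mk'_surjective Y)
      have hStcoe : (St : Subgroup (G ⧸ Y)) = (S : Subgroup G).map (QuotientGroup.mk' Y) :=
        Sylow.coe_mapSurjective _ _
      have hxt1 : (QuotientGroup.mk' Y x) ≠ 1 := by
        intro h
        exact hxY ((QuotientGroup.eq_one_iff x).mp h)
      have hxt2 : (QuotientGroup.mk' Y x) ^ 2 = 1 := by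
        rw [← map_pow]
        exact (QuotientGroup.eq_one_iff (x ^ 2)).mpr (Subgroup.mem_zpowers _)
      have hxtord : orderOf (QuotientGroup.mk' Y x) = 2 := orderOf_eq_prime hxt2 hxt1
      have hxtS : QuotientGroup.mk' Y x ∈ St := by
        show QuotientGroup.mk' Y x ∈ (St : Subgroup (G ⧸ Y))
        rw [hStcoe]
        exact Subgroup.mem_map_of_mem _ hxS
      have hxtiso : ∀ gt : G ⧸ Y, gt * QuotientGroup.mk' Y x * gt⁻¹ ∈ St →
          gt * QuotientGroup.mk' Y x * gt⁻¹ = QuotientGroup.mk' Y x := by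
        intro gt hgt
        obtain ⟨g, rfl⟩ := QuotientGroup.mk'_surjective Y gt
        have hgt' : QuotientGroup.mk' Y (g * x * g⁻¹) ∈
            (S : Subgroup G).map (QuotientGroup.mk' Y) := by
          rw [← hStcoe, map_mul, map_mul, map_inv]
          exact hgt
        obtain ⟨s, hs, hsq⟩ := hgt'
        have h1 : s⁻¹ * (g * x * g⁻¹) ∈ Y := QuotientGroup.eq.mp hsq
        have hconjS : g * x * g⁻¹ ∈ (S : Subgroup G) := by
          have h2 := (S : Subgroup G).mul_mem hs (hYS h1)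
          rwa [mul_inv_cancel_left] at h2
        have h3 := hiso 1 g (by rw [pow_one]; exact hconjS)
        rw [pow_one] at h3
        rw [← map_inv, ← map_mul, ← map_mul, h3]
      obtain ⟨Nt, hNt, hNtodd, hcomm⟩ := hZ St (QuotientGroup.mk' Y x) hxtord hxtS hxtiso
      have hLn : (Nt.comap (QuotientGroup.mk' Y)).Normal := hNt.comap _
      have hYL : Y ≤ Nt.comap (QuotientGroup.mk' Y) := by
        intro a ha
        rw [Subgroup.mem_comap]
        have : QuotientGroup.mk' Y a = 1 := (QuotientGroup.eq_one_iff a).mpr ha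
        rw [this]
        exact Nt.one_mem
      have hLcard : Nat.card (Nt.comap (QuotientGroup.mk' Y)) = Nat.card Y * Nat.card Nt :=
        Cfsg.Agent.Lib.card_comap_mk' Y Nt
      obtain ⟨K, hKn, hKcard⟩ := exists_normal_odd_complement hYc hY2 hLn hYL hNtodd hLcard
      have hK1 : K = ⊥ := by
        have h := Cfsg.Agent.Lib.le_oddCore hKn (by rw [hKcard]; exact hNtodd)
        rw [hO] at h
        exact le_bot_iff.mp h
      have hNt1 : Nat.card Nt = 1 := by rw [← hKcard, hK1]; simp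
      have hNtbot : Nt = ⊥ := Subgroup.card_eq_one.mp hNt1
      have hcY : ∀ g : G, x * g * x⁻¹ * g⁻¹ ∈ Y := by
        intro g
        have h := hcomm (QuotientGroup.mk' Y g)
        rw [hNtbot, Subgroup.mem_bot, ← map_inv, ← map_inv, ← map_mul, ← map_mul, ← map_mul] at h
        exact (QuotientGroup.eq_one_iff _).mp h
      rw [Subgroup.mem_center_iff]
      intro g
      have hc := hcY g
      have hpos : 1 ≤ 2 ^ (k + 1) := Nat.one_le_two_pow
      have hxj : x ^ (2 ^ (k + 1) - 1) = x⁻¹ := by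
        have h : x ^ (2 ^ (k + 1) - 1) * x = 1 := by
          rw [← pow_succ, Nat.sub_add_cancel hpos, hxk]
        exact eq_inv_of_mul_eq_one_left h
      have hmem : g * x⁻¹ * g⁻¹ ∈ (S : Subgroup G) := by
        have h : g * x⁻¹ * g⁻¹ = x⁻¹ * (x * g * x⁻¹ * g⁻¹) := by group
        rw [h]
        exact (S : Subgroup G).mul_mem ((S : Subgroup G).inv_mem hxS) (hYS hc)
      have h5 := hiso (2 ^ (k + 1) - 1) g (by rw [hxj]; exact hmem)
      rw [hxj] at h5
      -- `g x⁻¹ g⁻¹ = x⁻¹`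
      have h6 : g * x⁻¹ = x⁻¹ * g := by
        have := congrArg (· * g) h5
        simpa [mul_assoc] using this
      have h7 : x * (g * x⁻¹) * x = x * (x⁻¹ * g) * x := by rw [h6]
      simpa [mul_assoc] using h7.symm

/-- **The Z*-theorem for `2`-elements**: if all powers of `x ∈ S` are isolated in the Sylow
`2`-subgroup `S`, then `x` is central modulo `O(G)`. -/
theorem gz [Finite G] (hZ : ZStarStatement.{u}) (S : Sylow 2 G) (x : G)
    (hxS : x ∈ (S : Subgroup G)) (hiso : ∀ j : ℕ, IsoIn (S : Subgroup G) (x ^ j)) :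
    ∀ g : G, x * g * x⁻¹ * g⁻¹ ∈ Cfsg.oddCore G := by
  have : Fact (Nat.Prime 2) := ⟨Nat.prime_two⟩
  set O : Subgroup G := Cfsg.oddCore G with hOdef
  have hOchar : O.Characteristic := Cfsg.Agent.Lib.pPrimeCore_characteristic 2
  haveI hOn : O.Normal := inferInstance
  let Sb : Sylow 2 (G ⧸ O) := S.mapSurjective (QuotientGroup.mk'_surjective O)
  have hSbcoe : (Sb : Subgroup (G ⧸ O)) = (S : Subgroup G).map (QuotientGroup.mk' O) :=
    Sylow.coe_mapSurjective _ _
  have hxbS : QuotientGroup.mk' O x ∈ (Sb : Subgroup (G ⧸ O)) := by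
    rw [hSbcoe]; exact Subgroup.mem_map_of_mem _ hxS
  obtain ⟨k, hk⟩ := S.2 ⟨x, hxS⟩
  have hxk : x ^ 2 ^ k = 1 := by
    have := congrArg Subtype.val hk
    simpa using this
  have hxbk : (QuotientGroup.mk' O x) ^ 2 ^ k = 1 := by rw [← map_pow, hxk, map_one]
  have hxbiso : ∀ j : ℕ, IsoIn (Sb : Subgroup (G ⧸ O)) ((QuotientGroup.mk' O x) ^ j) := by
    intro j gb hgb
    obtain ⟨g, rfl⟩ := QuotientGroup.mk'_surjective O gb
    have hgb' : QuotientGroup.mk' O (g * x ^ j * g⁻¹) ∈
        (S : Subgroup G).map (QuotientGroup.mk' O) := by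
      rw [← hSbcoe, map_mul, map_mul, map_inv, map_pow]
      exact hgb
    obtain ⟨s, hs, hsq⟩ := hgb'
    have h1 : s⁻¹ * (g * x ^ j * g⁻¹) ∈ O := QuotientGroup.eq.mp hsq
    have hw : g * x ^ j * g⁻¹ ∈ (S : Subgroup G) ⊔ O := by
      have h2 : g * x ^ j * g⁻¹ = s * (s⁻¹ * (g * x ^ j * g⁻¹)) := by group
      rw [h2]
      exact Subgroup.mul_mem_sup hs h1
    have h3 := iso_mod S O (Subgroup.pow_mem _ hxS j) (hiso j) hw
    rw [← map_pow, ← map_inv, ← map_mul, ← map_mul]
    have h4 : QuotientGroup.mk' O (g * x ^ j * g⁻¹ * (x ^ j)⁻¹) = 1 :=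
      (QuotientGroup.eq_one_iff _).mpr h3
    rw [map_mul, map_inv] at h4
    exact mul_inv_eq_one.mp h4
  have hObot : Cfsg.oddCore (G ⧸ O) = ⊥ := Cfsg.Agent.Helper20.oddCore_quotient_eq_bot
  have hcen := gz_core hZ hObot Sb k (QuotientGroup.mk' O x) hxbS hxbk hxbiso
  intro g
  rw [← QuotientGroup.eq_one_iff]
  have h := Subgroup.mem_center_iff.mp hcen (QuotientGroup.mk' O g)
  show QuotientGroup.mk' O (x * g * x⁻¹ * g⁻¹) = 1
  rw [map_mul, map_mul, map_mul, map_inv, map_inv, ← h, mul_assoc, mul_assoc, mul_inv_cancel_left,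
    mul_inv_cancel]

end GZ

end Cfsg.Agent.Helper23.ZStarCons
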