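import Mathlib
import Cfsg.Prelude.Def_FusionSystem
import Cfsg.Agent.Helper23.ZStarGen

set_option autoImplicit false

/-!
# The centre of the `2`-fusion system of a finite group (helper23)

`center_groupFusionSystem`: from the statement of the Z*-theorem, `Z(F_S(G)) = S ∩ Z*(G)`
(statement S5094).
-/

namespace Cfsg.Agent.Helper23.ZStarCons

universe u

section Fusion

variable {G : Type u} [Group G]

/-- Membership in `S ∩ Z*(G)` (in the form of S5094) spelled out with commutators. -/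
theorem mem_comap_center_iff (x : G) :
    x ∈ (Subgroup.center (G ⧸ Cfsg.oddCore G)).comap (QuotientGroup.mk' (Cfsg.oddCore G)) ↔
      ∀ g : G, x * g * x⁻¹ * g⁻¹ ∈ Cfsg.oddCore G := by
  rw [Subgroup.mem_comap, Subgroup.mem_center_iff]
  constructor
  · intro h g
    rw [← QuotientGroup.eq_one_iff]
    have h1 := h (QuotientGroup.mk' (Cfsg.oddCore G) g)
    show QuotientGroup.mk' (Cfsg.oddCore G) (x * g * x⁻¹ * g⁻¹) = 1
    rw [map_mul, map_mul, map_mul, map_inv, map_inv, ← h1, mul_assoc, mul_assoc,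
      mul_inv_cancel_left, mul_inv_cancel]
  · intro h gb
    obtain ⟨g, rfl⟩ := QuotientGroup.mk'_surjective (Cfsg.oddCore G) gb
    have h1 : QuotientGroup.mk' (Cfsg.oddCore G) (x * g * x⁻¹ * g⁻¹) = 1 :=
      (QuotientGroup.eq_one_iff _).mpr (h g)
    rw [map_mul, map_mul, map_mul, map_inv, map_inv] at h1
    have h2 := mul_inv_eq_one.mp h1
    have h3 := mul_inv_eq_iff_eq_mul.mp h2
    exact h3.symm

/-- Elements of a central subgroup of `F_S(G)` are isolated in `S`. -/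
theorem isoIn_of_isCentral (S : Subgroup G) {Q : Subgroup G}
    (hQ : (Cfsg.groupFusionSystem S).IsCentral Q) {y : G} (hy : y ∈ Q) : IsoIn S y := by
  intro g hg
  obtain ⟨hQS, hext⟩ := hQ
  have hPQ : Subgroup.zpowers y ≤ Q := (Subgroup.zpowers_le).mpr hy
  have hPS : Subgroup.zpowers y ≤ S := hPQ.trans hQS
  have hφ : Cfsg.conjHom (Subgroup.zpowers y) g ∈
      (Cfsg.groupFusionSystem S).Hom (Subgroup.zpowers y) := by
    refine ⟨hPS, fun x => ?_, g, fun x => rfl⟩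
    obtain ⟨i, hi⟩ := Subgroup.mem_zpowers_iff.mp x.2
    show g * (x : G) * g⁻¹ ∈ S
    rw [← hi]
    have h1 : g * y ^ i * g⁻¹ = (g * y * g⁻¹) ^ i := (conj_zpow).symm
    rw [h1]
    exact S.zpow_mem hg i
  obtain ⟨ψ, -, hψP, hψQ⟩ := hext (Subgroup.zpowers y) (Cfsg.conjHom (Subgroup.zpowers y) g) hφ
  have h1 := hψP ⟨y, Subgroup.mem_zpowers y⟩
  have h2 := hψQ ⟨y, hy⟩
  have h3 : Subgroup.inclusion (le_sup_left : Subgroup.zpowers y ≤ Subgroup.zpowers y ⊔ Q)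
      ⟨y, Subgroup.mem_zpowers y⟩ =
      Subgroup.inclusion (le_sup_right : Q ≤ Subgroup.zpowers y ⊔ Q) ⟨y, hy⟩ := rfl
  rw [h3, h2] at h1
  exact h1.symm

/-- The key extension step: a conjugation map between subgroups of `S` agrees, on its source, with
conjugation by an element centralizing `S ∩ Z*(G)`. -/
theorem exists_centralizing_conj [Finite G] (S : Sylow 2 G) (Q0 : Subgroup G)
    (hQ0S : Q0 ≤ (S : Subgroup G))
    (hQ0 : ∀ q ∈ Q0, ∀ g : G, q * g * q⁻¹ * g⁻¹ ∈ Cfsg.oddCore G)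
    (P : Subgroup G) (hP : P ≤ (S : Subgroup G)) (g : G)
    (hg : ∀ x ∈ P, g * x * g⁻¹ ∈ (S : Subgroup G)) :
    ∃ g' : G, (∀ q ∈ Q0, g' * q * g'⁻¹ = q) ∧ ∀ x ∈ P, g' * x * g'⁻¹ = g * x * g⁻¹ := by
  have : Fact (Nat.Prime 2) := ⟨Nat.prime_two⟩
  set O : Subgroup G := Cfsg.oddCore G with hOdef
  haveI hOn : O.Normal := inferInstance
  have hOodd : Odd (Nat.card O) := Cfsg.Agent.Lib.odd_card_oddCore
  have hdisj : Disjoint O (S : Subgroup G) := by
    apply Subgroup.disjoint_of_coprime_natCard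
    rw [S.card_eq_multiplicity]
    exact (Nat.coprime_two_right.mpr hOodd).pow_right _
  -- conjugates of elements of `Q0` stay congruent mod `O`
  have hcongr : ∀ q ∈ Q0, ∀ h : G, h * q * h⁻¹ * q⁻¹ ∈ O := by
    intro q hq h
    have h1 := hQ0 q hq h⁻¹
    have h2 : h * q * h⁻¹ * q⁻¹ = h * (q * h⁻¹ * q⁻¹ * h⁻¹⁻¹) * h⁻¹ := by group
    rw [h2]
    exact hOn.conj_mem _ h1 h
  set T : Subgroup G := (P ⊔ Q0).map (MulAut.conj g).toMonoidHom with hTdef
  have hPQS : P ⊔ Q0 ≤ (S : Subgroup G) := sup_le hP hQ0S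
  have hT2 : IsPGroup 2 T := (S.2.to_le hPQS).map _
  have hTle : T ≤ (S : Subgroup G) ⊔ O := by
    rw [hTdef, Subgroup.map_sup]
    apply sup_le
    · rintro _ ⟨x, hx, rfl⟩
      exact Subgroup.mem_sup_left (hg x hx)
    · rintro _ ⟨q, hq, rfl⟩
      show g * q * g⁻¹ ∈ (S : Subgroup G) ⊔ O
      have h1 : g * q * g⁻¹ = (g * q * g⁻¹ * q⁻¹) * q := by group
      rw [h1]
      exact ((S : Subgroup G) ⊔ O).mul_mem (Subgroup.mem_sup_right (hcongr q hq g))
        (Subgroup.mem_sup_left (hQ0S hq))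
  obtain ⟨n, hn, hnT⟩ := conj_into_sylow S O T hT2 hTle
  refine ⟨n * g, ?_, ?_⟩
  · intro q hq
    have hmem : g * q * g⁻¹ ∈ T :=
      ⟨q, Subgroup.mem_sup_right hq, rfl⟩
    have h1 := hnT _ hmem
    have h2 : n * (g * q * g⁻¹) * n⁻¹ = (n * g) * q * (n * g)⁻¹ := by group
    rw [h2] at h1
    have h3 : (n * g) * q * (n * g)⁻¹ * q⁻¹ ∈ (S : Subgroup G) :=
      (S : Subgroup G).mul_mem h1 ((S : Subgroup G).inv_mem (hQ0S hq))
    have h4 := Subgroup.disjoint_def.mp hdisj (hcongr q hq (n * g)) h3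
    exact mul_inv_eq_one.mp h4
  · intro x hx
    have hmem : g * x * g⁻¹ ∈ T := ⟨x, Subgroup.mem_sup_left hx, rfl⟩
    have h1 := hnT _ hmem
    have hy := hg x hx
    have h2 : n * (g * x * g⁻¹) * n⁻¹ * (g * x * g⁻¹)⁻¹ ∈ (S : Subgroup G) :=
      (S : Subgroup G).mul_mem h1 ((S : Subgroup G).inv_mem hy)
    have h3 : n * (g * x * g⁻¹) * n⁻¹ * (g * x * g⁻¹)⁻¹ ∈ O := by
      have : n * (g * x * g⁻¹) * n⁻¹ * (g * x * g⁻¹)⁻¹ =
          n * ((g * x * g⁻¹) * n⁻¹ * (g * x * g⁻¹)⁻¹) := by group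
      rw [this]
      exact O.mul_mem hn (hOn.conj_mem _ (O.inv_mem hn) _)
    have h4 := Subgroup.disjoint_def.mp hdisj h3 h2
    have h5 := mul_inv_eq_one.mp h4
    rw [← h5]
    group

/-- `S ∩ Z*(G)` is central in `F_S(G)`. -/
theorem isCentral_inf_comap_center [Finite G] (S : Sylow 2 G) :
    (Cfsg.groupFusionSystem (S : Subgroup G)).IsCentral
      ((S : Subgroup G) ⊓ (Subgroup.center (G ⧸ Cfsg.oddCore G)).comap
        (QuotientGroup.mk' (Cfsg.oddCore G))) := by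
  set Q0 : Subgroup G := (S : Subgroup G) ⊓ (Subgroup.center (G ⧸ Cfsg.oddCore G)).comap
        (QuotientGroup.mk' (Cfsg.oddCore G)) with hQ0def
  have hQ0S : Q0 ≤ (S : Subgroup G) := inf_le_left
  have hQ0 : ∀ q ∈ Q0, ∀ g : G, q * g * q⁻¹ * g⁻¹ ∈ Cfsg.oddCore G := fun q hq =>
    (mem_comap_center_iff q).mp (Subgroup.mem_inf.mp hq).2
  refine ⟨hQ0S, ?_⟩
  rintro P φ ⟨hPS, hφS, g, hg⟩
  have hgS : ∀ x ∈ P, g * x * g⁻¹ ∈ (S : Subgroup G) := by
    intro x hx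
    have := hφS ⟨x, hx⟩
    rwa [hg] at this
  obtain ⟨g', hg'Q, hg'P⟩ := exists_centralizing_conj S Q0 hQ0S hQ0 P hPS g hgS
  have himage : ∀ z ∈ P ⊔ Q0, g' * z * g'⁻¹ ∈ (S : Subgroup G) := by
    have hle : (P ⊔ Q0).map (MulAut.conj g').toMonoidHom ≤ (S : Subgroup G) := by
      rw [Subgroup.map_sup]
      apply sup_le
      · rintro _ ⟨x, hx, rfl⟩
        show g' * x * g'⁻¹ ∈ (S : Subgroup G)
        rw [hg'P x hx]
        exact hgS x hx
      · rintro _ ⟨q, hq, rfl⟩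
        show g' * q * g'⁻¹ ∈ (S : Subgroup G)
        rw [hg'Q q hq]
        exact hQ0S hq
    intro z hz
    exact hle ⟨z, hz, rfl⟩
  refine ⟨Cfsg.conjHom (P ⊔ Q0) g', ⟨sup_le hPS hQ0S, fun x => himage x x.2, g', fun x => rfl⟩,
    ?_, ?_⟩
  · intro x
    show g' * (x : G) * g'⁻¹ = φ x
    rw [hg'P x x.2, hg x]
  · intro q
    show g' * (q : G) * g'⁻¹ = q
    exact hg'Q q q.2

/-- S5094 from the Z*-theorem: `Z(F_S(G)) = S ∩ Z*(G)`. -/
theorem center_groupFusionSystem [Finite G] (hZ : ZStarStatement.{u}) (S : Sylow 2 G) :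
    (Cfsg.groupFusionSystem (S : Subgroup G)).center =
      (S : Subgroup G) ⊓ (Subgroup.center (G ⧸ Cfsg.oddCore G)).comap
        (QuotientGroup.mk' (Cfsg.oddCore G)) := by
  apply le_antisymm
  · apply sSup_le
    intro Q hQ x hx
    have hQ' : (Cfsg.groupFusionSystem (S : Subgroup G)).IsCentral Q := hQ
    rw [Subgroup.mem_inf]
    refine ⟨hQ'.1 hx, ?_⟩
    rw [mem_comap_center_iff]
    exact gz hZ S x (hQ'.1 hx) (fun j => isoIn_of_isCentral (S : Subgroup G) hQ' (Q.pow_mem hx j))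
  · exact le_sSup (isCentral_inf_comap_center S)

end Fusion

end Cfsg.Agent.Helper23.ZStarCons
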