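import Mathlib
import Cfsg.Prelude.Def_Balance
import Cfsg.Prelude.Def_Local
import Cfsg.Agent.Helper23.ZStarCons
import Cfsg.Agent.Helper21.Quasisimple

set_option autoImplicit false

/-!
# Quasisimple groups of `2`-rank one and classical involutions (helper23)

From the statement of the Brauer–Suzuki theorem: a quasisimple group of even order and `2`-rank one
has generalized quaternion Sylow `2`-subgroups and a central involution
(`quasisimple_rank_one`); consequence `classical_involution_of_terminal` (= S1307).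
-/

namespace Cfsg.Agent.Helper23.ZStarCons

open scoped commutatorElement

universe u

section Quasi

variable {H : Type u} [Group H]

theorem no_kleinFour_of_pRankLE (hrk : Cfsg.PRankLE 2 1 H) : ∀ E : Subgroup H, ¬ IsKleinFour E := by
  intro E hE
  have hcomm : IsMulCommutative E :=
    ⟨⟨fun a b => mul_comm_of_exponent_two hE.exponent_two a b⟩⟩
  have hsq : ∀ a ∈ E, a ^ 2 = 1 := by
    intro a ha
    have h := Monoid.pow_exponent_eq_one (⟨a, ha⟩ : E)
    rw [hE.exponent_two] at h
    have := congrArg Subtype.val h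
    simpa using this
  have h1 := hrk E hcomm hsq
  rw [hE.card_four] at h1
  omega

theorem quasisimple_rank_one (hBS : BSStatement.{u}) [Finite H]
    (hq : Cfsg.IsQuasisimple H) (heven : Even (Nat.card H)) (hrk : Cfsg.PRankLE 2 1 H) :
    ∃ t : H, orderOf t = 2 ∧ t ∈ Subgroup.center H ∧
      ∃ S : Sylow 2 H, ∃ n : ℕ,
        Nonempty ((S : Subgroup H) ≃* QuaternionGroup (2 ^ (n + 1))) := by
  have : Fact (Nat.Prime 2) := ⟨Nat.prime_two⟩
  have hrank := no_kleinFour_of_pRankLE hrk
  have h2H : 2 ∣ Nat.card H := even_iff_two_dvd.mp heven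
  obtain ⟨z, hz2, N, hN, hNodd, hzN⟩ := rank_one hBS heven hrank
  have hperf : Group.IsPerfect H := hq.1
  -- `N` is proper, hence central
  have hNtop : N ≠ ⊤ := by
    intro h
    rw [h, Subgroup.card_top] at hNodd
    exact (Nat.not_even_iff_odd.mpr hNodd) heven
  -- the preimage of the centre of `H ⧸ N`
  haveI := hN
  set M : Subgroup H := (Subgroup.center (H ⧸ N)).comap (QuotientGroup.mk' N) with hMdef
  have hMn : M.Normal := Subgroup.Normal.comap inferInstance _
  have hzM : z ∈ M := by
    rw [hMdef, Subgroup.mem_comap, Subgroup.mem_center_iff]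
    intro gb
    obtain ⟨g, rfl⟩ := QuotientGroup.mk'_surjective N gb
    have h1 : QuotientGroup.mk' N (z * g * z⁻¹ * g⁻¹) = 1 :=
      (QuotientGroup.eq_one_iff _).mpr (hzN g)
    rw [map_mul, map_mul, map_mul, map_inv, map_inv] at h1
    have h2 := mul_inv_eq_one.mp h1
    have h3 := mul_inv_eq_iff_eq_mul.mp h2
    exact h3.symm
  have hMtop : M ≠ ⊤ := by
    intro h
    apply hNtop
    -- `H ⧸ N` abelian, so the commutator subgroup lies in `N`
    have hcomm : commutator H ≤ N := by
      rw [commutator_def, Subgroup.commutator_le]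
      intro a _ b _
      have ha : a ∈ M := by rw [h]; exact Subgroup.mem_top a
      rw [hMdef, Subgroup.mem_comap, Subgroup.mem_center_iff] at ha
      have h1 := ha (QuotientGroup.mk' N b)
      rw [← QuotientGroup.eq_one_iff]
      show QuotientGroup.mk' N ⁅a, b⁆ = 1
      rw [commutatorElement_def, map_mul, map_mul, map_mul, map_inv, map_inv, ← h1, mul_assoc,
        mul_assoc, mul_inv_cancel_left, mul_inv_cancel]
    rw [hperf.commutator_eq_top] at hcomm
    exact top_le_iff.mp hcomm
  have hMc : M ≤ Subgroup.center H := by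
    rcases Cfsg.Agent.Helper21.IsQuasisimple.normal_eq_top_or_le_center hq M with h | h
    · exact absurd h hMtop
    · exact h
  refine ⟨z, hz2, hMc hzM, ?_⟩
  -- Sylow structure
  let P : Sylow 2 H := default
  rcases Cfsg.Agent.Helper73.cyclic_or_quaternion P.2 (uniqueOrderP_sylow hrank P) with
    hcyc | ⟨-, n, hn, he⟩
  · exfalso
    obtain ⟨S', K, hK, hcompl⟩ := Cfsg.Agent.Helper53.hasNormalPComplement_two_of_isCyclic P hcyc
    haveI := hK
    have hidx : K.index = Nat.card (S' : Subgroup H) := by
      have h1 := hcompl.card_mul_card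
      have h2 := K.card_mul_index
      have hpos : 0 < Nat.card K := Nat.card_pos
      have : Nat.card K * K.index = Nat.card K * Nat.card (S' : Subgroup H) := by rw [h2, h1]
      exact Nat.eq_of_mul_eq_mul_left hpos this
    obtain ⟨a, ha⟩ := S'.2.exists_card_eq
    have h2S' : 2 ∣ Nat.card (S' : Subgroup H) := S'.dvd_card_of_dvd_card h2H
    have hcardq : Nat.card (H ⧸ K) = 2 ^ a := by
      rw [← Subgroup.index_eq_card, hidx, ha]
    have hpq : IsPGroup 2 (H ⧸ K) := IsPGroup.of_card hcardq
    haveI hnil : Group.IsNilpotent (H ⧸ K) := hpq.isNilpotent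
    have hsol : Group.IsSolvable (H ⧸ K) := inferInstance
    haveI hperfq : Group.IsPerfect (H ⧸ K) :=
      Group.IsPerfect.ofSurjective (f := QuotientGroup.mk' K) (QuotientGroup.mk'_surjective K)
    haveI hnt : Nontrivial (H ⧸ K) := by
      apply Finite.one_lt_card_iff_nontrivial.mp
      rw [hcardq]
      rw [ha] at h2S'
      have ha0 : a ≠ 0 := by
        rintro rfl
        simp at h2S'
      exact Nat.one_lt_two_pow ha0
    exact Group.IsPerfect.not_isSolvable (H ⧸ K) hsol
  · obtain ⟨n', rfl⟩ : ∃ n', n = n' + 1 := ⟨n - 1, by omega⟩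
    exact ⟨P, n', he⟩

end Quasi

section Classical

variable {G : Type u} [Group G]

/-- S1307 from the Brauer–Suzuki theorem. -/
theorem classical_involution_of_terminal (hBS : BSStatement.{u}) [Finite G] (x : G) (L : Subgroup G)
    (hLx : L ≤ Subgroup.centralizer ({x} : Set G))
    (hL : Cfsg.IsComponent (L.subgroupOf (Subgroup.centralizer ({x} : Set G))))
    (heven : Even (Nat.card ↥L)) (hrk : Cfsg.PRankLE 2 1 ↥L)
    (hne : ∀ y : G, orderOf y = 2 → y ∈ Subgroup.centralizer (L : Set G) →
      L ≤ Subgroup.centralizer ({y} : Set G) ∧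
        Cfsg.IsComponent (L.subgroupOf (Subgroup.centralizer ({y} : Set G)))) :
    ∃ t ∈ L, Cfsg.IsClassicalInvolution t := by
  have hqL : Cfsg.IsQuasisimple ↥L :=
    Cfsg.Agent.Helper21.IsQuasisimple.of_mulEquiv (Subgroup.subgroupOfEquivOfLe hLx) hL.2
  obtain ⟨t, ht2, htc, S, n, e⟩ := quasisimple_rank_one hBS hqL heven hrk
  have ht2' : orderOf (t : G) = 2 := by rw [Subgroup.orderOf_coe]; exact ht2
  have hcent : (t : G) ∈ Subgroup.centralizer (L : Set G) := by
    rw [Subgroup.mem_centralizer_iff]
    intro l hl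
    have h := Subgroup.mem_center_iff.mp htc ⟨l, hl⟩
    have := congrArg Subtype.val h
    simpa using this
  obtain ⟨hLt, hcomp⟩ := hne (t : G) ht2' hcent
  exact ⟨(t : G), t.2, ht2', L, hLt, t.2, hcomp.1, S, n, e⟩

end Classical

end Cfsg.Agent.Helper23.ZStarCons
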